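import Groth.Agent.SpApprox.AbsBase
import Groth.Agent.AlgSpLib.ShriekEqv
import Groth.Agent.AlgSpLib.Criteria
import Groth.Agent.SpQS.Basic
import Groth.Agent.SpDesc.AffStage

/-!
Properties of spaces under extension of the base along a morphism of quasi-separated schemes.
-/

set_option autoImplicit false
set_option linter.style.haveILetI false
set_option backward.isDefEq.respectTransparency false

universe u

noncomputable section

open CategoryTheory CategoryTheory.Limits AlgebraicGeometry Opposite AlgSp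

namespace Groth.Agent.SpApprox

open Groth.Agent.AlgSpLib Groth.Agent.AlgSpLib.ShriekS

variable {S S' : Scheme.{u}} (g : S ⟶ S')

theorem isQuasiSeparatedMor_jFun_iff {F G : Sp S} (f : F ⟶ G) :
    IsQuasiSeparatedMor ((jFun g).map f) ↔ IsQuasiSeparatedMor f := by
  have h : IsPullback ((jFun g).map (pullback.fst f f)) ((jFun g).map (pullback.snd f f)) ((jFun g).map f)
      ((jFun g).map f) := (isPullback_jFun_iff g _ _ f f).2 (IsPullback.of_hasPullback f f)
  let e := h.isoPullback
  have he : (jFun g).map (pullback.diagonal f) ≫ e.hom = pullback.diagonal ((jFun g).map f) := by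
    apply pullback.hom_ext <;>
      simp [e, ← Functor.map_comp]
  show RepWith @QuasiCompact (pullback.diagonal ((jFun g).map f)) ↔ RepWith @QuasiCompact (pullback.diagonal f)
  rw [← he]
  exact (repWith_comp_iso_iff _ e.hom).trans (repWith_jFun_iff g _ _)

theorem qs_jFun_iff [QuasiSeparatedSpace ↥S] [QuasiSeparatedSpace ↥S'] {F : Sp S} :
    IsQuasiSeparatedSp ((jFun g).obj F) ↔ IsQuasiSeparatedSp F := by
  rw [SpQS.isQuasiSeparatedSp_iff_mor (SpQS.baseStr F), ← isQuasiSeparatedMor_jFun_iff g]
  refine ⟨fun h => SpQS.isQuasiSeparatedMor_of_sp _ h, fun h => isQuasiSeparatedSp_of_mor h ?_⟩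
  haveI : QuasiSeparatedSpace (((Over.map g).obj (Over.mk (𝟙 S))).left) := ‹QuasiSeparatedSpace ↥S›
  refine SpDesc.qs_of_iso (jYonIso g (Over.mk (𝟙 S))).symm ((AlgSp.repWith_diag_yon_iff @QuasiCompact _).2 ?_)
  exact inferInstanceAs (QuasiCompact (pullback.diagonal ((Over.map g).obj (Over.mk (𝟙 S))).hom))

theorem qc_jFun_iff {F : Sp S} (hF : IsAlgSpace F) :
    IsQuasiCompactSp ((jFun g).obj F) ↔ IsQuasiCompactSp F := by
  constructor <;> intro h <;> haveI := compactSpace_of_isQuasiCompactSp h
  · obtain ⟨U', q, hU', -, hqs⟩ := exists_affine_chart_of_compact (isAlgSpace_jFun g hF)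
    obtain ⟨T, η, e, -, he, rfl⟩ := exists_decomp g q
    haveI := he
    haveI : IsAffine T.left := IsAffine.of_isIso e.inv.left
    exact isQuasiCompactSp_of_isSurjectiveMor hF η (isSurjectiveMor_of_repWith
      ((repWith_jFun_iff g _ η).1 ((repWith_iso_comp_iff _ _).1 ((repWith_iso_comp_iff _ _).1 hqs))))
      (isQuasiCompactSp_yon T)
  · obtain ⟨U, q, hU, -, hqs⟩ := exists_affine_chart_of_compact hF
    haveI : CompactSpace ((Over.map g).obj U).left := inferInstanceAs (CompactSpace U.left)
    exact isQuasiCompactSp_of_isSurjectiveMor (isAlgSpace_jFun g hF) ((jYonIso g U).hom ≫ (jFun g).map q)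
      (isSurjectiveMor_of_repWith ((repWith_iso_comp_iff _ _).2 ((repWith_jFun_iff g _ q).2 hqs)))
      (isQuasiCompactSp_yon _)

theorem locP_of_jFun {P : MorphismProperty Scheme.{u}} {F G : Sp S} {f : F ⟶ G} (h : LocP P ((jFun g).map f)) :
    LocP P f := fun U V a b k ha hb comm =>
  h ((jYonIso g U).hom ≫ (jFun g).map a) ((jYonIso g V).hom ≫ (jFun g).map b) ((Over.map g).map k)
    ((repWith_iso_comp_iff _ _).2 ((repWith_jFun_iff g _ a).2 ha))
    ((repWith_iso_comp_iff _ _).2 ((repWith_jFun_iff g _ b).2 hb))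
    (by rw [Category.assoc, ← Functor.map_comp, comm, Functor.map_comp, ← Category.assoc, ← jYonIso_naturality,
      Category.assoc])

end Groth.Agent.SpApprox

end
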