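import Groth.Agent.SpApprox.AbsProper
import Groth.Agent.SpApprox.AbsTransfer
import Groth.Agent.SpDesc.EventSep
import Groth.Agent.AlgSpLib.ProperRange
import Groth.Agent.HTopV.PhExtend
import Groth.Prelude.Def_W4stk3sptopologiesPh

/-!
Proper surjective morphisms are ph coverings.
-/

set_option autoImplicit false
set_option linter.style.haveILetI false
set_option backward.isDefEq.respectTransparency false

universe u

noncomputable section

open CategoryTheory CategoryTheory.Limits AlgebraicGeometry Opposite AlgSp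

namespace Groth.Agent.SpApprox

open Groth.Agent.AlgSpLib Groth.Agent.AlgSpLib.ShriekS

variable {S S' : Scheme.{u}} (g : S ⟶ S')

theorem mono_jπ_base : Mono (jπ g ((yon S).obj (Over.mk (𝟙 S)))) := by
  refine mono_of_points _ fun T a b e => (AlgSp.J S').uliftYonedaEquiv.injective ?_
  have h := congrArg (AlgSp.J S').uliftYonedaEquiv e
  rw [GrothendieckTopology.uliftYonedaEquiv_comp, GrothendieckTopology.uliftYonedaEquiv_comp] at h
  obtain ⟨⟨t, ht⟩, x, hpa⟩ : ∃ t x, (AlgSp.J S').uliftYonedaEquiv a =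
      (⟨t, x⟩ : Sec g ((yon S).obj (Over.mk (𝟙 S))).obj T) := ⟨_, _, rfl⟩
  obtain ⟨⟨t', ht'⟩, x', hpb⟩ : ∃ t x, (AlgSp.J S').uliftYonedaEquiv b =
      (⟨t, x⟩ : Sec g ((yon S).obj (Over.mk (𝟙 S))).obj T) := ⟨_, _, rfl⟩
  rw [hpa, hpb] at h
  rw [hpa, hpb]
  obtain rfl : t = t' := congrArg (fun q => (ULift.down q).left) h
  exact congrArg (Sigma.mk _) (ULift.ext _ _ (Over.OverMorphism.ext
    ((Category.comp_id _).symm.trans ((Over.w x.down).trans ((Over.w x'.down).symm.trans (Category.comp_id _))))))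

/-- a space separated and quasi-compact over an affine scheme has a finite surjective scheme cover -/
theorem exists_finite_cover_over_affine {Z : Over S} [IsAffine Z.left] {P : Sp S} (hP : IsAlgSpace P)
    (π : P ⟶ (yon S).obj Z) (hs : IsSeparatedMor π) (hq : IsQuasiCompactSp P) :
    ∃ (W : Over S) (k : (yon S).obj W ⟶ P), RepWith @IsFinite k ∧ IsSurjectiveMor k := by
  obtain ⟨F, e, he⟩ := exists_iso_slice Z.hom P π
  have hF : IsAlgSpace F := isAlgSpace_of_jFun Z.hom (hP.of_iso e.symm)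
  haveI := mono_jπ_base Z.hom
  haveI : QuasiSeparatedSpace Z.left := inferInstance
  have hFs : IsQuasiSeparatedSp F := by
    refine (SpQS.isQuasiSeparatedSp_iff_mor (SpQS.baseStr F)).2 ((isQuasiSeparatedMor_jFun_iff Z.hom _).1
      (ValLib.isQuasiSeparatedMor_of_separated _ (SpDesc.isSeparatedMor_of_comp_mono (jπ Z.hom _) ?_)))
    rw [map_jπ, ← he]
    exact isSeparatedMor_comp (UnivInjMor.isSeparatedMor_of_mono e.hom) hs
  have hFc : IsQuasiCompactSp F :=
    (qc_jFun_iff Z.hom hF).1 (SpDesc.qc_of_iso (isAlgSpace_jFun Z.hom hF) hP e hq)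
  obtain ⟨U, p, hpe, hps⟩ := hF.atlas
  obtain ⟨W, k, hk, hks, -, -⟩ := exists_cover_fp ⟨F, hF⟩ hFc hFs U p hpe hps
  have hk' : RepWith @IsFinite k := (isFiniteMor_iff_repWith _).1 hk
  refine ⟨(Over.map Z.hom).obj W, ((jYonIso Z.hom W).hom ≫ (jFun Z.hom).map k) ≫ e.hom,
    (repWith_comp_iso_iff _ _).2 ((repWith_iso_comp_iff _ _).2 ((repWith_jFun_iff Z.hom _ k).2 hk')),
    isSurjectiveMor_of_repWith ((repWith_comp_iso_iff _ _).2 ((repWith_iso_comp_iff _ _).2
      ((repWith_jFun_iff Z.hom @Surjective k).2 (repWith_surjective_of_isSurjectiveMor hk'.1 hks))))⟩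

theorem isPhCover_of_proper_surjective {X Y : Space S} (f : Y ⟶ X) (hf : IsProperMor f.hom)
    (hs : IsSurjectiveMor f.hom) : IsPhCover (fun _ : PUnit.{u + 1} => Y.obj) (fun _ => f.hom) := by
  refine ⟨fun _ => hf.2.1.1, fun Z hZ h => ?_⟩
  haveI := hZ
  have sq := IsPullback.of_hasPullback f.hom h
  have hP : IsAlgSpace (pullback f.hom h) :=
    isAlgSpace_of_isPullback_space X.property Y.property (IsAlgSpace.yon_obj Z) sq
  have hp : IsProperMor (pullback.snd f.hom h) :=
    isProperMor_baseChange Y.property X.property (IsAlgSpace.yon_obj Z) hP sq hf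
  obtain ⟨W, k, hk, hks⟩ := exists_finite_cover_over_affine hP (pullback.snd f.hom h) hp.1
    (hp.2.1.2 (IsAlgSpace.yon_obj Z) (isQuasiCompactSp_yon Z) (𝟙 _) (𝟙 _) _ (IsPullback.id_horiz _))
  obtain ⟨m, hm⟩ := exists_map_eq (k ≫ pullback.snd f.hom h)
  haveI : IsProper m.left := isProper_of_isProperMor (by
    rw [hm]
    exact isProperMor_comp hP (IsAlgSpace.yon_obj Z) (finMor_props (IsAlgSpace.yon_obj W) hP hk) hp)
  haveI : Surjective m.left := (repWith_yon_iff m).1 (repWith_surjective_of_isSurjectiveMor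
    ((repWith_yon_iff (P := ⊤) m).2 trivial).1 (by
      rw [hm]; exact surjectiveMor_comp hks (isSurjectiveMor_baseChange sq hs)))
  let E : PreZeroHypercover.{0} Z.left := ⟨PUnit, fun _ => W.left, fun _ => m.left⟩
  obtain ⟨F, hF, hFE⟩ := HTopV.exists_isStandardPh_of_locRef m.left (E := E)
    (fun y => ⟨W.left, 𝟙 _, inferInstance, ⟨y, rfl⟩, PUnit.unit, 𝟙 _, rfl⟩)
  refine ⟨F, hF, fun j => ?_⟩
  obtain ⟨i, a, ha⟩ := hFE j
  have ha' : a ≫ m.left = F.f j := ha.trans (Category.comp_id _)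
  let aa : Over.mk (F.f j ≫ Z.hom) ⟶ W := Over.homMk a (by rw [← Over.w m, reassoc_of% ha']; rfl)
  refine ⟨PUnit.unit, (yon S).map aa ≫ k ≫ pullback.fst f.hom h, ?_⟩
  rw [Category.assoc, Category.assoc, pullback.condition, ← Category.assoc k, ← hm, ← Functor.map_comp_assoc]
  exact congrArg (fun z => (yon S).map z ≫ h) (Over.OverMorphism.ext ha')

end Groth.Agent.SpApprox

end
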