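import Groth.Agent.SpDesc.SchemeStage
import Mathlib.AlgebraicGeometry.AffineTransitionLimit
import Mathlib.CategoryTheory.Limits.Constructions.Over.Connected

/-!
Past a representable member a tower of spaces with affine maps is a tower of schemes; lifts on affine opens descend.
-/

set_option autoImplicit false
set_option linter.style.haveILetI false
set_option backward.isDefEq.respectTransparency false

universe u

noncomputable section

open CategoryTheory CategoryTheory.Limits AlgebraicGeometry Opposite AlgSp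

namespace Groth.Agent.SpApprox

open Groth.Agent.AlgSpLib

variable {S : Scheme.{u}}

/-- the tower of schemes below a representable member -/
theorem exists_sch_tower {I : Type u} [SmallCategory I] [IsCofiltered I] (D : I ⥤ Sp S)
    (hDa : ∀ (i j : I) (φ : i ⟶ j), RepWith @IsAffineHom (D.map φ)) (c : Cone D) (hc : IsLimit c)
    (i₀ : I) {W₀ : Over S} (e₀ : D.obj i₀ ≅ (yon S).obj W₀) {T : Over S} (eT : (yon S).obj T ≅ c.pt) :
    ∃ (G : Over i₀ ⥤ Over S) (η : G ⋙ yon S ≅ Over.forget i₀ ⋙ D)
      (π : (Functor.const (Over i₀)).obj T.left ⟶ G ⋙ Over.forget S)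
      (_ : IsLimit (Cone.mk T.left π)) (pp : ∀ l, T ⟶ G.obj l),
      (∀ l, (pp l).left = π.app l) ∧
      (∀ l, (yon S).map (pp l) ≫ η.hom.app l = eT.hom ≫ c.π.app l.left) ∧
      (∀ {j k : Over i₀} (a : j ⟶ k), IsAffineHom (G.map a).left) := by
  have hW : ∀ l : Over i₀, ∃ (W : Over S) (ψ : (yon S).obj W ≅ D.obj l.left), True := fun l => by
    obtain ⟨W, z, v, sq, -⟩ := exists_repWith (hDa l.left i₀ l.hom) e₀.inv
    haveI := sq.isIso_fst_of_isIso
    exact ⟨W, asIso z, trivial⟩
  choose W ψ _ using hW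
  let G : Over i₀ ⥤ Over S :=
    { obj := W
      map := fun {j k} a => (yon S).preimage ((ψ j).hom ≫ D.map a.left ≫ (ψ k).inv)
      map_id := fun j => (yon S).map_injective (by simp)
      map_comp := fun {j k l} a b => (yon S).map_injective (by simp) }
  let η : G ⋙ yon S ≅ Over.forget i₀ ⋙ D := NatIso.ofComponents (fun l => ψ l) fun {j k} a => by
    show (yon S).map ((yon S).preimage _) ≫ (ψ k).hom = (ψ j).hom ≫ D.map a.left
    rw [Functor.map_preimage]
    simp
  let cO : Cone G :=
    { pt := T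
      π :=
      { app := fun l => (yon S).preimage (eT.hom ≫ c.π.app l.left ≫ (ψ l).inv)
        naturality := fun j k a => (yon S).map_injective (by
          show (yon S).map (𝟙 T ≫ (yon S).preimage _) = (yon S).map ((yon S).preimage _ ≫ G.map a)
          rw [Category.id_comp, Functor.map_comp, Functor.map_preimage, Functor.map_preimage]
          show _ = (_ : _) ≫ (yon S).map ((yon S).preimage ((ψ j).hom ≫ D.map a.left ≫ (ψ k).inv))
          rw [Functor.map_preimage, Category.assoc, Category.assoc, Iso.inv_hom_id_assoc, ← Category.assoc (c.π.app j.left), c.w]) } }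
  have h1 : IsLimit ((yon S).mapCone cO) := by
    have h2 := (Functor.Initial.isLimitWhiskerEquiv (Over.forget i₀) c).symm hc
    refine IsLimit.ofIsoLimit ((IsLimit.postcomposeInvEquiv η (c.whisker (Over.forget i₀))).symm h2)
      (Cone.ext eT.symm fun l => ?_)
    show c.π.app l.left ≫ (ψ l).inv = eT.inv ≫ (yon S).map ((yon S).preimage _)
    simp
  have h3 : IsLimit cO := isLimitOfReflects (yon S) h1
  haveI : IsConnected (Over i₀) := CategoryTheory.isConnected_of_hasTerminal _
  have h4 : IsLimit ((Over.forget S).mapCone cO) := isLimitOfPreserves (Over.forget S) h3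
  refine ⟨G, η, ((Over.forget S).mapCone cO).π, h4, fun l => cO.π.app l, fun l => rfl,
    fun l => ?_, fun {j k} a => ?_⟩
  · show (yon S).map ((yon S).preimage _) ≫ (ψ l).hom = _
    simp
  · refine (repWith_yon_iff (P := @IsAffineHom) (G.map a)).1 ?_
    show RepWith _ ((yon S).map ((yon S).preimage _))
    rw [Functor.map_preimage]
    exact (repWith_iso_comp_iff _ _).2 ((repWith_comp_iso_iff _ _).2 (hDa _ _ a.left))

/-- a lift of an affine open of the limit descends to a stage -/
theorem exists_lift_open {J : Type u} [Category.{u} J] [IsCofiltered J] (D : J ⥤ Scheme.{u}) (c : Cone D)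
    (hc : IsLimit c) [∀ {i j} (f : i ⟶ j), IsAffineHom (D.map f)] {i : J} {V : (D.obj i).Opens} (hV : IsAffineOpen V)
    {Q : Scheme.{u}} (q : Q ⟶ D.obj i) [LocallyOfFinitePresentation q]
    (a : (c.π.app i ⁻¹ᵁ V).toScheme ⟶ Q) (ha : a ≫ q = (c.π.app i ⁻¹ᵁ V).ι ≫ c.π.app i) :
    ∃ (l : Over i) (g : (D.map l.hom ⁻¹ᵁ V).toScheme ⟶ Q), g ≫ q = (D.map l.hom ⁻¹ᵁ V).ι ≫ D.map l.hom := by
  haveI hAff : ∀ l : Over i, IsAffine ((opensDiagram D i V).obj l) := fun l => hV.preimage (D.map l.hom)
  haveI : ∀ {j k : Over i} (f : j ⟶ k), IsAffineHom ((opensDiagram D i V).map f) := fun f => inferInstance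
  let t : opensDiagram D i V ⟶ (Functor.const (Over i)).obj (D.obj i) :=
    { app := fun l => (D.map l.hom ⁻¹ᵁ V).ι ≫ D.map l.hom
      naturality := fun j k f => by
        show (D.map f.left).resLE _ _ _ ≫ (D.map k.hom ⁻¹ᵁ V).ι ≫ D.map k.hom = _ ≫ 𝟙 _
        rw [Category.comp_id, Scheme.Hom.resLE_comp_ι_assoc, ← D.map_comp, Over.w f] }
  obtain ⟨l, g, -, hg⟩ := Scheme.exists_π_app_comp_eq_of_locallyOfFinitePresentation (opensDiagram D i V) t q
    (opensCone D c i V) (isLimitOpensCone D c hc i V) a (by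
      ext l
      show (c.π.app l.left).resLE _ _ _ ≫ (D.map l.hom ⁻¹ᵁ V).ι ≫ D.map l.hom = a ≫ q
      rw [Scheme.Hom.resLE_comp_ι_assoc, c.w, ha])
  exact ⟨l, g, hg⟩

end Groth.Agent.SpApprox
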