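import Groth.Agent.SpApprox.LimInt
import Groth.Agent.SpApprox.Tower
import Groth.Agent.SpDesc.Results
import Groth.Agent.RelNorm.SheetsStrata

/-!
Finite finitely presented scheme covers factoring locally through a given chart.
-/

set_option autoImplicit false
set_option linter.style.haveILetI false
set_option backward.isDefEq.respectTransparency false

universe u

noncomputable section

open CategoryTheory CategoryTheory.Limits AlgebraicGeometry Opposite AlgSp

namespace Groth.Agent.SpApprox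

open Groth.Agent.AlgSpLib Groth.Agent.SpDesc

variable {S : Scheme.{u}}

/-- the points near which a map lifts to the chart -/
def secLocus {X : Sp S} {U : Over S} (p : (yon S).obj U ⟶ X) {W : Over S} (h : (yon S).obj W ⟶ X) : W.left.Opens :=
  sSup {O | ∃ k : Over.mk (O.ι ≫ W.hom) ⟶ U, (yon S).map k ≫ p = (yon S).map (Over.homMk O.ι rfl : Over.mk (O.ι ≫ W.hom) ⟶ W) ≫ h}

theorem mem_secLocus_iff {X : Sp S} {U : Over S} (p : (yon S).obj U ⟶ X) {W : Over S} (h : (yon S).obj W ⟶ X)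
    (w : W.left) : w ∈ secLocus p h ↔ ∃ O : W.left.Opens, w ∈ O ∧ ∃ k : Over.mk (O.ι ≫ W.hom) ⟶ U,
      (yon S).map k ≫ p = (yon S).map (Over.homMk O.ι rfl : Over.mk (O.ι ≫ W.hom) ⟶ W) ≫ h := by
  unfold secLocus
  rw [TopologicalSpace.Opens.mem_sSup]
  exact ⟨fun ⟨O, hO, hw⟩ => ⟨O, hw, hO⟩, fun ⟨O, hw, hO⟩ => ⟨O, hO, hw⟩⟩

theorem preimage_secLocus_le {X : Sp S} {U : Over S} (p : (yon S).obj U ⟶ X) {W W' : Over S}
    (h : (yon S).obj W ⟶ X) (c : W' ⟶ W) (h' : (yon S).obj W' ⟶ X) (e : (yon S).map c ≫ h = h') :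
    c.left ⁻¹ᵁ secLocus p h ≤ secLocus p h' := fun w hw => by
  obtain ⟨O, hO, k, hk⟩ := (mem_secLocus_iff p h _).1 hw
  let c' : Over.mk ((c.left ⁻¹ᵁ O).ι ≫ W'.hom) ⟶ Over.mk (O.ι ≫ W.hom) := Over.homMk (c.left ∣_ O) (by
    show (c.left ∣_ O) ≫ O.ι ≫ W.hom = _
    rw [morphismRestrict_ι_assoc, Over.w c]
    rfl)
  refine (mem_secLocus_iff p h' w).2 ⟨c.left ⁻¹ᵁ O, hO, c' ≫ k, ?_⟩
  rw [Functor.map_comp, Category.assoc, hk, ← e, ← Functor.map_comp_assoc, ← Functor.map_comp_assoc]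
  congr 2
  exact Over.OverMorphism.ext (morphismRestrict_ι c.left O)

/-- liftings over an affine open of the limit hold at a stage -/
theorem exists_secLocus_stage {X : Sp S} {U : Over S} {p : (yon S).obj U ⟶ X} (hp : RepWith @Etale p)
    {J : Type u} [SmallCategory J] [IsCofiltered J] (G : J ⥤ Over S)
    [∀ {i j} (f : i ⟶ j), IsAffineHom ((G ⋙ Over.forget S).map f)] (h : ∀ l, (yon S).obj (G.obj l) ⟶ X)
    (hh : ∀ {i j} (f : i ⟶ j), (yon S).map (G.map f) ≫ h j = h i) {T : Over S} (g : (yon S).obj T ⟶ X)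
    (π : (Functor.const J).obj T.left ⟶ G ⋙ Over.forget S) (hL : IsLimit (Cone.mk T.left π))
    (pp : ∀ l, T ⟶ G.obj l) (hpp : ∀ l, (pp l).left = π.app l) (hg : ∀ l, (yon S).map (pp l) ≫ h l = g)
    (y : T.left) (O : T.left.Opens) (hy : y ∈ O) (c : Over.mk (O.ι ≫ T.hom) ⟶ U)
    (hc : (yon S).map c ≫ p = (yon S).map (Over.homMk O.ι rfl : Over.mk (O.ι ≫ T.hom) ⟶ T) ≫ g) :
    ∃ l, π.app l y ∈ secLocus p (h l) := by
  obtain ⟨_, ⟨_, ⟨i, V, hV, rfl⟩, rfl⟩, hyV, hVO⟩ :=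
    (isBasis_preimage_isAffineOpen (G ⋙ Over.forget S) (Cone.mk T.left π) hL).exists_subset_of_mem_open hy O.2
  obtain ⟨Q, fstQ, q, sq, hq⟩ := exists_repWith hp (h i)
  haveI : Etale q.left := hq
  let P : T.left.Opens := π.app i ⁻¹ᵁ V
  let jP : Over.mk (P.ι ≫ T.hom) ⟶ T := Over.homMk P.ι rfl
  let hPO : Over.mk (P.ι ≫ T.hom) ⟶ Over.mk (O.ι ≫ T.hom) := Over.homMk (T.left.homOfLE (U := P) (V := O) hVO) (by
    show T.left.homOfLE _ ≫ O.ι ≫ T.hom = P.ι ≫ T.hom
    rw [Scheme.homOfLE_ι_assoc])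
  have hPO' : hPO ≫ Over.homMk O.ι rfl = jP := Over.OverMorphism.ext (Scheme.homOfLE_ι T.left (U := P) (V := O) hVO)
  obtain ⟨a, ha⟩ := exists_map_eq (sq.lift ((yon S).map (hPO ≫ c)) ((yon S).map (jP ≫ pp i)) (by
    rw [Functor.map_comp, Category.assoc, hc, ← Functor.map_comp_assoc, hPO', Functor.map_comp, Category.assoc, hg]))
  have ha2 : a ≫ q = jP ≫ pp i := (yon S).map_injective (by rw [Functor.map_comp, ha, sq.lift_snd])
  obtain ⟨l, g', hg'⟩ := exists_lift_open (G ⋙ Over.forget S) (Cone.mk T.left π) hL (i := i) (V := V) hV q.left a.left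
    (by
      refine (congrArg (fun k => k.left) ha2).trans ?_
      show P.ι ≫ (pp i).left = _
      rw [hpp])
  refine ⟨l.left, (mem_secLocus_iff p (h l.left) _).2 ⟨(G.map l.hom).left ⁻¹ᵁ V, ?_, ?_⟩⟩
  · show (G.map l.hom).left (π.app l.left y) ∈ V
    have h1 : π.app i = π.app l.left ≫ (G ⋙ Over.forget S).map l.hom :=
      (Category.id_comp _).symm.trans (π.naturality l.hom)
    have h2 : π.app i y ∈ V := hyV
    rw [h1] at h2
    exact h2
  · let O' := (G.map l.hom).left ⁻¹ᵁ V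
    let g'' : Over.mk (O'.ι ≫ (G.obj l.left).hom) ⟶ Q := Over.homMk g' (by
      show g' ≫ Q.hom = O'.ι ≫ (G.obj l.left).hom
      rw [← Over.w q, ← Category.assoc]
      refine (congrArg (· ≫ (G.obj i).hom) hg').trans ?_
      exact (Category.assoc _ _ _).trans (congrArg (O'.ι ≫ ·) (Over.w (G.map l.hom))))
    obtain ⟨k, hk⟩ := exists_map_eq ((yon S).map g'' ≫ fstQ)
    refine ⟨k, ?_⟩
    have e2 : g'' ≫ q = (Over.homMk O'.ι rfl : Over.mk (O'.ι ≫ (G.obj l.left).hom) ⟶ G.obj l.left) ≫ G.map l.hom :=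
      Over.OverMorphism.ext hg'
    rw [hk, Category.assoc, sq.w, ← Functor.map_comp_assoc, e2, Functor.map_comp, Category.assoc, hh]

theorem exists_cover_fp [QuasiSeparatedSpace ↥S] (X : Space S) (hqc : IsQuasiCompactSp X.obj)
    (hqs : IsQuasiSeparatedSp X.obj) (U : Over S) (p : (yon S).obj U ⟶ X.obj) (hpe : RepWith @Etale p)
    (hps : RepWith @Surjective p) :
    ∃ (Y : Over S) (g : (yon S).obj Y ⟶ X.obj), IsFiniteMor g ∧ IsSurjectiveMor g ∧ IsFinitePresentationMor g ∧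
      ∀ y : ↥Y.left, ∃ (V : Y.left.Opens), y ∈ V ∧
        ∃ k : Over.mk (V.ι ≫ Y.hom) ⟶ U, (yon S).map k ≫ p = (yon S).map (Over.homMk V.ι) ≫ g := by
  classical
  obtain ⟨Y₁, g₁, hg₁, hg₁s, hloc⟩ := Groth.Agent.RelNorm.exists_integral_cover X hqc hqs p hpe hps
  let Y₁' : Space S := ⟨(yon S).obj Y₁, IsAlgSpace.yon_obj Y₁⟩
  let f : Y₁' ⟶ X := ObjectProperty.homMk g₁
  obtain ⟨I, _, hdir, hne, D, t, c, hc, e, hD, hDa, ht, hcomp⟩ :=
    exists_limit_finite f ((isIntegralMor_iff_repWith _).2 hg₁) hqc hqs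
  haveI := hdir
  haveI := hne
  haveI : IsFiltered I := inferInstance
  haveI : IsCofiltered Iᵒᵖ := inferInstance
  have htF : ∀ l, RepWith @IsFinite (t.app l) := fun l => (isFiniteMor_iff_repWith _).1 (ht l).1
  have hDq : ∀ l, IsQuasiCompactSp (D.obj l) ∧ IsQuasiSeparatedSp (D.obj l) := fun l =>
    qcqs_of_affine (hD l) X.property (a := t.app l) (repWith_mono (P := @IsFinite) (Q := @IsAffineHom)
      (fun _ _ r hr => have : IsFinite r := hr; inferInstance) (htF l)) hqc hqs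
  have hDa' : ∀ i j (φ : i ⟶ j), RepWith @IsAffineHom (D.map φ) := fun i j φ =>
    (isAffineMor_iff_repWith _).1 (hDa i j φ)
  obtain ⟨i₀, W₀, ⟨e₀⟩⟩ := exists_representable_stage D hD hDa (fun l => (hDq l).1) (fun l => (hDq l).2) c hc e.symm
  obtain ⟨G, η, π, hG, pp, hpp, hppη, hGa⟩ := exists_sch_tower D hDa' c hc i₀ e₀ e.symm
  haveI : ∀ {i j : Over i₀} (a : i ⟶ j), IsAffineHom ((G ⋙ Over.forget S).map a) := fun a => hGa a
  let h : ∀ l : Over i₀, (yon S).obj (G.obj l) ⟶ X.obj := fun l => η.hom.app l ≫ t.app l.left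
  have hh : ∀ {i j : Over i₀} (a : i ⟶ j), (yon S).map (G.map a) ≫ h j = h i := fun {i j} a => by
    have h1 := η.hom.naturality a
    dsimp at h1
    show (yon S).map (G.map a) ≫ η.hom.app j ≫ t.app j.left = η.hom.app i ≫ t.app i.left
    rw [← Category.assoc, h1, Category.assoc, t.naturality a.left]
    exact congrArg (η.hom.app i ≫ ·) (Category.comp_id _)
  have hppg : ∀ l, (yon S).map (pp l) ≫ h l = g₁ := fun l => by
    show (yon S).map (pp l) ≫ η.hom.app l ≫ t.app l.left = g₁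
    rw [← Category.assoc, hppη, Category.assoc]
    exact hcomp l.left
  haveI hGc : ∀ l, CompactSpace ((G ⋙ Over.forget S).obj l) := fun l =>
    compactSpace_of_sp (qc_of_iso (IsAlgSpace.yon_obj (G.obj l)) (hD l.left) (η.app l) (hDq l.left).1)
  haveI : CompactSpace ↥Y₁.left := Scheme.compactSpace_of_isLimit (G ⋙ Over.forget S) _ hG
  have hst : ∀ y : Y₁.left, ∃ l, π.app l y ∈ secLocus p (h l) := fun y => by
    obtain ⟨O, cy, hy, hcy⟩ := hloc y
    exact exists_secLocus_stage hpe G h hh g₁ π hG pp hpp hppg y O hy cy hcy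
  choose lst hlst using hst
  obtain ⟨s, hs⟩ := isCompact_univ.elim_finite_subcover
    (fun y : Y₁.left => ((π.app (lst y) ⁻¹ᵁ secLocus p (h (lst y)) : Y₁.left.Opens) : Set Y₁.left))
    (fun y => (π.app (lst y) ⁻¹ᵁ secLocus p (h (lst y))).2) (fun y _ => Set.mem_iUnion.2 ⟨y, hlst y⟩)
  obtain ⟨n, hn⟩ := IsCofiltered.inf_objs_exists (s.image lst)
  have htop : π.app n ⁻¹ᵁ secLocus p (h n) = ⊤ := eq_top_iff.2 fun z _ => by
    obtain ⟨y, hy, hz⟩ := Set.mem_iUnion₂.1 (hs (Set.mem_univ z))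
    obtain ⟨φ⟩ := hn (Finset.mem_image_of_mem lst hy)
    show π.app n z ∈ secLocus p (h n)
    refine preimage_secLocus_le p (h (lst y)) (G.map φ) (h n) (hh φ) ?_
    show (G.map φ).left (π.app n z) ∈ secLocus p (h (lst y))
    have h1 : π.app (lst y) = π.app n ≫ (G ⋙ Over.forget S).map φ :=
      (Category.id_comp _).symm.trans (π.naturality φ)
    have h2 : π.app (lst y) z ∈ secLocus p (h (lst y)) := hz
    rw [h1] at h2
    exact h2
  obtain ⟨m, φ, hφ⟩ := exists_map_eq_top (G ⋙ Over.forget S) (Cone.mk Y₁.left π) hG (secLocus p (h n)) htop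
  have hF : RepWith @IsFinite (h m) := (repWith_iso_comp_iff (η.app m).hom _).2 (htF m.left)
  have hlfp : RepWith @LocallyOfFinitePresentation (h m) := (repWith_iso_comp_iff (η.app m).hom _).2
    ((locP_iff_repWith etST_lfp X.property (htF m.left).1).1 (ht m.left).2.1)
  refine ⟨G.obj m, h m, (isFiniteMor_iff_repWith _).2 hF, fun x => ?_,
    ⟨(locP_iff_repWith etST_lfp X.property hF.1).2 hlfp,
      (isQuasiCompactMor_iff_repWith (IsAlgSpace.yon_obj _) X.property hF.1).2 (repWith_mono (P := @IsFinite)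
        (Q := @QuasiCompact) (fun _ _ r hr => have : IsFinite r := hr; inferInstance) hF),
      (isQuasiSeparatedMor_iff_repWith (IsAlgSpace.yon_obj _) X.property hF.1).2 (repWith_mono (P := @IsFinite)
        (Q := @QuasiSeparated) (fun _ _ r hr => have : IsFinite r := hr; inferInstance) hF)⟩,
    fun w => (mem_secLocus_iff p (h m) w).1 ?_⟩
  · obtain ⟨z, rfl⟩ := isSurjectiveMor_of_repWith hg₁s x
    exact ⟨Points.map ((yon S).map (pp m)) z, by rw [← Points.map_comp, hppg]⟩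
  · exact preimage_secLocus_le p (h n) (G.map φ) (h m) (hh φ) (hφ.ge trivial)

end Groth.Agent.SpApprox
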