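import Groth.Agent.SpApprox.HenselClopen
import Groth.Agent.SpDesc.Results

/-!
A variant of Chow's lemma over a quasi-compact quasi-separated algebraic space.
-/

set_option autoImplicit false
set_option linter.style.haveILetI false
set_option backward.isDefEq.respectTransparency false

universe u

noncomputable section

open CategoryTheory CategoryTheory.Limits AlgebraicGeometry AlgSp

namespace Groth.Agent.SpApprox

open Groth.Agent.AlgSpLib

variable {S : Scheme.{u}}

theorem finMor_props {A B : Sp S} (hA : IsAlgSpace A) (hB : IsAlgSpace B) {g : A ⟶ B} (hg : RepWith @IsFinite g) :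
    IsProperMor g :=
  (isProperMor_iff_repWith hA hB hg.1).2 (repWith_mono (fun _ _ r hr => by
    have : IsFinite r := hr
    show IsProper r
    infer_instance) hg)

theorem surjectiveMor_comp {A B C : Sp S} {f : A ⟶ B} {g : B ⟶ C} (hf : IsSurjectiveMor f) (hg : IsSurjectiveMor g) :
    IsSurjectiveMor (f ≫ g) := fun x => by
  obtain ⟨y, rfl⟩ := hg x
  obtain ⟨z, rfl⟩ := hf y
  exact ⟨z, Points.map_comp _ _ _⟩

/-- properties of a map of schemes from those of the map of spaces -/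
theorem sch_props_of_mor {T Y' : Over S} {m : T ⟶ Y'} (h₁ : IsSeparatedMor ((yon S).map m))
    (h₂ : IsFiniteTypeMor ((yon S).map m)) :
    IsSeparated m.left ∧ LocallyOfFiniteType m.left ∧ QuasiCompact m.left := by
  have hR : Representable ((yon S).map m) := Functor.relativelyRepresentable.of_diag (IsAlgSpace.yon_obj Y').diag _
  exact ⟨(repWith_yon_iff (P := @IsSeparated) m).1
      ((isSeparatedMor_iff_repWith (IsAlgSpace.yon_obj T) (IsAlgSpace.yon_obj Y') hR).1 h₁),
    (repWith_yon_iff (P := @LocallyOfFiniteType) m).1 ((locP_iff_repWith etST_lft (IsAlgSpace.yon_obj Y') hR).1 h₂.1),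
    (repWith_yon_iff (P := @QuasiCompact) m).1
      ((isQuasiCompactMor_iff_repWith (IsAlgSpace.yon_obj T) (IsAlgSpace.yon_obj Y') hR).1 h₂.2)⟩

theorem qcqs_sch {Y : Space S} {Y' : Over S} {h : (yon S).obj Y' ⟶ Y.obj} (hh : RepWith @IsFinite h)
    (hY1 : IsQuasiCompactSp Y.obj) (hY2 : IsQuasiSeparatedSp Y.obj) :
    IsQuasiCompactSp ((yon S).obj Y') ∧ IsQuasiSeparatedSp ((yon S).obj Y') :=
  SpDesc.qcqs_of_affine (IsAlgSpace.yon_obj Y') Y.property (a := h) (repWith_mono (P := @IsFinite) (Q := @IsAffineHom)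
    (fun _ _ r hr => have : IsFinite r := hr; inferInstance) hh) hY1 hY2

theorem sch_qs [QuasiSeparatedSpace ↥S] {Y' : Over S} (h : IsQuasiSeparatedSp ((yon S).obj Y')) :
    QuasiSeparatedSpace Y'.left := by
  haveI : QuasiCompact (pullback.diagonal Y'.hom) := (repWith_diag_yon_iff @QuasiCompact Y').1 h
  haveI : QuasiSeparated Y'.hom := ⟨inferInstance⟩
  exact quasiSeparatedSpace_of_quasiSeparated Y'.hom

/-- a scheme finitely covering the pullback to a finite scheme cover of the base -/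
theorem exists_cover_over_cover [QuasiSeparatedSpace ↥S] {X Y : Space S} (f : X ⟶ Y) (hY1 : IsQuasiCompactSp Y.obj)
    (hY2 : IsQuasiSeparatedSp Y.obj) (hf1 : IsSeparatedMor f.hom) (hf2 : IsFiniteTypeMor f.hom) :
    ∃ (Y' : Over S) (h : (yon S).obj Y' ⟶ Y.obj) (X₁ : Over S) (g : (yon S).obj X₁ ⟶ X.obj) (m : X₁ ⟶ Y'),
      RepWith @IsFinite h ∧ IsSurjectiveMor h ∧ IsProperMor g ∧ IsSurjectiveMor g ∧ (yon S).map m ≫ h = g ≫ f.hom ∧
      IsSeparated m.left ∧ LocallyOfFiniteType m.left ∧ QuasiCompact m.left := by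
  obtain ⟨U, π, hπ, hπs⟩ := Y.property.atlas
  obtain ⟨Y', h, hh, hhs, -, -⟩ := exists_cover_fp Y hY1 hY2 U π hπ hπs
  have hhR := (isFiniteMor_iff_repWith _).1 hh
  obtain ⟨hY'q, hY's⟩ := qcqs_sch hhR hY1 hY2
  have hT := IsAlgSpace.yon_obj Y'
  have sqP := IsPullback.of_hasPullback f.hom h
  have hP : IsAlgSpace (pullback f.hom h) := isAlgSpace_of_isPullback_space Y.property X.property hT sqP
  have hq1 : IsSeparatedMor (pullback.snd f.hom h) := isSeparatedMor_baseChange sqP hf1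
  have hq2 : IsFiniteTypeMor (pullback.snd f.hom h) :=
    ⟨locP_baseChange etST_lft X.property Y.property hP hT sqP hf2.1,
      fun _ _ hW hWq _ _ _ sq' => hf2.2 hW hWq _ _ _ (sq'.paste_horiz sqP)⟩
  have hPs : IsQuasiSeparatedSp (pullback f.hom h) :=
    isQuasiSeparatedSp_of_mor (ValLib.isQuasiSeparatedMor_of_separated _ hq1) hY's
  have hPq : IsQuasiCompactSp (pullback f.hom h) := hq2.2 hT hY'q _ _ _
    (IsPullback.of_horiz_isIso (fst := 𝟙 _) (snd := pullback.snd f.hom h) (f := pullback.snd f.hom h) (g := 𝟙 _) ⟨by simp⟩)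
  obtain ⟨U', π', hπ', hπs'⟩ := hP.atlas
  obtain ⟨X₁, g, hg, hgs, -, -⟩ := exists_cover_fp ⟨_, hP⟩ hPq hPs U' π' hπ' hπs'
  have hgP := finMor_props (IsAlgSpace.yon_obj X₁) hP ((isFiniteMor_iff_repWith _).1 hg)
  obtain ⟨m, hm⟩ := exists_map_eq (g ≫ pullback.snd f.hom h)
  obtain ⟨hm1, hm2, hm3⟩ := sch_props_of_mor (m := m) (hm ▸ isSeparatedMor_comp hgP.1 hq1)
    (hm ▸ ⟨locP_comp etST_lft hP hT hgP.2.1.1 hq2.1, isQuasiCompactMor_comp hP hT hgP.2.1.2 hq2.2⟩)
  refine ⟨Y', h, X₁, g ≫ pullback.fst f.hom h, m, hhR, hhs, ?_, surjectiveMor_comp hgs ?_, ?_, hm1, hm2, hm3⟩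
  · exact isProperMor_comp hP X.property hgP (finMor_props hP X.property (repWith_baseChange sqP.flip hhR))
  · exact isSurjectiveMor_baseChange sqP.flip hhs
  · rw [hm, Category.assoc, Category.assoc, pullback.condition]

theorem exists_chow_space [QuasiSeparatedSpace ↥S] {X Y : Space S} (f : X ⟶ Y) (hY1 : IsQuasiCompactSp Y.obj)
    (hY2 : IsQuasiSeparatedSp Y.obj) (hf1 : IsSeparatedMor f.hom) (hf2 : IsFiniteTypeMor f.hom) :
    ∃ (X' Xb : Space S) (a : X' ⟶ X) (b : X' ⟶ Xb) (c : Xb ⟶ Y), b ≫ c = a ≫ f ∧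
      IsProperMor a.hom ∧ IsSurjectiveMor a.hom ∧ RepWith @IsOpenImmersion b.hom ∧
        IsProperMor c.hom ∧ Representable c.hom := by
  obtain ⟨Y', h, X₁, g, m, hh, -, hg, hgs, hcomm, hm1, hm2, hm3⟩ := exists_cover_over_cover f hY1 hY2 hf1 hf2
  obtain ⟨hY'q, hY's⟩ := qcqs_sch hh hY1 hY2
  haveI : CompactSpace Y'.left := SpDesc.compactSpace_of_sp hY'q
  haveI := sch_qs hY's
  haveI : CompactSpace X₁.left := QuasiCompact.compactSpace_of_compactSpace m.left
  haveI : QuasiSeparatedSpace X₁.left := quasiSeparatedSpace_of_quasiSeparated m.left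
  obtain ⟨n, X', π, j, hj, hjf, hπ, hπs⟩ := Chow.exists_chow_single m.left
  haveI := hπ
  haveI := hπs
  haveI := hj
  haveI : IsProper (CohB1.ProjSpaceOver.toBase n Y'.left) := Chow.isProper_toBase n _
  haveI : QuasiCompact (j ≫ CohB1.ProjSpaceOver.toBase n Y'.left) := by rw [hjf]; infer_instance
  haveI : QuasiCompact j := QuasiCompact.of_comp j (CohB1.ProjSpaceOver.toBase n Y'.left)
  let T : Over S := Over.mk (π ≫ X₁.hom)
  let πo : T ⟶ X₁ := Over.homMk π rfl
  let q : j.image ⟶ Y'.left := j.imageι ≫ CohB1.ProjSpaceOver.toBase n Y'.left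
  let Tb : Over S := Over.mk (q ≫ Y'.hom)
  let qo : Tb ⟶ Y' := Over.homMk q rfl
  have hjq : j.toImage ≫ q = π ≫ m.left := by
    show j.toImage ≫ j.imageι ≫ _ = _
    rw [Scheme.Hom.toImage_imageι_assoc, hjf]
  let bo : T ⟶ Tb := Over.homMk j.toImage (by
    show j.toImage ≫ q ≫ Y'.hom = π ≫ X₁.hom
    rw [reassoc_of% hjq, Over.w m])
  have hsq : bo ≫ qo = πo ≫ m := Over.OverMorphism.ext hjq
  haveI : IsProper q := inferInstanceAs (IsProper (j.imageι ≫ CohB1.ProjSpaceOver.toBase n Y'.left))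
  have hqo : RepWith @IsProper ((yon S).map qo) := (repWith_yon_iff qo).2 (inferInstanceAs (IsProper q))
  have hc : RepWith @IsProper ((yon S).map qo ≫ h) := repWith_comp hqo (repWith_mono (fun _ _ r hr => by
    have : IsFinite r := hr
    show IsProper r
    infer_instance) hh)
  have hπR : RepWith @IsProper ((yon S).map πo) := (repWith_yon_iff πo).2 hπ
  refine ⟨⟨_, IsAlgSpace.yon_obj T⟩, ⟨_, IsAlgSpace.yon_obj Tb⟩, ObjectProperty.homMk ((yon S).map πo ≫ g),
    ObjectProperty.homMk ((yon S).map bo), ObjectProperty.homMk ((yon S).map qo ≫ h), ?_, ?_, ?_,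
    (repWith_yon_iff bo).2 (inferInstanceAs (IsOpenImmersion j.toImage)),
    (isProperMor_iff_repWith (IsAlgSpace.yon_obj Tb) Y.property hc.1).2 hc, hc.1⟩
  · apply ObjectProperty.hom_ext
    show (yon S).map bo ≫ (yon S).map qo ≫ h = ((yon S).map πo ≫ g) ≫ f.hom
    rw [← Functor.map_comp_assoc, hsq, Functor.map_comp_assoc, hcomm, Category.assoc]
  · exact isProperMor_comp (IsAlgSpace.yon_obj X₁) X.property
      ((isProperMor_iff_repWith (IsAlgSpace.yon_obj T) (IsAlgSpace.yon_obj X₁) hπR.1).2 hπR) hg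
  · refine surjectiveMor_comp (fun y => ?_) hgs
    obtain ⟨y', rfl⟩ := (Points.schemeHomeo X₁).surjective y
    obtain ⟨t, rfl⟩ := π.surjective y'
    exact ⟨Points.schemeHomeo T t, Points.map_yon_map_apply πo t⟩

end Groth.Agent.SpApprox

end
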