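import Groth.Agent.SpApprox.HenselClopen
import Groth.Agent.SpApprox.ChowSpace
import Groth.Agent.ShriekColim.ProperLimit
import Groth.Agent.S10048
import Groth.Agent.AlgSpLib.FpqcList
import Groth.Agent.AlgSpLib.ProperRange

/-!
Systems of closed subspaces with proper intersection are eventually universally closed.
-/

set_option autoImplicit false
set_option linter.style.haveILetI false
set_option backward.isDefEq.respectTransparency false

universe u

noncomputable section

open CategoryTheory CategoryTheory.Limits AlgebraicGeometry Opposite AlgSp IsLocalRing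

namespace Groth.Agent.SpApprox

open Groth.Agent.AlgSpLib

variable {S : Scheme.{u}}

theorem isProper_of_isProperMor {U V : Over S} {m : U ⟶ V} (h : IsProperMor ((yon S).map m)) : IsProper m.left := by
  obtain ⟨hs, hft, hc⟩ := h
  obtain ⟨h1, h2, h3⟩ := sch_props_of_mor hs hft
  haveI := h1
  haveI := h2
  haveI := h3
  haveI : UniversallyClosed m.left := (repWith_yon_iff m).1 ((isUnivClosedMor_iff_repWith
    ((repWith_yon_iff (P := ⊤) m).2 trivial).1).1 hc)
  exact IsProper.mk

theorem isUnivClosedMor_of_proper {U V : Over S} {m : U ⟶ V} (h : IsProper m.left) :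
    IsUnivClosedMor ((yon S).map m) :=
  (isUnivClosedMor_iff_repWith ((repWith_yon_iff (P := ⊤) m).2 trivial).1).2
    ((repWith_yon_iff m).2 (inferInstanceAs (UniversallyClosed m.left)))

set_option maxHeartbeats 2000000 in
theorem exists_univClosed_stage [QuasiSeparatedSpace ↥S] {X' Y : Space S} (f' : X'.obj ⟶ Y.obj)
    (hsep : IsSeparatedMor f') (hlft : LocP @LocallyOfFiniteType f') (hYq : IsQuasiCompactSp Y.obj)
    (hYs : IsQuasiSeparatedSp Y.obj) (hXq : IsQuasiCompactSp X'.obj) (hXs : IsQuasiSeparatedSp X'.obj)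
    {I : Type u} [Preorder I] [IsDirected I (fun a b => a ≤ b)] [Nonempty I] (D : Iᵒᵖ ⥤ Sp S)
    (hD : ∀ i, IsAlgSpace (D.obj i)) (t : D ⟶ (Functor.const Iᵒᵖ).obj X'.obj)
    (ht : ∀ i, RepWith @IsClosedImmersion (t.app i)) {X : Sp S} (hX : IsAlgSpace X) (j : X ⟶ X'.obj)
    (π : (Functor.const Iᵒᵖ).obj X ⟶ D) (hl : IsLimit (Cone.mk X π)) (hπ : ∀ i, π.app i ≫ t.app i = j)
    (hj : RepWith @IsClosedImmersion j) (hp : IsProperMor (j ≫ f')) :
    ∃ i₀ : Iᵒᵖ, IsUnivClosedMor (t.app i₀ ≫ f') := by
  classical
  haveI := compactSpace_of_isQuasiCompactSp hYq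
  obtain ⟨A, a, hA, hae, has⟩ := exists_affine_chart_of_compact Y.property
  have hAs : IsQuasiSeparatedSp ((yon S).obj A) := ElemSq.isQuasiSeparatedSp_yon hA
  let XA : Space S := ⟨pullback f' a,
    isAlgSpace_of_isPullback_space Y.property X'.property (IsAlgSpace.yon_obj A) (IsPullback.of_hasPullback f' a)⟩
  obtain ⟨hAq, hXAs⟩ := SpQS.qcqs_of_isPullback X'.property Y.property (IsAlgSpace.yon_obj A)
    (IsPullback.of_hasPullback f' a) hXq hXs hYs (isQuasiCompactSp_yon A) hAs
  obtain ⟨U₀, p₀, hp₀, hp₀s⟩ := XA.property.atlas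
  obtain ⟨Z, g, hg, hgs, -, -⟩ := S10048.result S XA hAq hXAs U₀ p₀ hp₀ hp₀s
  have hgP : IsProperMor g := finMor_props (IsAlgSpace.yon_obj Z) XA.property ((isFiniteMor_iff_repWith _).1 hg)
  have hsA : IsSeparatedMor (pullback.snd f' a : XA.obj ⟶ _) :=
    isSeparatedMor_baseChange (IsPullback.of_hasPullback f' a) hsep
  have hlA : LocP @LocallyOfFiniteType (pullback.snd f' a : XA.obj ⟶ _) :=
    locP_baseChange etST_lft X'.property Y.property XA.property (IsAlgSpace.yon_obj A) (IsPullback.of_hasPullback f' a) hlft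
  let φ : (yon S).obj Z ⟶ X'.obj := g ≫ pullback.fst f' a
  obtain ⟨p, hpe⟩ := exists_map_eq (g ≫ pullback.snd f' a)
  obtain ⟨hps, hpl, hpq⟩ := sch_props_of_mor (m := p)
    (by rw [hpe]; exact isSeparatedMor_comp hgP.1 hsA) (by
      rw [hpe]
      exact ⟨locP_comp etST_lft XA.property (IsAlgSpace.yon_obj A) hgP.2.1.1 hlA,
        SpQS.isQuasiCompactMor_of_qc_qs (IsAlgSpace.yon_obj Z) (IsAlgSpace.yon_obj A) _
          (hgP.2.1.2 XA.property hAq (𝟙 _) (𝟙 _) g (IsPullback.of_horiz_isIso ⟨by simp⟩)) hAs⟩)
  haveI := hps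
  haveI := hpl
  haveI := hA
  haveI := hpq
  haveI : CompactSpace Z.left := QuasiCompact.compactSpace_of_compactSpace p.left
  choose W l z sqW hz using fun i => exists_repWith (ht i) φ
  obtain ⟨W₀, l₀, z₀, sq₀, hz₀⟩ := exists_repWith hj φ
  haveI := hz₀
  haveI : ∀ i, IsClosedImmersion (z i).left := hz
  haveI : ∀ i, Mono (t.app i) := fun i => mono_of_repWith (repWith_mono (fun _ _ r hr => by
    have : IsClosedImmersion r := hr
    exact (inferInstance : Mono r)) (ht i))
  have hle : ∀ {i k : Iᵒᵖ} (_ : i ⟶ k), Set.range (z i).left ⊆ Set.range (z k).left := fun {i k} m => by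
    have e : ((sqW i).lift (l i) ((yon S).map (z i)) (sqW i).w) = 𝟙 _ := (sqW i).hom_ext (by simp) (by simp)
    obtain ⟨r, hr⟩ := exists_map_eq ((sqW k).lift (l i ≫ D.map m) ((yon S).map (z i)) (by
      rw [Category.assoc, t.naturality m]
      exact (congrArg (l i ≫ ·) (Category.comp_id _)).trans (sqW i).w))
    have hr' : r ≫ z k = z i := (yon S).map_injective (by rw [Functor.map_comp, hr, IsPullback.lift_snd])
    rintro _ ⟨x, rfl⟩
    exact ⟨r.left x, by rw [← Scheme.Hom.comp_apply, ← Over.comp_left, hr']⟩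
  have hint : ⋂ i : I, Set.range (z (op i)).left = Set.range z₀.left := by
    refine subset_antisymm (fun x hx => ?_) ?_
    · let K := Z.left.residueField x
      let P : Over S := Over.mk (Z.left.fromSpecResidueField x ≫ Z.hom)
      let ξ : P ⟶ Z := Over.homMk (Z.left.fromSpecResidueField x) rfl
      have hfac : ∀ i : Iᵒᵖ, ∃ r : P ⟶ W i, r ≫ z i = ξ := fun i => by
        have hxi : x ∈ Set.range (z i).left := Set.mem_iInter.1 hx i.unop
        obtain ⟨w, rfl⟩ := hxi
        let q := pullback.snd (z i).left (Z.left.fromSpecResidueField ((z i).left w))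
        haveI : IsClosedImmersion q := inferInstance
        haveI : Surjective q := ⟨fun y => by
          obtain ⟨v, -, hv⟩ := Scheme.Pullback.exists_preimage_pullback w y (by
            rw [Scheme.fromSpecResidueField_apply])
          exact ⟨v, hv⟩⟩
        haveI : IsIso q := isIso_of_isClosedImmersion_of_surjective q
        let rl := inv q ≫ pullback.fst (z i).left (Z.left.fromSpecResidueField ((z i).left w))
        have hrl : rl ≫ (z i).left = ξ.left := by
          show (inv q ≫ _) ≫ _ = _
          rw [Category.assoc, pullback.condition]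
          exact IsIso.inv_hom_id_assoc _ _
        exact ⟨Over.homMk rl (by rw [← Over.w (z i), reassoc_of% hrl]; exact Over.w ξ), Over.OverMorphism.ext hrl⟩
      choose r hr using hfac
      let s : Cone D :=
        { pt := (yon S).obj P
          π :=
            { app := fun i => (yon S).map (r i) ≫ l i
              naturality := fun i k m => by
                show 𝟙 _ ≫ _ = _
                rw [Category.id_comp, ← cancel_mono (t.app k), Category.assoc, Category.assoc, Category.assoc,
                  (sqW k).w, ← Functor.map_comp_assoc, hr, t.naturality m]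
                refine Eq.trans ?_ (congrArg (fun q => (yon S).map (r i) ≫ l i ≫ q) (Category.comp_id _)).symm
                rw [(sqW i).w, ← Functor.map_comp_assoc, hr] } }
      obtain ⟨i₁⟩ := ‹Nonempty I›
      have hm : hl.lift s ≫ j = (yon S).map ξ ≫ φ := by
        rw [← hπ (op i₁), ← Category.assoc]
        refine (congrArg (· ≫ t.app (op i₁)) (hl.fac s (op i₁))).trans ?_
        show ((yon S).map (r (op i₁)) ≫ l (op i₁)) ≫ t.app (op i₁) = _
        rw [Category.assoc, (sqW _).w, ← Functor.map_comp_assoc, hr]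
      obtain ⟨r₀, hr₀⟩ := exists_map_eq (sq₀.lift (hl.lift s) ((yon S).map ξ) hm)
      have hr₀' : r₀ ≫ z₀ = ξ := (yon S).map_injective (by rw [Functor.map_comp, hr₀, IsPullback.lift_snd])
      refine ⟨r₀.left (closedPoint K), ?_⟩
      rw [← Scheme.Hom.comp_apply, ← Over.comp_left, hr₀']
      exact Scheme.fromSpecResidueField_apply _ _
    · rintro _ ⟨w, rfl⟩
      refine Set.mem_iInter.2 fun i => ?_
      obtain ⟨r, hr⟩ := exists_map_eq ((sqW (op i)).lift (l₀ ≫ π.app (op i)) ((yon S).map z₀) (by
        rw [Category.assoc, hπ]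
        exact sq₀.w))
      have hr' : r ≫ z (op i) = z₀ := (yon S).map_injective (by rw [Functor.map_comp, hr, IsPullback.lift_snd])
      exact ⟨r.left w, by rw [← Scheme.Hom.comp_apply, ← Over.comp_left, hr']⟩
  have hW₀ : IsProper (z₀.left ≫ p.left) := by
    let P₁ := pullback (j ≫ f') a
    have hP₁ : IsAlgSpace P₁ :=
      isAlgSpace_of_isPullback_space Y.property hX (IsAlgSpace.yon_obj A) (IsPullback.of_hasPullback _ _)
    have hP₁p : IsProperMor (pullback.snd (j ≫ f') a) :=
      isProperMor_baseChange hX Y.property (IsAlgSpace.yon_obj A) hP₁ (IsPullback.of_hasPullback _ _) hp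
    let u : P₁ ⟶ XA.obj := pullback.lift (pullback.fst _ _ ≫ j) (pullback.snd _ _) (by
      rw [Category.assoc, pullback.condition])
    have squ : IsPullback (pullback.fst (j ≫ f') a) u j (pullback.fst f' a) :=
      IsPullback.of_bot (by rw [pullback.lift_snd]; exact IsPullback.of_hasPullback (j ≫ f') a)
        (pullback.lift_fst _ _ _).symm (IsPullback.of_hasPullback f' a)
    let v : (yon S).obj W₀ ⟶ P₁ := squ.lift l₀ ((yon S).map z₀ ≫ g) (by rw [sq₀.w, Category.assoc])
    have sqv : IsPullback v ((yon S).map z₀) u g :=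
      IsPullback.of_right (by rw [squ.lift_fst]; exact sq₀) (squ.lift_snd _ _ _) squ
    have hv : IsProperMor v :=
      isProperMor_baseChange (IsAlgSpace.yon_obj Z) XA.property hP₁ (IsAlgSpace.yon_obj W₀) sqv.flip hgP
    have e : (yon S).map (z₀ ≫ p) = v ≫ pullback.snd (j ≫ f') a := by
      rw [Functor.map_comp, hpe, ← Category.assoc, ← sqv.w, Category.assoc]
      exact congrArg (v ≫ ·) (pullback.lift_snd _ _ _)
    have := isProper_of_isProperMor (m := z₀ ≫ p) (e ▸ isProperMor_comp hP₁ (IsAlgSpace.yon_obj A) hv hP₁p)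
    exact this
  haveI := hW₀
  have hP : ClSub.IsProperOver p.left (⋂ i : I, Set.range (z (op i)).left) := by
    rw [hint]
    refine ⟨z₀.left.isClosedEmbedding.isClosed_range, ?_⟩
    let red := (Scheme.IdealSheafData.vanishingIdeal
      ⟨Set.range z₀.left, z₀.left.isClosedEmbedding.isClosed_range⟩).subschemeι
    haveI : Surjective (pullback.snd z₀.left red) := ⟨fun y => by
      obtain ⟨w, hw⟩ : red y ∈ Set.range z₀.left := by
        have h2 : red y ∈ Set.range red := ⟨y, rfl⟩
        rw [Scheme.IdealSheafData.range_subschemeι] at h2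
        simpa using h2
      obtain ⟨v, -, hv⟩ := Scheme.Pullback.exists_preimage_pullback w y hw
      exact ⟨v, hv⟩⟩
    haveI : IsProper (pullback.snd z₀.left red ≫ red ≫ p.left) := by
      rw [← pullback.condition_assoc]; infer_instance
    exact ClSubLib.isProper_of_surjective (pullback.snd z₀.left red) (red ≫ p.left)
  obtain ⟨i, hc, hi⟩ := ShriekColim.exists_isProperOver_of_directed p.left (fun i : I => Set.range (z (op i)).left)
    (fun i => (z (op i)).left.isClosedEmbedding.isClosed_range) (fun i k => by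
      obtain ⟨m, hm, hm'⟩ := exists_ge_ge i k
      exact ⟨m, hle (homOfLE hm).op, hle (homOfLE hm').op⟩) hP
  refine ⟨op i, ?_⟩
  have hWi : IsProper ((z (op i)).left ≫ p.left) := by
    let red := (Scheme.IdealSheafData.vanishingIdeal ⟨Set.range (z (op i)).left, hc⟩).subschemeι
    haveI : IsProper (red ≫ p.left) := hi
    haveI : Surjective (pullback.fst (z (op i)).left red) := ⟨fun y => by
      obtain ⟨w, hw⟩ : (z (op i)).left y ∈ Set.range red := by
        rw [Scheme.IdealSheafData.range_subschemeι]
        exact ⟨y, rfl⟩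
      obtain ⟨v, hv, -⟩ := Scheme.Pullback.exists_preimage_pullback y w hw.symm
      exact ⟨v, hv⟩⟩
    haveI : IsProper (pullback.fst (z (op i)).left red ≫ (z (op i)).left ≫ p.left) := by
      rw [pullback.condition_assoc]; infer_instance
    haveI : LocallyOfFiniteType ((z (op i)).left ≫ p.left) := inferInstance
    exact ClSubLib.isProper_of_surjective (pullback.fst (z (op i)).left red) ((z (op i)).left ≫ p.left)
  let Q := pullback (t.app (op i) ≫ f') a
  have hQ : IsAlgSpace Q :=
    isAlgSpace_of_isPullback_space Y.property (hD _) (IsAlgSpace.yon_obj A) (IsPullback.of_hasPullback _ _)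
  let u : Q ⟶ XA.obj := pullback.lift (pullback.fst _ _ ≫ t.app (op i)) (pullback.snd _ _) (by
    rw [Category.assoc, pullback.condition])
  have squ : IsPullback (pullback.fst (t.app (op i) ≫ f') a) u (t.app (op i)) (pullback.fst f' a) :=
    IsPullback.of_bot (by rw [pullback.lift_snd]; exact IsPullback.of_hasPullback (t.app (op i) ≫ f') a)
      (pullback.lift_fst _ _ _).symm (IsPullback.of_hasPullback f' a)
  let v : (yon S).obj (W (op i)) ⟶ Q := squ.lift (l (op i)) ((yon S).map (z (op i)) ≫ g) (by
    rw [(sqW (op i)).w, Category.assoc])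
  have sqv : IsPullback v ((yon S).map (z (op i))) u g :=
    IsPullback.of_right (by rw [squ.lift_fst]; exact sqW (op i)) (squ.lift_snd _ _ _) squ
  have hv : IsSurjectiveMor v := fun y => by
    obtain ⟨w, hw⟩ := hgs (Points.map u y)
    obtain ⟨q, hq, -⟩ := exists_point_of_isPullback sqv y w hw.symm
    exact ⟨q, hq⟩
  have e : v ≫ pullback.snd (t.app (op i) ≫ f') a = (yon S).map (z (op i) ≫ p) := by
    rw [Functor.map_comp, hpe, ← Category.assoc _ g, ← sqv.w, Category.assoc]
    exact congrArg (v ≫ ·) (pullback.lift_snd _ _ _).symm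
  have hQc : IsUnivClosedMor (pullback.snd (t.app (op i) ≫ f') a) :=
    isUnivClosedMor_of_surjective_comp hv (e ▸ isUnivClosedMor_of_proper (m := z (op i) ≫ p) hWi)
  exact (isLocalOnBase_isUnivClosedMor (fun _ : PUnit.{u + 1} => (yon S).obj A) (fun _ => a) Y.property
    (fun _ => IsAlgSpace.yon_obj A) (isFpqcCover_chart Y.property hae has) (t.app (op i) ≫ f') (hD _)
    (fun _ => Q) (fun _ => pullback.snd _ _) (fun _ => pullback.fst _ _) (fun _ => hQ)
    (fun _ => IsPullback.of_hasPullback _ _)).2 fun _ => hQc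

end Groth.Agent.SpApprox

end
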