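import Groth.Agent.SpApprox.LimSys

/-!
The stages of a directed system of affine spaces: finitely presented closed subspaces containing the given space.
-/

set_option autoImplicit false
set_option linter.style.haveILetI false
set_option backward.isDefEq.respectTransparency false

universe u

noncomputable section

open CategoryTheory CategoryTheory.Limits AlgebraicGeometry Opposite AlgSp

namespace Groth.Agent.SpApprox

open Groth.Agent.AlgSpLib Groth.Agent.SchImg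

variable {S : Scheme.{u}} {X Y : Space S} {f : X ⟶ Y} {E₀ : EtOver Y.obj} {A : Type u} [Preorder A]

/-- a finitely presented closed subspace on the chart of a member -/
theorem exists_stage [QuasiSeparatedSpace ↥S] [IsAffine E₀.obj.left.left] (hqc : IsQuasiCompactSp Y.obj)
    (hqs : IsQuasiSeparatedSp Y.obj) (σ : Sys f E₀ A) (hf : IsAffineMor f.hom) (a : A)
    (s : Finset Γ((σ.V₀ a).left, ⊤)) (hs : ∀ x ∈ s, (σ.τ₀ a).left.appTop.hom x = 0) :
    ∃ N : Ideal Γ((σ.V₀ a).left, ⊤), (∀ x ∈ s, x ∈ N) ∧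
      ∃ (Z : Sp S) (z : Z ⟶ σ.V a) (K : (σ.V₀ a).left.IdealSheafData), IsAlgSpace Z ∧
        RepWith @IsClosedImmersion z ∧ IsPullIdeal z (σ.z₀ a) K ∧
        K.ideal ⟨⊤, @isAffineOpen_top _ (σ.hV₀ a)⟩ = N ∧ N.FG ∧ (∀ x ∈ N, (σ.τ₀ a).left.appTop.hom x = 0) ∧
        ∃ px : X.obj ⟶ Z, px ≫ z = σ.τ a := by
  haveI := σ.hV₀ a
  haveI := σ.hX₀
  have hmq : IsQuasiCompactMor (σ.p a) := (isQuasiCompactMor_iff_repWith (σ.hV a) Y.property (σ.hpA a).1).2
    (repWith_mono (P := @IsAffineHom) (Q := @QuasiCompact)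
      (fun _ _ g hg => have : IsAffineHom g := hg; inferInstance) (σ.hpA a))
  have hms : IsQuasiSeparatedMor (σ.p a) := (isQuasiSeparatedMor_iff_repWith (σ.hV a) Y.property (σ.hpA a).1).2
    (repWith_mono (P := @IsAffineHom) (Q := @QuasiSeparated)
      (fun _ _ g hg => have : IsAffineHom g := hg; inferInstance) (σ.hpA a))
  have hVc : IsQuasiCompactSp (σ.V a) := hmq Y.property hqc (𝟙 _) (𝟙 _) (σ.p a) (IsPullback.of_horiz_isIso ⟨by simp⟩)
  have hVs : IsQuasiSeparatedSp (σ.V a) := (Groth.Agent.SpQS.isQuasiSeparatedSp_iff_mor (σ.p a ≫ Groth.Agent.SpQS.baseStr Y.obj)).2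
    (isQuasiSeparatedMor_comp hms ((Groth.Agent.SpQS.isQuasiSeparatedSp_iff_mor _).1 hqs))
  let E : EtOver (σ.V a) := EtOver.mk (σ.z₀ a) (repWith_baseChange (σ.sqV a).flip E₀.property)
  have hτA : RepWith @IsAffineHom (σ.τ a) :=
    Groth.Agent.SpDesc.repWith_affine_cancel (σ.hV a) Y.property
      (by rw [σ.τ_p]; exact (isAffineMor_iff_repWith _).1 hf) (σ.hpA a)
  have hτQ : IsQuasiCompactMor (σ.τ a) :=
    (isQuasiCompactMor_iff_repWith X.property (σ.hV a) hτA.1).2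
      (repWith_mono (P := @IsAffineHom) (Q := @QuasiCompact)
        (fun _ _ g hg => have : IsAffineHom g := hg; inferInstance) hτA)
  have sqτ : IsPullback σ.xz ((yon S).map (σ.τ₀ a)) (σ.τ a) (σ.z₀ a) := by
    refine IsPullback.of_bot ?_ (σ.τ₀_z a).symm (σ.sqV a)
    rw [← Functor.map_comp, σ.τ₀_v, σ.τ_p]
    exact σ.sqX
  have hE : IsAffine E.obj.left.left := σ.hV₀ a
  have hJker : ∀ x : Γ((σ.V₀ a).left, ⊤),
      x ∈ (idealOfRep hτA.1).ideal E hE ↔ (σ.τ₀ a).left.appTop.hom x = 0 := fun x => by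
    rw [idealOfRep_eq_ker_chart X.property (σ.hV a) hτA.1 hτQ E hE (V₀ := σ.V₀ a) (τ₀ := σ.τ₀ a) rfl
      (by rw [eqToHom_refl, Category.comp_id]; exact sqτ), eqToHom_refl, Category.comp_id]
    rfl
  obtain ⟨I, hI, hIs⟩ := exists_ft_finset ⟨σ.V a, σ.hV a⟩ hVc hVs (idealOfRep hτA.1)
    (idealOfRep_isQCoh X.property (σ.hV a) hτA.1 hτQ) E hE s fun x hx => (hJker x).2 (hs x hx)
  obtain ⟨Z, z, hZ, hz⟩ := exists_isCutOutBy (σ.hV a) hI.1
  obtain ⟨K, hK⟩ := exists_pullIdeal hz.1 (σ.z₀ a)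
  obtain ⟨px, hpx⟩ := (factors_iff_le_idealOfRep (σ.hV a) hz X.property hτA.1).2 fun E' hE' => hI.2.2 E' hE'
  refine ⟨I.ideal E hE, hIs, Z, z, K, hZ, hz.1, hK, ?_, hI.2.1 E hE, fun x hx => (hJker x).1 (hI.2.2 E hE hx), px, hpx⟩
  exact ((congrArg (fun I' : IdealEt (σ.V a) => I'.ideal E hE) hz.2).symm.trans
    (idealOfRep_eq hz.1 E hE hK)).symm

/-- indices of stages -/
structure StageIdx {A : Type u} {G : A → Type u} (OK : ∀ a, G a → Prop) : Type u where
  a : A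
  N : G a
  ok : OK a N

/-- the limit theorem -/
theorem exists_limit_of_sys [QuasiSeparatedSpace ↥S] [IsAffine E₀.obj.left.left] [IsDirected A (· ≤ ·)] [Nonempty A]
    (hqc : IsQuasiCompactSp Y.obj) (hqs : IsQuasiSeparatedSp Y.obj) (hs : RepWith @Surjective E₀.obj.hom)
    (hf : IsAffineMor f.hom) (σ : Sys f E₀ A) (Pr : MorphismProperty Scheme.{u})
    (hPr : ∀ {X₀ V₀ : Over S} (v₀ : V₀ ⟶ E₀.obj.left) (τ₀ : X₀ ⟶ V₀) (xz : (yon S).obj X₀ ⟶ X.obj),
      IsPullback xz ((yon S).map (τ₀ ≫ v₀)) f.hom E₀.obj.hom → IsAffine V₀.left →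
      LocallyOfFinitePresentation v₀.left → ∃ s : Finset Γ(V₀.left, ⊤),
        (∀ x ∈ s, τ₀.left.appTop.hom x = 0) ∧ ∀ {W : Scheme.{u}} (v : W ⟶ V₀.left), IsClosedImmersion v →
          (∀ x ∈ s, v.appTop.hom x = 0) → Pr (v ≫ v₀.left)) :
    ∃ (I : Type u) (_ : Preorder I) (_ : IsDirected I (fun a b => a ≤ b)) (_ : Nonempty I) (D : Iᵒᵖ ⥤ Sp S)
      (t : D ⟶ (Functor.const Iᵒᵖ).obj Y.obj) (c : Cone D) (_ : IsLimit c) (e : c.pt ≅ X.obj),
      (∀ i, IsAlgSpace (D.obj i)) ∧ (∀ (i j : Iᵒᵖ) (φ : i ⟶ j), IsAffineMor (D.map φ)) ∧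
      (∀ i, IsAffineMor (t.app i) ∧ IsFinitePresentationMor (t.app i)) ∧
      (∀ i, ∃ (W : Over S) (w : (yon S).obj W ⟶ D.obj i) (v : W ⟶ E₀.obj.left),
        IsPullback w ((yon S).map v) (t.app i) E₀.obj.hom ∧ Pr v.left) ∧
      (∀ i, e.inv ≫ c.π.app i ≫ t.app i = f.hom) ∧
      (Subsingleton A → ∀ (i j : Iᵒᵖ) (φ : i ⟶ j), RepWith @IsClosedImmersion (D.map φ)) := by
  classical
  haveI := σ.hX₀
  choose S₀ hS₀ hS₀P using fun a => hPr (σ.v₀ a) (σ.τ₀ a) σ.xz (by rw [σ.τ₀_v]; exact σ.sqX) (σ.hV₀ a) (σ.hv₀F a)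
  let OK : ∀ a : A, Ideal Γ((σ.V₀ a).left, ⊤) → Prop := fun a N => (∀ x ∈ S₀ a, x ∈ N) ∧
    ∃ (Z : Sp S) (z : Z ⟶ σ.V a) (K : (σ.V₀ a).left.IdealSheafData), IsAlgSpace Z ∧
      RepWith @IsClosedImmersion z ∧ IsPullIdeal z (σ.z₀ a) K ∧
      K.ideal ⟨⊤, @isAffineOpen_top _ (σ.hV₀ a)⟩ = N ∧ N.FG ∧ (∀ x ∈ N, (σ.τ₀ a).left.appTop.hom x = 0) ∧
      ∃ px : X.obj ⟶ Z, px ≫ z = σ.τ a
  let ι := StageIdx OK
  choose Z z K hZ hz hK hKN hfg hker px hpx using fun n : ι => n.ok.2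
  haveI hmono : ∀ n, Mono (z n) := fun n => mono_of_closed (hz n)
  have hex : ∀ (a : A) (s : Finset Γ((σ.V₀ a).left, ⊤)), (∀ x ∈ s, (σ.τ₀ a).left.appTop.hom x = 0) →
      ∃ n : ι, ∃ h : a ≤ n.a, ∀ x ∈ s, (σ.wt h).left.appTop.hom x ∈ n.N := fun a s hs' => by
    have hw : ∀ (h : a ≤ a) (x : Γ((σ.V₀ a).left, ⊤)),
        (σ.τ₀ a).left.appTop.hom ((σ.wt h).left.appTop.hom x) = (σ.τ₀ a).left.appTop.hom x := fun h x => by
      conv_rhs => rw [← σ.τ₀_w h, Over.comp_left, Scheme.Hom.comp_appTop]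
      rfl
    obtain ⟨N, hN, hN'⟩ := exists_stage hqc hqs σ hf a (s.image (σ.wt (le_refl a)).left.appTop.hom ∪ S₀ a) fun x hx => by
      rcases Finset.mem_union.1 hx with hx | hx
      · obtain ⟨y, hy, rfl⟩ := Finset.mem_image.1 hx
        rw [hw]
        exact hs' y hy
      · exact hS₀ a x hx
    exact ⟨⟨a, N, fun x hx => hN x (Finset.mem_union_right _ hx), hN'⟩, le_rfl,
      fun x hx => hN _ (Finset.mem_union_left _ (Finset.mem_image_of_mem _ hx))⟩
  letI : Preorder ι :=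
    { le := fun n m => ∃ h : n.a ≤ m.a, ∃ k : Z m ⟶ Z n, k ≫ z n = z m ≫ σ.mp h
      le_refl := fun n => ⟨le_rfl, 𝟙 _, by rw [σ.mp_id, Category.id_comp, Category.comp_id]⟩
      le_trans := fun a b c ⟨h, k, hk⟩ ⟨h', k', hk'⟩ => ⟨h.trans h', k' ≫ k, by
        rw [Category.assoc, hk, ← Category.assoc, hk', Category.assoc, σ.mp_comp]⟩ }
  have hfac : ∀ {n m : ι} (h : n.a ≤ m.a),
      (∀ x ∈ n.N, (σ.wt h).left.appTop.hom x ∈ m.N) → n ≤ m := fun {n m} h hx => by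
    haveI := σ.hV₀ n.a
    haveI := σ.hV₀ m.a
    refine ⟨h, exists_factor_chart (σ.hV n.a) (hZ m) (hz n) (σ.mp h)
      (repWith_baseChange (σ.sqV n.a).flip E₀.property) (repWith_baseChange (σ.sqV n.a).flip hs) (σ.sqW h)
      (hK n) (hK m) ?_⟩
    rw [hKN n, hKN m]
    exact hx
  have hkill : ∀ {a c : A} (h : a ≤ c) (x : Γ((σ.V₀ a).left, ⊤)),
      (σ.τ₀ c).left.appTop.hom ((σ.wt h).left.appTop.hom x) = (σ.τ₀ a).left.appTop.hom x := fun {a c} h x => by
    rw [← σ.τ₀_w h, Over.comp_left, Scheme.Hom.comp_appTop]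
    rfl
  have hcomp : ∀ {a b c : A} (h : a ≤ b) (h' : b ≤ c) (x : Γ((σ.V₀ a).left, ⊤)),
      (σ.wt h').left.appTop.hom ((σ.wt h).left.appTop.hom x) = (σ.wt (h.trans h')).left.appTop.hom x :=
    fun {a b c} h h' x => by
    have e : σ.wt h' ≫ σ.wt h = σ.wt (h.trans h') := (yon S).map_injective (by
      refine (σ.sqV a).hom_ext ?_ ?_
      · rw [Functor.map_comp, Category.assoc, ← (σ.sqW h).w, ← Category.assoc, ← (σ.sqW h').w, Category.assoc,
          σ.mp_comp, ← (σ.sqW (h.trans h')).w]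
      · rw [← Functor.map_comp, ← Functor.map_comp, Category.assoc, σ.wt_v, σ.wt_v, σ.wt_v])
    rw [← e, Over.comp_left, Scheme.Hom.comp_appTop]
    rfl
  have hdir' : ∀ n m : ι, ∃ r, n ≤ r ∧ m ≤ r := fun n m => by
    obtain ⟨c, hc₁, hc₂⟩ := exists_ge_ge n.a m.a
    obtain ⟨sn, hsn⟩ := hfg n
    obtain ⟨sm, hsm⟩ := hfg m
    obtain ⟨r, hr, hrs⟩ := hex c (sn.image (σ.wt hc₁).left.appTop.hom ∪ sm.image (σ.wt hc₂).left.appTop.hom)
      fun x hx => by
      rcases Finset.mem_union.1 hx with hx | hx <;> obtain ⟨y, hy, rfl⟩ := Finset.mem_image.1 hx <;> rw [hkill]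
      · exact hker n y (hsn ▸ Submodule.subset_span hy)
      · exact hker m y (hsm ▸ Submodule.subset_span hy)
    refine ⟨r, hfac (hc₁.trans hr) fun x hx => ?_, hfac (hc₂.trans hr) fun x hx => ?_⟩
    · rw [← hsn] at hx
      refine (Submodule.span_le.2 (fun y hy => ?_) hx : x ∈ r.N.comap (σ.wt (hc₁.trans hr)).left.appTop.hom)
      show (σ.wt (hc₁.trans hr)).left.appTop.hom y ∈ r.N
      rw [← hcomp hc₁ hr]
      exact hrs _ (Finset.mem_union_left _ (Finset.mem_image_of_mem _ hy))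
    · rw [← hsm] at hx
      refine (Submodule.span_le.2 (fun y hy => ?_) hx : x ∈ r.N.comap (σ.wt (hc₂.trans hr)).left.appTop.hom)
      show (σ.wt (hc₂.trans hr)).left.appTop.hom y ∈ r.N
      rw [← hcomp hc₂ hr]
      exact hrs _ (Finset.mem_union_right _ (Finset.mem_image_of_mem _ hy))
  haveI hdir : IsDirected ι (fun a b => a ≤ b) := ⟨hdir'⟩
  haveI hne : Nonempty ι := by
    obtain ⟨a⟩ := (inferInstance : Nonempty A)
    obtain ⟨n, -⟩ := hex a ∅ fun x hx => absurd hx (Finset.notMem_empty x)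
    exact ⟨n⟩
  choose k hk using fun {n m : ι} (h : n ≤ m) => h.2
  let st : σ.Stages ι :=
    { idx := fun n => n.a
      idx_mono := fun h => h.1
      Z := Z
      hZ := hZ
      z := z
      hz := hz
      K := K
      hK := hK
      hfg := fun n => by rw [hKN n]; exact hfg n
      px := px
      hpx := hpx
      k := fun {n m} h => k h
      hk := fun {n m} h => hk h
      cofinal := fun a x hx => by
        obtain ⟨n, h, hn⟩ := hex a {x} fun y hy => by rw [Finset.mem_singleton.1 hy, hx]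
        exact ⟨n, h, by rw [hKN n]; exact hn x (Finset.mem_singleton_self x)⟩ }
  obtain ⟨hc⟩ := st.nonempty_isLimit hs
  have hzA : ∀ n : ι, RepWith @IsAffineHom (z n ≫ σ.p n.a) := fun n => repWith_comp
    (repWith_mono (P := @IsClosedImmersion) (fun _ _ g hg => by
      have : IsClosedImmersion g := hg
      exact (inferInstance : IsAffineHom g)) (hz n)) (σ.hpA n.a)
  have hchart : ∀ n : ι, ∃ (W : Over S) (w : (yon S).obj W ⟶ Z n) (v : W ⟶ E₀.obj.left),
      IsPullback w ((yon S).map v) (z n ≫ σ.p n.a) E₀.obj.hom ∧ Pr v.left ∧ LocallyOfFinitePresentation v.left :=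
    fun n => by
    haveI := σ.hV₀ n.a
    obtain ⟨W, w, v, sqZ, hvc, hvf, hvK⟩ := exists_chart_closed (hz n) (hK n) (by rw [hKN n]; exact hfg n)
    refine ⟨W, w, v ≫ σ.v₀ n.a, ?_, ?_, ?_⟩
    · rw [Functor.map_comp]
      exact sqZ.paste_vert (σ.sqV n.a)
    · rw [Over.comp_left]
      refine hS₀P n.a v.left hvc fun x hx => ?_
      have : x ∈ v.left.ker.ideal ⟨⊤, isAffineOpen_top _⟩ := by rw [hvK, hKN]; exact n.ok.1 x hx
      rw [Scheme.Hom.ker_apply] at this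
      exact this
    · haveI := hvf
      haveI := σ.hv₀F n.a
      rw [Over.comp_left]
      infer_instance
  refine ⟨ι, inferInstance, hdir, hne, st.diag, st.toBase, st.cone, hc, Iso.refl _, fun n => hZ n.unop,
    fun a b g => ?_, fun n => ?_, fun n => ?_, fun n => ?_, fun hA a b g => ?_⟩
  · refine (isAffineMor_iff_repWith _).2
      (Groth.Agent.SpDesc.repWith_affine_cancel (hZ b.unop) Y.property ?_ (hzA b.unop))
    show RepWith _ (k g.unop.le ≫ z b.unop ≫ σ.p b.unop.a)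
    rw [← Category.assoc, hk, Category.assoc, σ.mp_p]
    exact hzA a.unop
  · have hA := hzA n.unop
    obtain ⟨W, w, v, sqZ, -, hvf⟩ := hchart n.unop
    exact ⟨(isAffineMor_iff_repWith _).2 hA,
      locP_of_chart etST_lfp (hZ n.unop) Y.property (repWith_baseChange sqZ.flip E₀.property)
        (repWith_baseChange sqZ.flip hs) E₀.property sqZ.w hvf,
      (isQuasiCompactMor_iff_repWith (hZ n.unop) Y.property hA.1).2 (repWith_mono (P := @IsAffineHom)
        (Q := @QuasiCompact) (fun _ _ g hg => have : IsAffineHom g := hg; inferInstance) hA),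
      (isQuasiSeparatedMor_iff_repWith (hZ n.unop) Y.property hA.1).2 (repWith_mono (P := @IsAffineHom)
        (Q := @QuasiSeparated) (fun _ _ g hg => have : IsAffineHom g := hg; inferInstance) hA)⟩
  · obtain ⟨W, w, v, sqZ, hP, -⟩ := hchart n.unop
    exact ⟨W, w, v, sqZ, hP⟩
  · show 𝟙 _ ≫ px n.unop ≫ z n.unop ≫ σ.p n.unop.a = f.hom
    rw [Category.id_comp, ← Category.assoc, hpx, σ.τ_p]
  · refine repWith_of_comp_mono (m := z b.unop) ?_
    show RepWith _ (k g.unop.le ≫ z b.unop)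
    rw [hk]
    have hid : ∀ {a a' : A} (h : a ≤ a') (Z' : Sp S) (z' : Z' ⟶ σ.V a'), RepWith @IsClosedImmersion z' →
        RepWith @IsClosedImmersion (z' ≫ σ.mp h) := fun {a a'} h Z' z' hz' => by
      obtain rfl : a = a' := Subsingleton.elim a a'
      rw [σ.mp_id, Category.comp_id]
      exact hz'
    exact hid _ _ _ (hz a.unop)

end Groth.Agent.SpApprox
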