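import Groth.Agent.SpApprox.VTaut
import Groth.Agent.SpApprox.LimMain
import Groth.Agent.EtQC.FPColimAll
import Groth.Agent.EtQC.FPTo

/-!
An affine space over a qcqs base sits in a generating directed system of spaces of linear functionals.
-/

set_option autoImplicit false
set_option linter.style.haveILetI false
set_option backward.isDefEq.respectTransparency false

universe u

noncomputable section

open CategoryTheory CategoryTheory.Limits AlgebraicGeometry Opposite AlgSp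

namespace Groth.Agent.SpApprox

open Groth.Agent.EtQC Groth.Agent.AlgSpLib

variable {S : Scheme.{u}}

theorem pullFun_of_eq {X Y : Sp S} {P : ModEt Y} {f : X ⟶ Y} (hf : Representable f)
    (φ : P ⟶ (pushModEt hf).obj (unitModEt X)) (E : EtOver Y) {W : Over S}
    (l : W ⟶ ((EtOver.bc hf).obj E).obj.left) (m : sectModEt P E) (g : Γ((EtOver.bcObj hf E).obj.left.left, ⊤))
    (h : appM φ E m = upS (EtOver.bcObj hf E) g) : pullFun hf φ E l m = l.left.appTop.hom g := by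
  unfold pullFun
  rw [h]
  rfl

/-- the value of the universal function at the tautological point -/
theorem taut_value {X Y : Sp S} {P : ModEt Y} {f : X ⟶ Y} (hf : Representable f)
    (φ : P ⟶ (pushModEt hf).obj (unitModEt X)) (E₀ : EtOver Y) (hE : IsAffine E₀.obj.left.left)
    {V₀ X₀ : Over S} (z₀ : (yon S).obj V₀ ⟶ vSp P) (v₀ : V₀ ⟶ E₀.obj.left)
    (hsq : z₀ ≫ vπ P = (yon S).map v₀ ≫ E₀.obj.hom) (xz : (yon S).obj X₀ ⟶ X) (τ₀ : X₀ ⟶ V₀)
    (hτ : (yon S).map τ₀ ≫ z₀ = xz ≫ taut hf φ) (hw : xz ≫ f = (yon S).map (τ₀ ≫ v₀) ≫ E₀.obj.hom)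
    (m : sectModEt P E₀) :
    τ₀.left.appTop.hom ((vEquiv z₀).ψ E₀ hE V₀ (𝟙 V₀) v₀ m) =
      pullFun hf φ E₀ (hf.lift xz (τ₀ ≫ v₀) hw) m := by
  have w₀ : (yon S).map (𝟙 V₀) ≫ (vEquiv z₀).h = (yon S).map v₀ ≫ E₀.obj.hom := by
    rw [CategoryTheory.Functor.map_id, Category.id_comp, ← comp_vπ]
    exact hsq
  refine ((vEquiv z₀).ψ_comp hE τ₀ (𝟙 V₀) v₀ w₀ m).symm.trans ?_
  have h1 : ((vEquiv z₀).pull τ₀).ψ E₀ hE X₀ (𝟙 X₀) (τ₀ ≫ v₀) m =
      (tautPt hf φ xz).ψ E₀ hE X₀ (𝟙 X₀) (τ₀ ≫ v₀) m := by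
    rw [← vEquiv_comp, hτ, vEquiv_taut]
  have w1 : (yon S).map (𝟙 X₀) ≫ xz ≫ f = (yon S).map (τ₀ ≫ v₀) ≫ E₀.obj.hom := by
    rw [CategoryTheory.Functor.map_id, Category.id_comp, hw]
  refine Eq.trans ?_ (h1.trans ((tautPt_ψ hf φ xz E₀ hE (𝟙 X₀) (τ₀ ≫ v₀) w1 m).trans
    (congrArg (fun l => pullFun hf φ E₀ l m) (hf.hom_ext ?_ ?_))))
  · show (vEquiv z₀).ψ E₀ hE X₀ (τ₀ ≫ 𝟙 V₀) (τ₀ ≫ v₀) m = (vEquiv z₀).ψ E₀ hE X₀ (𝟙 X₀ ≫ τ₀) (τ₀ ≫ v₀) m
    rw [Category.comp_id, Category.id_comp]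
  · rw [hf.lift_fst, hf.lift_fst, CategoryTheory.Functor.map_id, Category.id_comp]
  · rw [hf.lift_snd, hf.lift_snd]

theorem exists_vSys [QuasiSeparatedSpace ↥S] {X Y : Space S} (f : X ⟶ Y) (hf : IsAffineMor f.hom)
    (hqc : IsQuasiCompactSp Y.obj) (hqs : IsQuasiSeparatedSp Y.obj) :
    ∃ (E₀ : EtOver Y.obj) (_ : IsAffine E₀.obj.left.left) (_ : RepWith @Surjective E₀.obj.hom) (A : Type u)
      (_ : Preorder A) (_ : IsDirected A (· ≤ ·)) (_ : Nonempty A), Nonempty (Sys f E₀ A) := by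
  classical
  haveI := compactSpace_of_isQuasiCompactSp hqc
  obtain ⟨U, π, hU, hπ, hπs⟩ := exists_affine_chart_of_compact Y.property
  let E₀ : EtOver Y.obj := EtOver.mk π hπ
  haveI hE₀ : IsAffine E₀.obj.left.left := hU
  have hs : RepWith @Surjective E₀.obj.hom := hπs
  have hfA := (isAffineMor_iff_repWith _).1 hf
  have hfr : Representable f.hom := hfA.1
  haveI := isQuasicoherent_unitModEt (X := X.obj)
  let M : ModEt Y.obj := (pushModEt hfr).obj (unitModEt X.obj)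
  haveI : M.IsQuasicoherent := isQuasicoherent_push_affine hfr hf _
  let G : Type u := Γ((EtOver.bcObj hfr E₀).obj.left.left, ⊤)
  choose P φ hPq hPf hPs using fun g : ULift.{u + 1} G =>
    exists_fp_to Y hqc hqs M E₀ {(upS (EtOver.bcObj hfr E₀) g.down : sectModEt M E₀)}
  haveI := hPq
  let em : G ↪ ULift.{u + 1} G := ⟨ULift.up, fun a b h => congrArg ULift.down h⟩
  let up : Finset G → Finset (ULift.{u + 1} G) := fun T => T.map em
  let SP : Finset G → ModEt Y.obj := fun T => sumMod P (up T)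
  haveI hSq : ∀ T, (SP T).IsQuasicoherent := fun T => isQuasicoherent_sumMod P (up T)
  haveI hSf : ∀ T, Module.FinitePresentation (Groth.Agent.EtQC.R E₀) (sectModEt (SP T) E₀) :=
    fun T => finitePresentation_sumMod P (up T) E₀ fun g => hPf g E₀
  have hprops := fun T => vSp_props (SP T) (E₀ := E₀) Y.property hs
  have hsub : ∀ {T T' : Finset G}, T ≤ T' → up T ⊆ up T' := fun h => Finset.map_subset_map.2 h
  refine ⟨E₀, hE₀, hs, Finset G, inferInstance, inferInstance, inferInstance,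
    nonempty_sys hf (fun T => vSp (SP T)) (fun T => (hprops T).1) (fun T => vπ (SP T))
      (fun T => (isAffineMor_iff_repWith _).1 (hprops T).2.1) (fun T => (hprops T).2.2.1)
      (fun {a b} h => vMap (incl P (hsub h))) (fun {a b} h => vMap_π _)
      (fun a => (congrArg vMap (incl_refl P (up a))).trans vMap_id)
      (fun {a b c} h h' => (vMap_comp _ _).trans (congrArg vMap (incl_trans P _ _)))
      (fun T => taut hfr (sumTo P φ (up T))) (fun T => taut_π hfr _)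
      (fun {a b} h => (taut_vMap hfr _ _).trans (congrArg (taut hfr) (incl_sumTo P φ (hsub h)))) ?_⟩
  intro X₀ xz xv sq g
  -- the chart of the source
  let κ : X₀ ⟶ (EtOver.bcObj hfr E₀).obj.left := hfr.lift xz xv sq.w
  obtain ⟨ρ, hρ⟩ := exists_map_eq (sq.lift (hfr.fst E₀.obj.hom) ((yon S).map (hfr.snd E₀.obj.hom)) (hfr.w _))
  have hκρ : κ ≫ ρ = 𝟙 X₀ := (yon S).map_injective (by
    refine sq.hom_ext ?_ ?_
    · rw [Functor.map_comp, Category.assoc, hρ, sq.lift_fst, CategoryTheory.Functor.map_id, Category.id_comp]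
      exact hfr.lift_fst _ _ _
    · rw [Functor.map_comp, Category.assoc, hρ, sq.lift_snd, ← Functor.map_comp, CategoryTheory.Functor.map_id,
        Category.id_comp]
      exact congrArg (yon S).map (hfr.lift_snd _ _ _))
  let g' : G := ρ.left.appTop.hom g
  let a : Finset G := {g'}
  have hmem : em g' ∈ up a := Finset.mem_map_of_mem em (Finset.mem_singleton_self g')
  obtain ⟨m₁, hm₁⟩ := hPs (em g') _ (Finset.mem_singleton_self _)
  let m : sectModEt (SP a) E₀ := appM (Sigma.ι (fun i : up a => P i.1) ⟨em g', hmem⟩) E₀ m₁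
  have hm : appM (sumTo P φ (up a)) E₀ m = upS (EtOver.bcObj hfr E₀) g' := by
    refine Eq.trans ?_ hm₁
    exact congrArg (fun q : P (em g') ⟶ M => appM q E₀ m₁)
      (Sigma.ι_desc (f := fun i : up a => P i.1) (fun i => φ i.1) ⟨em g', hmem⟩)
  obtain ⟨V₀, z₀, v₀, sqV, -, -⟩ := exists_chart_rep (SP a) (E₀ := E₀) Y.property
  obtain ⟨τ₀, hτ₀⟩ := exists_map_eq (sqV.lift (xz ≫ taut hfr (sumTo P φ (up a))) ((yon S).map xv)
    (by rw [Category.assoc, taut_π, sq.w]))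
  have hτz : (yon S).map τ₀ ≫ z₀ = xz ≫ taut hfr (sumTo P φ (up a)) := by rw [hτ₀, sqV.lift_fst]
  have hτv : τ₀ ≫ v₀ = xv := (yon S).map_injective (by rw [Functor.map_comp, hτ₀, sqV.lift_snd])
  refine ⟨a, V₀, z₀, v₀, τ₀, (vEquiv z₀).ψ E₀ hE₀ V₀ (𝟙 V₀) v₀ m, sqV, hτz, hτv, ?_⟩
  subst hτv
  refine (taut_value hfr (sumTo P φ (up a)) E₀ hE₀ z₀ v₀ sqV.w xz τ₀ hτz sq.w m).trans ?_
  refine (pullFun_of_eq hfr (sumTo P φ (up a)) E₀ κ m g' hm).trans ?_
  exact (appTop_appTop κ.left ρ.left g).trans ((congrArg (fun q : X₀ ⟶ X₀ => q.left.appTop.hom g) hκρ).trans (by simp))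

end Groth.Agent.SpApprox
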