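import Groth.Agent.SpApprox.VSys

/-!
Finitely presented stages of an integral space that are finite over the base.
-/

set_option autoImplicit false
set_option linter.style.haveILetI false
set_option backward.isDefEq.respectTransparency false

universe u

noncomputable section

open CategoryTheory CategoryTheory.Limits AlgebraicGeometry Opposite AlgSp

namespace Groth.Agent.SpApprox

open Groth.Agent.AlgSpLib

variable {S : Scheme.{u}}

theorem exists_integral_relations {X₀ V₀ U : Scheme.{u}} [IsAffine U] [IsAffine V₀] (v₀ : V₀ ⟶ U) (τ₀ : X₀ ⟶ V₀)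
    [LocallyOfFiniteType v₀] [IsIntegralHom (τ₀ ≫ v₀)] : ∃ s : Finset Γ(V₀, ⊤),
      (∀ x ∈ s, τ₀.appTop.hom x = 0) ∧ ∀ {W : Scheme.{u}} (v : W ⟶ V₀), IsClosedImmersion v →
        (∀ x ∈ s, v.appTop.hom x = 0) → IsFinite (v ≫ v₀) := by
  classical
  haveI : IsAffine X₀ := isAffine_of_isAffineHom (τ₀ ≫ v₀)
  letI : Algebra Γ(U, ⊤) Γ(V₀, ⊤) := v₀.appTop.hom.toAlgebra
  have hft : v₀.appTop.hom.FiniteType := HasRingHomProperty.appTop @LocallyOfFiniteType v₀ inferInstance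
  haveI : Algebra.FiniteType Γ(U, ⊤) Γ(V₀, ⊤) := hft
  obtain ⟨g, hg⟩ := Algebra.FiniteType.out (R := Γ(U, ⊤)) (A := Γ(V₀, ⊤))
  have hint : (τ₀ ≫ v₀).appTop.hom.IsIntegral :=
    ((HasAffineProperty.iff_of_isAffine (P := @IsIntegralHom) (f := τ₀ ≫ v₀)).1 inferInstance).2
  choose p hpm hp using fun x : Γ(V₀, ⊤) => hint (τ₀.appTop.hom x)
  refine ⟨g.image fun x => Polynomial.eval₂ v₀.appTop.hom x (p x), fun y hy => ?_, fun {W} v hv hs => ?_⟩
  · obtain ⟨x, hx, rfl⟩ := Finset.mem_image.1 hy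
    rw [Polynomial.hom_eval₂]
    have := hp x
    rw [Scheme.Hom.comp_appTop, CommRingCat.hom_comp] at this
    exact this
  · haveI := hv
    haveI : IsAffine W := isAffine_of_isAffineHom v
    letI : Algebra Γ(U, ⊤) Γ(W, ⊤) := (v.appTop.hom.comp v₀.appTop.hom).toAlgebra
    let ψ : Γ(V₀, ⊤) →ₐ[Γ(U, ⊤)] Γ(W, ⊤) := { v.appTop.hom with commutes' := fun r => rfl }
    have hgen : Algebra.adjoin Γ(U, ⊤) (g : Set Γ(V₀, ⊤)) ≤ (integralClosure Γ(U, ⊤) Γ(W, ⊤)).comap ψ :=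
      Algebra.adjoin_le fun x hx => by
        refine ⟨p x, hpm x, ?_⟩
        show Polynomial.eval₂ (v.appTop.hom.comp v₀.appTop.hom) (v.appTop.hom x) (p x) = 0
        rw [← Polynomial.hom_eval₂]
        exact hs _ (Finset.mem_image_of_mem _ hx)
    haveI : IsIntegralHom (v ≫ v₀) := (HasAffineProperty.iff_of_isAffine (P := @IsIntegralHom)).2 ⟨inferInstance, by
      show ((v ≫ v₀).appTop.hom).IsIntegral
      rw [Scheme.Hom.comp_appTop, CommRingCat.hom_comp]
      intro b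
      obtain ⟨x, rfl⟩ := (IsClosedImmersion.isAffine_surjective_of_isAffine v).2 b
      exact hgen (hg.ge Algebra.mem_top)⟩
    exact (IsFinite.iff_isIntegralHom_and_locallyOfFiniteType _).2 ⟨inferInstance, inferInstance⟩

theorem exists_limit_finite [QuasiSeparatedSpace ↥S] {X Y : Space S} (f : X ⟶ Y) (hf : IsIntegralMor f.hom)
    (hqc : IsQuasiCompactSp Y.obj) (hqs : IsQuasiSeparatedSp Y.obj) :
    ∃ (I : Type u) (_ : Preorder I) (_ : IsDirected I (fun a b => a ≤ b)) (_ : Nonempty I) (D : Iᵒᵖ ⥤ Sp S)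
      (t : D ⟶ (Functor.const Iᵒᵖ).obj Y.obj) (c : Cone D) (_ : IsLimit c) (e : c.pt ≅ X.obj),
      (∀ i, IsAlgSpace (D.obj i)) ∧ (∀ (i j : Iᵒᵖ) (φ : i ⟶ j), IsAffineMor (D.map φ)) ∧
      (∀ i, IsFiniteMor (t.app i) ∧ IsFinitePresentationMor (t.app i)) ∧
      (∀ i, e.inv ≫ c.π.app i ≫ t.app i = f.hom) := by
  have hI := (isIntegralMor_iff_repWith _).1 hf
  have haff : IsAffineMor f.hom := (isAffineMor_iff_repWith _).2 (repWith_mono (P := @IsIntegralHom)
    (Q := @IsAffineHom) (fun _ _ g hg => have : IsIntegralHom g := hg; inferInstance) hI)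
  obtain ⟨E₀, hE₀, hs, A, _, _, _, ⟨σ⟩⟩ := exists_vSys f haff hqc hqs
  haveI := hE₀
  obtain ⟨I, iI, hdir, hne, D, t, c, hc, e, h1, h2, h3, h4, h5, -⟩ := exists_limit_of_sys hqc hqs hs haff σ
    @IsFinite (fun {X₀ V₀} v₀ τ₀ xz sq hV₀ hlfp => by
      haveI := hV₀
      haveI := hlfp
      haveI : IsIntegralHom (τ₀.left ≫ v₀.left) := hI.2 E₀.obj.hom xz (τ₀ ≫ v₀) sq
      exact exists_integral_relations v₀.left τ₀.left)
  refine ⟨I, iI, hdir, hne, D, t, c, hc, e, h1, h2, fun i => ⟨?_, (h3 i).2⟩, h5⟩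
  obtain ⟨W, w, v, sq, hv⟩ := h4 i
  refine (isFiniteMor_iff_repWith _).2 (repWith_of_fppfCover @IsFinite
    (fun _ _ r hr => by have : IsFinite r := hr; exact indQA_of_isAffineHom r) Y.property
    (fun _ => IsAlgSpace.yon_obj E₀.obj.left)
    (ι := PUnit.{u + 1}) (Yi := fun _ => (yon S).obj E₀.obj.left) (g := fun _ => E₀.obj.hom)
    ⟨fun _ => ⟨SchImg.locP_flat_of_etale Y.property E₀.property,
      (locP_iff_repWith etST_lfp Y.property E₀.property.1).2 (repWith_mono (fun _ _ r hr => by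
        have : Etale r := hr
        infer_instance) E₀.property)⟩, fun x => ⟨PUnit.unit, isSurjectiveMor_of_repWith hs x⟩⟩
    (t.app i) (fun _ => _) (fun _ => (yon S).map v) (fun _ => w) (fun _ => sq)
    (fun _ => (repWith_yon_map_iff @IsFinite _).2 hv))

end Groth.Agent.SpApprox
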