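import Groth.Agent.SpApprox.LimInt

/-!
A finite space over the base is the limit of finitely presented finite spaces with closed transition maps.
-/

set_option autoImplicit false
set_option linter.style.haveILetI false
set_option backward.isDefEq.respectTransparency false

universe u

noncomputable section

open CategoryTheory CategoryTheory.Limits AlgebraicGeometry Opposite AlgSp

namespace Groth.Agent.SpApprox

open Groth.Agent.AlgSpLib

variable {S : Scheme.{u}}

/-- one member of a system that generates already -/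
theorem exists_single_sys {X Y : Space S} {f : X ⟶ Y} {E₀ : EtOver Y.obj} {A : Type u} [Preorder A]
    (σ : Sys f E₀ A) (a : A) (h : Function.Surjective (σ.τ₀ a).left.appTop.hom) :
    Nonempty (Sys f E₀ PUnit.{u + 1}) :=
  ⟨{ V := fun _ => σ.V a, hV := fun _ => σ.hV a, p := fun _ => σ.p a, hpA := fun _ => σ.hpA a, hpF := fun _ => σ.hpF a
     mp := fun _ => 𝟙 _, mp_p := fun _ => Category.id_comp _, mp_id := fun _ => rfl
     mp_comp := fun _ _ => Category.id_comp _
     τ := fun _ => σ.τ a, τ_p := fun _ => σ.τ_p a, τ_mp := fun _ => Category.comp_id _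
     X₀ := σ.X₀, hX₀ := σ.hX₀, xz := σ.xz, xv := σ.xv, sqX := σ.sqX
     V₀ := fun _ => σ.V₀ a, hV₀ := fun _ => σ.hV₀ a, z₀ := fun _ => σ.z₀ a, v₀ := fun _ => σ.v₀ a
     hv₀F := fun _ => σ.hv₀F a, sqV := fun _ => σ.sqV a
     τ₀ := fun _ => σ.τ₀ a, τ₀_z := fun _ => σ.τ₀_z a, τ₀_v := fun _ => σ.τ₀_v a
     wt := fun _ => 𝟙 _, wt_v := fun _ => Category.id_comp _
     sqW := fun _ => by
       rw [CategoryTheory.Functor.map_id]
       exact IsPullback.of_vert_isIso ⟨by rw [Category.comp_id, Category.id_comp]⟩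
     τ₀_w := fun _ => Category.comp_id _
     gen := fun g => ⟨⟨⟩, h g⟩ }⟩

theorem exists_limit_closed_finite [QuasiSeparatedSpace ↥S] {X Y : Space S} (f : X ⟶ Y) (hf : IsFiniteMor f.hom)
    (hqc : IsQuasiCompactSp Y.obj) (hqs : IsQuasiSeparatedSp Y.obj) :
    ∃ (I : Type u) (_ : Preorder I) (_ : IsDirected I (fun a b => a ≤ b)) (_ : Nonempty I) (D : Iᵒᵖ ⥤ Sp S)
      (t : D ⟶ (Functor.const Iᵒᵖ).obj Y.obj) (c : Cone D) (_ : IsLimit c) (e : c.pt ≅ X.obj),
      (∀ i, IsAlgSpace (D.obj i)) ∧ (∀ (i j : Iᵒᵖ) (φ : i ⟶ j), RepWith @IsClosedImmersion (D.map φ)) ∧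
      (∀ i, IsFiniteMor (t.app i) ∧ IsFinitePresentationMor (t.app i)) ∧
      (∀ i, e.inv ≫ c.π.app i ≫ t.app i = f.hom) := by
  classical
  have hF := (isFiniteMor_iff_repWith _).1 hf
  have haff : IsAffineMor f.hom := (isAffineMor_iff_repWith _).2 (repWith_mono (P := @IsFinite)
    (Q := @IsAffineHom) (fun _ _ g hg => have : IsFinite g := hg; inferInstance) hF)
  obtain ⟨E₀, hE₀, hs, A, _, _, _, ⟨σ⟩⟩ := exists_vSys f haff hqc hqs
  haveI := hE₀
  haveI : IsFinite σ.xv.left := hF.2 E₀.obj.hom σ.xz σ.xv σ.sqX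
  haveI : IsAffine E₀.obj.left.left := hE₀
  letI : Algebra Γ(E₀.obj.left.left, ⊤) Γ(σ.X₀.left, ⊤) := σ.xv.left.appTop.hom.toAlgebra
  have hfin : σ.xv.left.appTop.hom.Finite := σ.xv.left.finite_appTop
  haveI : Module.Finite Γ(E₀.obj.left.left, ⊤) Γ(σ.X₀.left, ⊤) := hfin
  obtain ⟨g, hg⟩ := Module.Finite.fg_top (R := Γ(E₀.obj.left.left, ⊤)) (M := Γ(σ.X₀.left, ⊤))
  have hw : ∀ {b c : A} (h : b ≤ c) (y : Γ((σ.V₀ b).left, ⊤)),
      (σ.τ₀ c).left.appTop.hom ((σ.wt h).left.appTop.hom y) = (σ.τ₀ b).left.appTop.hom y := fun {b c} h y => by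
    rw [← σ.τ₀_w h, Over.comp_left, Scheme.Hom.comp_appTop]
    rfl
  have hr : ∀ s : Finset Γ(σ.X₀.left, ⊤), ∃ a : A, ∀ y ∈ s, y ∈ Set.range (σ.τ₀ a).left.appTop.hom := fun s => by
    induction s using Finset.induction_on with
    | empty => exact ⟨Classical.arbitrary A, fun y hy => absurd hy (Finset.notMem_empty y)⟩
    | insert y s _ ih =>
      obtain ⟨a, ha⟩ := ih
      obtain ⟨b, x, hx⟩ := σ.gen y
      obtain ⟨c, hc₁, hc₂⟩ := exists_ge_ge a b
      refine ⟨c, fun z hz => ?_⟩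
      rcases Finset.mem_insert.1 hz with rfl | hz
      · exact ⟨_, (hw hc₂ x).trans hx⟩
      · obtain ⟨w, hw'⟩ := ha z hz
        exact ⟨_, (hw hc₁ w).trans hw'⟩
  obtain ⟨a, ha⟩ := hr g
  have hsurj : Function.Surjective (σ.τ₀ a).left.appTop.hom := fun y => by
    have hy : y ∈ Submodule.span Γ(E₀.obj.left.left, ⊤) (g : Set Γ(σ.X₀.left, ⊤)) := hg.ge Submodule.mem_top
    induction hy using Submodule.span_induction with
    | mem y hy => exact ha y hy
    | zero => exact ⟨0, map_zero _⟩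
    | add y z _ _ hy hz =>
      obtain ⟨a', rfl⟩ := hy
      obtain ⟨b', rfl⟩ := hz
      exact ⟨a' + b', map_add _ _ _⟩
    | smul r y _ hy =>
      obtain ⟨a', rfl⟩ := hy
      refine ⟨(σ.v₀ a).left.appTop.hom r * a', ?_⟩
      rw [map_mul, Algebra.smul_def]
      refine congrArg (· * _) ?_
      show _ = σ.xv.left.appTop.hom r
      rw [← σ.τ₀_v a, Over.comp_left, Scheme.Hom.comp_appTop]
      rfl
  obtain ⟨σ'⟩ := exists_single_sys σ a hsurj
  obtain ⟨I, iI, hdir, hne, D, t, c, hc, e, h1, -, h3, h4, h5, h6⟩ := exists_limit_of_sys hqc hqs hs haff σ'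
    @IsFinite (fun {X₀ V₀} v₀ τ₀ xz sq hV₀ hlfp => by
      haveI := hV₀
      haveI := hlfp
      haveI : IsFinite (τ₀.left ≫ v₀.left) := hF.2 E₀.obj.hom xz (τ₀ ≫ v₀) sq
      exact exists_integral_relations v₀.left τ₀.left)
  refine ⟨I, iI, hdir, hne, D, t, c, hc, e, h1, h6 inferInstance, fun i => ⟨?_, (h3 i).2⟩, h5⟩
  obtain ⟨W, w, v, sq, hv⟩ := h4 i
  refine (isFiniteMor_iff_repWith _).2 (repWith_of_fppfCover @IsFinite
    (fun _ _ r hr => by have : IsFinite r := hr; exact indQA_of_isAffineHom r) Y.property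
    (fun _ => IsAlgSpace.yon_obj E₀.obj.left)
    (ι := PUnit.{u + 1}) (Yi := fun _ => (yon S).obj E₀.obj.left) (g := fun _ => E₀.obj.hom)
    ⟨fun _ => ⟨SchImg.locP_flat_of_etale Y.property E₀.property,
      (locP_iff_repWith etST_lfp Y.property E₀.property.1).2 (repWith_mono (fun _ _ r hr => by
        have : Etale r := hr
        infer_instance) E₀.property)⟩, fun x => ⟨PUnit.unit, isSurjectiveMor_of_repWith hs x⟩⟩
    (t.app i) (fun _ => _) (fun _ => (yon S).map v) (fun _ => w) (fun _ => sq)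
    (fun _ => (repWith_yon_map_iff @IsFinite _).2 hv))

end Groth.Agent.SpApprox
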