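import Groth.Agent.EtQC.UnitIdeal
import Groth.Agent.SchImg.CutOut
import Groth.Agent.SchImg.CutOutExists
import Groth.Agent.AlgSpLib.DiagProp
import Groth.Agent.AlgSpLib.DiagCrit
import Groth.Agent.GrpdFit.Ideal

/-!
A closed subspace of a quasi-compact quasi-separated algebraic space is the limit of the finitely presented
closed subspaces containing it.
-/

set_option autoImplicit false
set_option linter.style.haveILetI false
set_option backward.isDefEq.respectTransparency false

universe u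

noncomputable section

open CategoryTheory CategoryTheory.Limits AlgebraicGeometry Opposite AlgSp

namespace Groth.Agent.SpApprox

open Groth.Agent.AlgSpLib Groth.Agent.SchImg

variable {S : Scheme.{u}}

/-- a map factors through a monomorphism if its points do -/
theorem exists_lift_of_points {F X Y : Sp S} (m : X ⟶ Y) [Mono m] (h : F ⟶ Y)
    (hp : ∀ (T : Over S) (a : (yon S).obj T ⟶ F), ∃ l : (yon S).obj T ⟶ X, l ≫ m = a ≫ h) :
    ∃ k : F ⟶ X, k ≫ m = h := by
  haveI : IsIso (pullback.fst h m) := by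
    haveI : Epi (pullback.fst h m) := by
      refine ⟨fun {G} g₁ g₂ e => ?_⟩
      refine (J S).hom_ext_uliftYoneda.{u + 1} fun T a => ?_
      obtain ⟨l, hl⟩ := hp T a
      rw [← pullback.lift_fst a l hl.symm, Category.assoc, Category.assoc, e]
    exact isIso_of_mono_of_epi _
  exact ⟨inv (pullback.fst h m) ≫ pullback.snd h m, by rw [Category.assoc, ← pullback.condition, IsIso.inv_hom_id_assoc]⟩

/-- finitely generated quasi-coherent ideals below `J` -/
def FT {Y : Sp S} (J I : IdealEt Y) : Prop :=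
  I.IsQCoh ∧ (∀ (E : EtOver Y) (hE : IsAffine E.obj.left.left), (I.ideal E hE).FG) ∧
    ∀ (E : EtOver Y) (hE : IsAffine E.obj.left.left), I.ideal E hE ≤ J.ideal E hE

theorem ft_bot {Y : Sp S} (J : IdealEt Y) : FT J ⊥ :=
  ⟨fun _ _ g _ _ => bot_le, fun _ _ => Submodule.fg_bot, fun _ _ => bot_le⟩

/-- the sum of two ideals -/
def supI {Y : Sp S} (I₁ I₂ : IdealEt Y) : IdealEt Y where
  ideal E hE := I₁.ideal E hE ⊔ I₂.ideal E hE
  map_le g hE hE' := by
    rw [Ideal.map_sup]
    exact sup_le_sup (I₁.map_le g hE hE') (I₂.map_le g hE hE')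

theorem ft_sup {Y : Sp S} {J I₁ I₂ : IdealEt Y} (h₁ : FT J I₁) (h₂ : FT J I₂) : FT J (supI I₁ I₂) :=
  ⟨fun E E' g hE hE' => by
      show I₁.ideal E' hE' ⊔ I₂.ideal E' hE' ≤ (I₁.ideal E hE ⊔ I₂.ideal E hE).map _
      rw [Ideal.map_sup]
      exact sup_le_sup (h₁.1 g hE hE') (h₂.1 g hE hE'),
    fun E hE => Submodule.FG.sup (h₁.2.1 E hE) (h₂.2.1 E hE),
    fun E hE => sup_le (h₁.2.2 E hE) (h₂.2.2 E hE)⟩

open Groth.Agent.EtQC in
/-- every function in a quasi-coherent ideal lies in one of finite type below it -/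
theorem exists_ft_mem [QuasiSeparatedSpace ↥S] (Y : Space S) (hqc : IsQuasiCompactSp Y.obj)
    (hqs : IsQuasiSeparatedSp Y.obj) (J : IdealEt Y.obj) (hJ : J.IsQCoh) (E₀ : EtOver Y.obj)
    (hE₀ : IsAffine E₀.obj.left.left) (a : Γ(E₀.obj.left.left, ⊤)) (ha : a ∈ J.ideal E₀ hE₀) :
    ∃ I : IdealEt Y.obj, FT J I ∧ a ∈ I.ideal E₀ hE₀ := by
  classical
  haveI := hE₀
  haveI := isQuasicoherent_unitModEt (X := Y.obj)
  let σ := idealFam J hJ
  haveI := σ.isQuasicoherent_toMod
  obtain ⟨z, hz⟩ := σ.exists_preimage (s := upS E₀ a) hE₀ ha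
  obtain ⟨A, α, -, hA, hA', hm⟩ := exists_ft_sub_mem Y hqc hqs σ.toMod E₀ {z}
  haveI := hA
  haveI := hA'
  let τ := imFam (α ≫ σ.ι)
  refine ⟨τ.toIdeal, ⟨τ.isQCoh_toIdeal, fun E hE => τ.fg_toIdeal E hE ?_, fun E hE b hb => ?_⟩, ?_⟩
  · haveI := hE
    haveI := finite_sections_of_isFiniteType (M := A) E
    show (LinearMap.range (appM (α ≫ σ.ι) E)).FG
    rw [LinearMap.range_eq_map]
    exact Module.Finite.fg_top.map _
  · obtain ⟨c, hc⟩ := (hb : upS E b ∈ LinearMap.range (appM (α ≫ σ.ι) E))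
    have hmem : appM σ.ι E (appM α E c) ∈ σ.sub E hE := by
      rw [← SetLike.mem_coe, ← σ.range_ι E hE]
      exact ⟨_, rfl⟩
    exact (show upS E b ∈ σ.sub E hE from hc ▸ hmem)
  · obtain ⟨b, hb⟩ := hm z (Finset.mem_singleton_self z)
    exact ⟨b, (congrArg (appM σ.ι E₀) hb).trans hz⟩

/-- a closed subspace is the limit of the finitely presented closed subspaces containing it -/
theorem exists_limit_closed [QuasiSeparatedSpace ↥S] {X Y : Space S} (i : X ⟶ Y)
    (hi : RepWith @IsClosedImmersion i.hom) (hqc : IsQuasiCompactSp Y.obj) (hqs : IsQuasiSeparatedSp Y.obj) :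
    ∃ (I : Type u) (_ : Preorder I) (_ : IsDirected I (fun a b => a ≤ b)) (_ : Nonempty I) (D : Iᵒᵖ ⥤ Sp S)
      (t : D ⟶ (Functor.const Iᵒᵖ).obj Y.obj) (c : Cone D) (_ : IsLimit c) (e : c.pt ≅ X.obj),
      (∀ i, IsAlgSpace (D.obj i)) ∧ (∀ (i j : Iᵒᵖ) (φ : i ⟶ j), RepWith @IsClosedImmersion (D.map φ)) ∧
      (∀ i, RepWith @IsClosedImmersion (t.app i) ∧ IsFinitePresentationMor (t.app i)) ∧
      (∀ j, e.inv ≫ c.π.app j ≫ t.app j = i.hom) := by
  classical
  haveI := compactSpace_of_isQuasiCompactSp hqc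
  obtain ⟨U, π, hU, hπ, hπs⟩ := exists_affine_chart_of_compact Y.property
  haveI := hU
  let E₀ : EtOver Y.obj := EtOver.mk π hπ
  haveI : IsAffine E₀.obj.left.left := hU
  haveI : IsAffine U.left := hU
  have hqc' : RepWith @QuasiCompact i.hom := repWith_mono (P := @IsClosedImmersion) (Q := @QuasiCompact)
    (fun _ _ g hg => have : IsClosedImmersion g := hg; inferInstance) hi
  let J := idealOfRep hi.1
  have hJ : J.IsQCoh := idealOfRep_isQCoh X.property Y.property hi.1
    ((isQuasiCompactMor_iff_repWith X.property Y.property hi.1).2 hqc')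
  let ι := {N : Ideal Γ(E₀.obj.left.left, ⊤) // ∃ I : IdealEt Y.obj, FT J I ∧ I.ideal E₀ inferInstance = N}
  choose II hFT hIN using fun n : ι => n.2
  choose Z z hZ hz using fun n : ι => exists_isCutOutBy Y.property (hFT n).1
  haveI hmono : ∀ n, Mono (z n) := fun n => mono_of_closed (hz n).1
  choose K hK using fun n : ι => exists_pullIdeal (hz n).1 π
  have hKN : ∀ n : ι, (K n).ideal ⟨⊤, isAffineOpen_top _⟩ = n.1 := fun n => by
    rw [← hIN n]
    exact ((congrArg (fun I : IdealEt Y.obj => I.ideal E₀ inferInstance) (hz n).2).symm.trans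
      (idealOfRep_eq (hz n).1 E₀ inferInstance (hK n))).symm
  have hfac : ∀ {m n : ι}, n ≤ m → ∃ k : Z m ⟶ Z n, k ≫ z n = z m := fun {m n} hnm =>
    exists_factor_of_le (hz n).1 (hZ m) Y.property hπ hπs (hK n)
      ((Scheme.IdealSheafData.le_of_isAffine (by rw [hKN n, hKN m]; exact hnm)).trans (hK m).le_kerIdeal_self)
  choose k hk using @hfac
  let D : ιᵒᵖ ⥤ Sp S :=
    { obj := fun n => Z n.unop
      map := fun {a b} f => k f.unop.le
      map_id := fun a => (cancel_mono (z a.unop)).1 (by rw [hk, Category.id_comp])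
      map_comp := fun {a b c} f g => (cancel_mono (z c.unop)).1 (by rw [Category.assoc, hk, hk, hk]) }
  let t : D ⟶ (Functor.const ιᵒᵖ).obj Y.obj :=
    { app := fun n => z n.unop
      naturality := fun a b f => (hk f.unop.le).trans (Category.comp_id _).symm }
  have hle : ∀ n : ι, II n ≤ J := fun n => fun E hE => (hFT n).2.2 E hE
  choose p hp using fun n : ι => (idealEt_le_iff_factors Y.property (hz n) (⟨hi, rfl⟩ : IsCutOutBy J i.hom)).1 (hle n)
  let c : Cone D :=
    { pt := X.obj
      π :=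
      { app := fun n => p n.unop
        naturality := fun a b f => by
          refine (Category.id_comp _).trans ?_
          refine (cancel_mono (z b.unop)).1 ?_
          rw [Category.assoc]
          exact (hp b.unop).trans ((hp a.unop).symm.trans (congrArg (p a.unop ≫ ·) (hk f.unop.le).symm)) } }
  haveI hne : Nonempty ι := ⟨⟨_, ⊥, ft_bot J, rfl⟩⟩
  haveI hdir : IsDirected ι (fun a b => a ≤ b) := ⟨fun a b =>
    ⟨⟨a.1 ⊔ b.1, supI (II a) (II b), ft_sup (hFT a) (hFT b), by
      show (II a).ideal E₀ _ ⊔ (II b).ideal E₀ _ = _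
      rw [hIN a, hIN b]⟩, (le_sup_left : a.1 ≤ a.1 ⊔ b.1), (le_sup_right : b.1 ≤ a.1 ⊔ b.1)⟩⟩
  haveI := mono_of_closed hi
  have hlift : ∀ s : Cone D, ∃ l : s.pt ⟶ X.obj, ∀ n, l ≫ i.hom = s.π.app n ≫ z n.unop := fun s => by
    obtain ⟨n₀⟩ := hne
    have hind : ∀ n : ι, s.π.app (op n) ≫ z n = s.π.app (op n₀) ≫ z n₀ := fun n => by
      obtain ⟨m, hm₁, hm₂⟩ := exists_ge_ge n n₀
      have e : ∀ {r : ι} (hr : r ≤ m), s.π.app (op r) ≫ z r = s.π.app (op m) ≫ z m := fun {r} hr => by
        rw [← s.w (homOfLE hr).op, Category.assoc]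
        exact congrArg (s.π.app (op m) ≫ ·) (hk hr)
      rw [e hm₁, e hm₂]
    obtain ⟨l, hl⟩ := exists_lift_of_points i.hom (s.π.app (op n₀) ≫ z n₀) fun T a => by
      obtain ⟨T', c', β, sq⟩ := exists_pullback Y.property.diag (a ≫ s.π.app (op n₀) ≫ z n₀) π
      haveI := isLocallySurjective_of_atlas (repWith_baseChange sq.flip hπ) (repWith_baseChange sq.flip hπs)
      obtain ⟨J₀, hJ₀⟩ := exists_pullIdeal hi π
      obtain ⟨l₀, hl₀⟩ := (hJ₀ β).2 ((comap_eq_bot_iff _ _).2 (Scheme.IdealSheafData.le_of_isAffine fun x hx => by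
        rw [← idealOfRep_eq hi E₀ inferInstance hJ₀] at hx
        obtain ⟨I₁, hI₁, hx₁⟩ := exists_ft_mem Y hqc hqs J hJ E₀ inferInstance x hx
        let n : ι := ⟨_, I₁, hI₁, rfl⟩
        have h2 : (K n).comap β.left = ⊥ := (hK n β).1 ⟨(yon S).map c' ≫ a ≫ s.π.app (op n), by
          rw [Category.assoc, Category.assoc, hind n, ← sq.w]⟩
        refine ((comap_eq_bot_iff _ _).1 h2) ⟨⊤, isAffineOpen_top _⟩ ?_
        rw [hKN n]
        exact hx₁))
      exact exists_lift_of_loc_surj i.hom _ ((yon S).map c') l₀ (hl₀.trans sq.w.symm)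
    exact ⟨l, fun n => hl.trans (hind n.unop).symm⟩
  choose l hl using hlift
  have hc : IsLimit c :=
    { lift := l
      fac := fun s n => (cancel_mono (z n.unop)).1 (by rw [Category.assoc]; exact (congrArg (l s ≫ ·) (hp n.unop)).trans (hl s n))
      uniq := fun s m hm => (cancel_mono i.hom).1 (by
        obtain ⟨n₀⟩ := hne
        rw [hl s (op n₀), ← hm (op n₀), Category.assoc]
        exact congrArg (m ≫ ·) (hp n₀).symm) }
  refine ⟨ι, inferInstance, hdir, hne, D, t, c, hc, Iso.refl _, fun n => hZ n.unop, fun a b f => ?_, fun n => ?_,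
    fun n => (Category.id_comp _).trans (hp n.unop)⟩
  · haveI := hmono b.unop
    refine repWith_of_comp_mono (m := z b.unop) ?_
    show RepWith _ (k f.unop.le ≫ z b.unop)
    rw [hk]
    exact (hz a.unop).1
  · have hn := (hz n.unop).1
    have hn' : RepWith @QuasiCompact (z n.unop) := repWith_mono (P := @IsClosedImmersion) (Q := @QuasiCompact)
      (fun _ _ g hg => have : IsClosedImmersion g := hg; inferInstance) hn
    refine ⟨hn, ?_, (isQuasiCompactMor_iff_repWith (hZ n.unop) Y.property hn.1).2 hn',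
      (isQuasiSeparatedMor_iff_repWith (hZ n.unop) Y.property hn.1).2
        (repWith_mono (P := @IsClosedImmersion) (Q := @QuasiSeparated)
          (fun _ _ g hg => have : IsClosedImmersion g := hg; inferInstance) hn)⟩
    obtain ⟨W, w, v, sq, hv⟩ := exists_repWith hn π
    haveI : IsClosedImmersion v.left := hv
    refine locP_of_chart etST_lfp (hZ n.unop) Y.property (repWith_baseChange sq.flip hπ)
      (repWith_baseChange sq.flip hπs) hπ sq.w ?_
    have hKv : v.left.ker = K n.unop := by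
      refine IsPullIdeal.unique (i := z n.unop) (φ := π) (fun T α => ⟨fun ⟨l₁, hl₁⟩ => ?_, fun h => ?_⟩) (hK n.unop)
      · obtain ⟨m, hm⟩ := exists_map_eq (sq.lift l₁ ((yon S).map α) hl₁)
        have hmv : m ≫ v = α := (yon S).map_injective (by rw [Functor.map_comp, hm, sq.lift_snd])
        rw [comap_eq_bot_iff, ← show m.left ≫ v.left = α.left from congrArg (fun q => q.left) hmv]
        exact Scheme.Hom.le_ker_comp _ _
      · rw [comap_eq_bot_iff] at h
        let m : T ⟶ W := Over.homMk (IsClosedImmersion.lift v.left α.left h) (by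
          rw [← Over.w v, IsClosedImmersion.lift_fac_assoc, Over.w α])
        refine ⟨(yon S).map m ≫ w, ?_⟩
        rw [Category.assoc, sq.w, ← Functor.map_comp_assoc,
          show m ≫ v = α from Over.OverMorphism.ext (IsClosedImmersion.lift_fac _ _ _)]
    haveI : LocallyOfFinitePresentation v.left.ker.subschemeι := GrpdFit.lfp_subschemeι _ fun x =>
      ⟨⟨⊤, isAffineOpen_top _⟩, trivial, by
        rw [hKv, hKN, ← hIN n.unop]
        exact (hFT n.unop).2.1 E₀ inferInstance⟩
    exact (MorphismProperty.cancel_left_of_respectsIso @LocallyOfFinitePresentation v.left.toImage v.left.imageι).2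
      (inferInstanceAs (LocallyOfFinitePresentation v.left.ker.subschemeι)) |> fun h => by
        rwa [Scheme.Hom.toImage_imageι] at h

end Groth.Agent.SpApprox
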