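import Groth.Agent.SpApprox.VSys
import Groth.Agent.EtQC.PushQcqs
import Groth.Agent.QA.Embed
import Groth.Agent.AlgSpLib.Subspace
import Groth.Agent.AlgSpLib.PointMisc
import Groth.Agent.AlgSpLib.ProperRange
import Groth.Agent.RelNorm.SheetsDense
import Groth.Agent.UnivInjMor.MonoUnram

/-!
A quasi-affine morphism of finite type to a qcqs space is a closed immersion followed by one of finite presentation.
-/

set_option autoImplicit false
set_option linter.style.haveILetI false
set_option backward.isDefEq.respectTransparency false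

universe u

noncomputable section

open CategoryTheory CategoryTheory.Limits AlgebraicGeometry Opposite AlgSp Topology

namespace Groth.Agent.SpApprox

open Groth.Agent.EtQC Groth.Agent.AlgSpLib

variable {S : Scheme.{u}}

/-- finitely many functions on the chart come from functionals on a module of finite presentation -/
theorem exists_taut_chart [QuasiSeparatedSpace ↥S] {X Y : Space S} (f : X ⟶ Y) (hfr : Representable f.hom)
    (hfc : IsQuasiCompactMor f.hom) (hfs : IsQuasiSeparatedMor f.hom) (hqc : IsQuasiCompactSp Y.obj)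
    (hqs : IsQuasiSeparatedSp Y.obj) (E₀ : EtOver Y.obj) [IsAffine E₀.obj.left.left]
    (hs : RepWith @Surjective E₀.obj.hom) {n : ℕ}
    (g : Fin n → Γ((EtOver.bcObj hfr E₀).obj.left.left, ⊤)) :
    ∃ (V : Sp S) (_ : IsAlgSpace V) (p : V ⟶ Y.obj) (τ : X.obj ⟶ V) (V₀ : Over S) (_ : IsAffine V₀.left)
      (z₀ : (yon S).obj V₀ ⟶ V) (v₀ : V₀ ⟶ E₀.obj.left) (τ₀ : (EtOver.bcObj hfr E₀).obj.left ⟶ V₀)
      (x : Fin n → Γ(V₀.left, ⊤)),
      IsAffineMor p ∧ IsFinitePresentationMor p ∧ τ ≫ p = f.hom ∧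
      IsPullback z₀ ((yon S).map v₀) p E₀.obj.hom ∧ (yon S).map τ₀ ≫ z₀ = hfr.fst E₀.obj.hom ≫ τ ∧
      τ₀ ≫ v₀ = hfr.snd E₀.obj.hom ∧ ∀ k, τ₀.left.appTop.hom (x k) = g k := by
  classical
  haveI := isQuasicoherent_unitModEt (X := X.obj)
  let M : ModEt Y.obj := (pushModEt hfr).obj (unitModEt X.obj)
  haveI : M.IsQuasicoherent := isQuasicoherent_push_of_qcqs hfr X.property Y.property hfc hfs _
  choose P φ hPq hPf hPs using fun k : ULift.{u + 1} (Fin n) =>
    exists_fp_to Y hqc hqs M E₀ {(upS (EtOver.bcObj hfr E₀) (g k.down) : sectModEt M E₀)}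
  haveI := hPq
  let T : Finset (ULift.{u + 1} (Fin n)) := Finset.univ
  haveI : (sumMod P T).IsQuasicoherent := isQuasicoherent_sumMod P T
  haveI : Module.FinitePresentation (Groth.Agent.EtQC.R E₀) (sectModEt (sumMod P T) E₀) :=
    finitePresentation_sumMod P T E₀ fun k => hPf k E₀
  have hprops := vSp_props (sumMod P T) (E₀ := E₀) Y.property hs
  obtain ⟨V₀, z₀, v₀, sqV, hV₀, -⟩ := exists_chart_rep (sumMod P T) (E₀ := E₀) Y.property
  have sqX := hfr.isPullback E₀.obj.hom
  obtain ⟨τ₀, hτ₀⟩ := exists_map_eq (sqV.lift (hfr.fst E₀.obj.hom ≫ taut hfr (sumTo P φ T))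
    ((yon S).map (hfr.snd E₀.obj.hom)) (by rw [Category.assoc, taut_π, sqX.w]))
  have hτz : (yon S).map τ₀ ≫ z₀ = hfr.fst E₀.obj.hom ≫ taut hfr (sumTo P φ T) := by
    rw [hτ₀]
    exact sqV.lift_fst _ _ _
  have hτv : τ₀ ≫ v₀ = hfr.snd E₀.obj.hom := (yon S).map_injective (by
    rw [Functor.map_comp, hτ₀]
    exact sqV.lift_snd _ _ _)
  choose m₁ hm₁ using fun k : Fin n => hPs (ULift.up k) _ (Finset.mem_singleton_self _)
  let m : Fin n → sectModEt (sumMod P T) E₀ := fun k =>
    appM (Sigma.ι (fun i : T => P i.1) ⟨ULift.up k, Finset.mem_univ _⟩) E₀ (m₁ k)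
  have hm : ∀ k, appM (sumTo P φ T) E₀ (m k) = upS (EtOver.bcObj hfr E₀) (g k) := fun k => by
    refine Eq.trans ?_ (hm₁ k)
    exact congrArg (fun q : P (ULift.up k) ⟶ M => appM q E₀ (m₁ k))
      (Sigma.ι_desc (f := fun i : T => P i.1) (fun i => φ i.1) ⟨ULift.up k, Finset.mem_univ _⟩)
  have hw : hfr.fst E₀.obj.hom ≫ f.hom = (yon S).map (τ₀ ≫ v₀) ≫ E₀.obj.hom := by
    rw [hτv]
    exact sqX.w
  refine ⟨_, hprops.1, vπ _, taut hfr (sumTo P φ T), V₀, hV₀, z₀, v₀, τ₀,
    fun k => (vEquiv z₀).ψ E₀ ‹_› V₀ (𝟙 V₀) v₀ (m k), hprops.2.1, hprops.2.2, taut_π hfr _, sqV, hτz, hτv,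
    fun k => ?_⟩
  refine (taut_value hfr (sumTo P φ T) E₀ ‹_› z₀ v₀ sqV.w (hfr.fst E₀.obj.hom) τ₀ hτz hw (m k)).trans ?_
  refine (pullFun_of_eq hfr (sumTo P φ T) E₀ _ (m k) (g k) (hm k)).trans ?_
  have hl : hfr.lift (hfr.fst E₀.obj.hom) (τ₀ ≫ v₀) hw = 𝟙 _ := by
    refine hfr.hom_ext ?_ ?_
    · rw [hfr.lift_fst, CategoryTheory.Functor.map_id, Category.id_comp]
    · rw [hfr.lift_snd, Category.id_comp, hτv]
  rw [hl]
  rfl

/-- a quasi-affine morphism of finite type to a qcqs space factors as a closed immersion and a finitely presented one -/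
theorem exists_factor_closed_fp [QuasiSeparatedSpace ↥S] {X Y : Space S} (f : X ⟶ Y)
    (hft : LocP @LocallyOfFiniteType f.hom) (hqa : IsQuasiAffineMor f.hom) (hqc : IsQuasiCompactSp Y.obj)
    (hqs : IsQuasiSeparatedSp Y.obj) :
    ∃ (X' : Space S) (i : X ⟶ X') (f' : X' ⟶ Y), i ≫ f' = f ∧
      RepWith @IsClosedImmersion i.hom ∧ IsFinitePresentationMor f'.hom := by
  classical
  have hQ := (isQuasiAffineMor_iff_repWith f.hom).1 hqa
  have hfr : Representable f.hom := hQ.1
  have hfc : IsQuasiCompactMor f.hom := (isQuasiCompactMor_iff_repWith X.property Y.property hfr).2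
    (repWith_mono (fun _ _ r hr => hr.1) hQ)
  haveI := compactSpace_of_isQuasiCompactSp hqc
  obtain ⟨U, π, hU, hπ, hπs⟩ := exists_affine_chart_of_compact Y.property
  let E₀ : EtOver Y.obj := EtOver.mk π hπ
  haveI : IsAffine E₀.obj.left.left := hU
  let X₀ : Over S := (EtOver.bcObj hfr E₀).obj.left
  let xv : X₀ ⟶ U := hfr.snd E₀.obj.hom
  have sqX : IsPullback (hfr.fst E₀.obj.hom) ((yon S).map xv) f.hom π := hfr.isPullback E₀.obj.hom
  have hxv : qaMor xv.left := hQ.2 π _ _ sqX
  haveI : QuasiCompact xv.left := hxv.1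
  haveI hX₀ : X₀.left.IsQuasiAffine := by
    have h := hxv.2 ⊤ (isAffineOpen_top _)
    exact .of_isAffineHom (show X₀.left ⟶ (xv.left ⁻¹ᵁ ⊤).toScheme from X₀.left.topIso.inv)
  have hfs : IsQuasiSeparatedMor f.hom := (isQuasiSeparatedMor_iff_repWith X.property Y.property hfr).2
    (repWith_mono (fun _ _ r hr => QA.quasiSeparated hr) hQ)
  haveI hlft : LocallyOfFiniteType xv.left :=
    ((locP_iff_repWith etST_lft Y.property hfr).1 hft).2 π _ _ sqX
  obtain ⟨n, j, hj, hjπ⟩ := QA.exists_immersion_affineSpace xv.left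
  obtain ⟨V, hV, p, τ, V₀, hV₀, z₀, v₀, τ₀, x, hpA, hpF, hτp, sqV, hτz, hτv, hx⟩ :=
    exists_taut_chart f hfr hfc hfs hqc hqs E₀ hπs fun k => j.appTop.hom (AffineSpace.coord _ (ULift.up k))
  haveI hτ₀i : IsImmersion τ₀.left := by
    let q := AffineSpace.homOfVector v₀.left fun k : ULift.{u} (Fin n) => x k.down
    have e : τ₀.left ≫ q = j := by
      refine AffineSpace.hom_ext ?_ fun k => ?_
      · rw [Category.assoc, AffineSpace.homOfVector_over, ← Over.comp_left, hτv]
        exact hjπ.symm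
      · rw [Scheme.Hom.comp_appTop]
        show τ₀.left.appTop.hom (q.appTop.hom (AffineSpace.coord _ k)) = _
        rw [show q.appTop.hom (AffineSpace.coord _ k) = x k.down from AffineSpace.homOfVector_appTop_coord _ _ _]
        exact hx k.down
    haveI : IsImmersion (τ₀.left ≫ q) := by rw [e]; exact hj
    exact IsImmersion.of_comp τ₀.left q
  have hpre : IsPullback (hfr.fst E₀.obj.hom) ((yon S).map τ₀) τ z₀ := by
    refine IsPullback.of_bot ?_ hτz.symm sqV
    rw [hτp, ← Functor.map_comp, hτv]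
    exact sqX
  -- the image
  let T : Set (Points V) := Set.range (Points.map τ)
  have hT : Points.ofPt z₀ ⁻¹' T = Set.range τ₀.left := by
    ext v
    constructor
    · rintro ⟨w, hw⟩
      obtain ⟨q, -, hq⟩ := exists_point_of_isPullback hpre w (Points.ofScheme V₀ v)
        (by rw [Points.map_ofPt, Category.id_comp, hw])
      obtain ⟨w₀, rfl⟩ := (Points.schemeEquiv X₀).surjective q
      refine ⟨w₀, (Points.schemeEquiv V₀).injective ?_⟩
      show Points.ofScheme V₀ (τ₀.left w₀) = Points.ofScheme V₀ v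
      rw [← hq, ← ofScheme_map]
      exact ((Points.map_ofPt (𝟙 _) ((yon S).map τ₀) w₀).trans (by rw [Category.id_comp])).symm
    · rintro ⟨w, rfl⟩
      refine ⟨Points.ofPt (hfr.fst E₀.obj.hom) w, ?_⟩
      rw [Points.map_ofPt, ← hτz, ofPt_comp]
      rfl
  have hz₀e : RepWith @Etale z₀ := repWith_baseChange sqV.flip hπ
  have hz₀s : RepWith @Surjective z₀ := repWith_baseChange sqV.flip hπs
  have hz₀o : IsOpenMap (Points.ofPt z₀) := isOpenMap_ofPt (repWith_universallyOpen_of_etale hz₀e)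
  let O₀ : V₀.left.Opens := ⟨coborder (Set.range τ₀.left), τ₀.left.isLocallyClosed_range.isOpen_coborder⟩
  haveI : CompactSpace X₀.left := inferInstance
  obtain ⟨K, hK₁, hK₂, hK₃, hK₄⟩ := PrespectralSpace.exists_isCompact_and_isOpen_between
    (isCompact_range τ₀.left.continuous) O₀.2 subset_coborder
  let W : Set (Points V) := Points.ofPt z₀ '' K
  have hW : IsOpen W := hz₀o K hK₂
  have hWc : IsCompact W := hK₁.image (Points.continuous_ofPt z₀)
  have hWT : T ⊆ W := fun y hy => by
    obtain ⟨v, rfl⟩ := ofPt_surjective hz₀s y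
    exact Set.mem_image_of_mem _ (hK₃ ((Set.ext_iff.1 hT v).1 hy))
  have hWpre : Points.ofPt z₀ ⁻¹' W ⊆ O₀ := fun v hv => by
    show v ∈ coborder (Set.range τ₀.left)
    rw [← hT, coborder_preimage hz₀o (Points.continuous_ofPt z₀)]
    obtain ⟨v', hv', e⟩ := hv
    have h := hK₄ hv'
    change v' ∈ coborder (Set.range τ₀.left) at h
    rw [← hT, coborder_preimage hz₀o (Points.continuous_ofPt z₀)] at h
    show Points.ofPt z₀ v ∈ coborder T
    rw [← e]
    exact h
  have hpqs : IsQuasiSeparatedSp V := isQuasiSeparatedSp_of_mor hpF.2.2 hqs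
  obtain ⟨hincC, -⟩ := RelNorm.repWith_qc_subInc hV hpqs hW hWc
  have hW' := isAlgSpace_subSheaf hV hW
  obtain ⟨i, hi⟩ := exists_factor_subInc (W := W) τ fun y => hWT ⟨y, rfl⟩
  obtain ⟨W₀, a, w, sqW, hw⟩ := exists_repWith (repWith_subInc hW) z₀
  haveI : IsOpenImmersion w.left := hw
  obtain ⟨k, hk⟩ := exists_map_eq (sqW.lift (hfr.fst E₀.obj.hom ≫ i) ((yon S).map τ₀)
    (by rw [Category.assoc, hi, hτz]))
  have hkw : k ≫ w = τ₀ := (yon S).map_injective (by rw [Functor.map_comp, hk, sqW.lift_snd])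
  have hka : (yon S).map k ≫ a = hfr.fst E₀.obj.hom ≫ i := by rw [hk, sqW.lift_fst]
  have hsqi : IsPullback (hfr.fst E₀.obj.hom) ((yon S).map k) i a := by
    refine IsPullback.of_bot ?_ hka.symm sqW
    rw [hi, ← Functor.map_comp, hkw]
    exact hpre
  have hkc : IsClosedImmersion k.left := by
    haveI : IsImmersion (k.left ≫ w.left) := by rw [← Over.comp_left, hkw]; exact hτ₀i
    haveI : IsImmersion k.left := IsImmersion.of_comp k.left w.left
    refine IsClosedImmersion.of_isPreimmersion k.left ?_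
    have : Set.range k.left = w.left ⁻¹' closure (Set.range τ₀.left) := by
      ext t
      constructor
      · rintro ⟨s, rfl⟩
        refine subset_closure ⟨s, ?_⟩
        rw [← hkw]
        rfl
      · intro ht
        have h1 : w.left t ∈ Points.ofPt z₀ ⁻¹' W := by
          show Points.ofPt z₀ (w.left t) ∈ W
          rw [← ofPt_comp, ← sqW.w]
          exact ofPt_subInc_mem a t
        obtain ⟨s, hs⟩ : w.left t ∈ Set.range τ₀.left := by
          rw [← closure_inter_coborder (s := Set.range τ₀.left)]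
          exact ⟨ht, hWpre h1⟩
        refine ⟨s, w.left.isOpenEmbedding.injective ?_⟩
        rw [← hs, ← hkw]
        rfl
    rw [this]
    exact isClosed_closure.preimage w.left.continuous
  have hae : RepWith @Etale a := repWith_baseChange sqW.flip hz₀e
  have has : RepWith @Surjective a := repWith_baseChange sqW.flip hz₀s
  have hic : RepWith @IsClosedImmersion i := repWith_of_fppfCover @IsClosedImmersion
    (fun _ _ r hr => have : IsClosedImmersion r := hr; indQA_of_isAffineHom r) hW'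
    (fun _ => IsAlgSpace.yon_obj W₀)
    (ι := PUnit.{u + 1}) (Yi := fun _ => (yon S).obj W₀) (g := fun _ => a)
    ⟨fun _ => ⟨SchImg.locP_flat_of_etale hW' hae,
      (locP_iff_repWith etST_lfp hW' hae.1).2 (repWith_mono (fun _ _ r hr => by
        have : Etale r := hr
        infer_instance) hae)⟩, fun y => ⟨PUnit.unit, isSurjectiveMor_of_repWith has y⟩⟩
    i (fun _ => _) (fun _ => (yon S).map k) (fun _ => hfr.fst E₀.obj.hom) (fun _ => hsqi)
    (fun _ => (repWith_yon_map_iff @IsClosedImmersion _).2 hkc)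
  haveI : Mono (subInc W) := mono_of_repWith_immersion (repWith_mono (P := @IsOpenImmersion) (Q := @IsImmersion)
    (fun _ _ r hr => by
      have : IsOpenImmersion r := hr
      infer_instance) (repWith_subInc hW))
  have hincF : LocP @LocallyOfFinitePresentation (subInc W) :=
    (locP_iff_repWith etST_lfp hV (repWith_subInc hW).1).2 (repWith_mono (fun _ _ r hr => by
      have : IsOpenImmersion r := hr
      infer_instance) (repWith_subInc hW))
  refine ⟨⟨subSheaf W, hW'⟩, ObjectProperty.homMk i, ObjectProperty.homMk (subInc W ≫ p),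
    ObjectProperty.hom_ext _ (by show i ≫ subInc W ≫ p = f.hom; rw [← Category.assoc, hi, hτp]), hic,
    locP_comp etST_lfp hV Y.property hincF hpF.1,
    isQuasiCompactMor_comp hV Y.property ((isQuasiCompactMor_iff_repWith hW' hV hincC.1).2 hincC) hpF.2.1,
    isQuasiSeparatedMor_comp (ValLib.isQuasiSeparatedMor_of_separated _ (UnivInjMor.isSeparatedMor_of_mono _))
      hpF.2.2⟩

end Groth.Agent.SpApprox

end
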