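import Groth.Agent.SpApprox.AbsStep
import Groth.Agent.ElemSq.Induct

/-!
Absolute noetherian approximation of quasi-compact quasi-separated algebraic spaces.
-/

set_option autoImplicit false
set_option linter.style.haveILetI false
set_option backward.isDefEq.respectTransparency false

universe u

noncomputable section

open CategoryTheory CategoryTheory.Limits AlgebraicGeometry Opposite AlgSp

namespace Groth.Agent.SpApprox

open Groth.Agent.AlgSpLib

variable {S : Scheme.{u}}

theorem dom_id (X : Sp S) : Dom (𝟙 X) := fun E e he P a b sq => by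
  haveI : IsIso ((yon S).map b) := sq.isIso_snd_of_isIso
  haveI : IsIso b := isIso_of_fully_faithful (yon S) b
  haveI : IsIso b.left := inferInstanceAs (IsIso ((Over.forget S).map b))
  exact (asIso b.left.appTop).commRingCatIsoToRingEquiv.injective

theorem hasApproxSp_of_isEmpty {X : Sp S} (hX : IsAlgSpace X) [IsEmpty (Points X)]
    (hs : IsQuasiSeparatedSp X) : HasApproxSp X := by
  haveI : IsDirected PUnit.{u + 1} (fun a b => a ≤ b) := ⟨fun _ _ => ⟨PUnit.unit, le_rfl, le_rfl⟩⟩
  let π : (Functor.const PUnit.{u + 1}ᵒᵖ).obj X ⟶ (Functor.const PUnit.{u + 1}ᵒᵖ).obj X := 𝟙 _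
  have hl : IsLimit (Cone.mk X π) :=
    { lift := fun s => s.π.app (op PUnit.unit)
      fac := fun s j => Category.comp_id _
      uniq := fun s m hm => (Category.comp_id m).symm.trans (hm (op PUnit.unit)) }
  refine ⟨PUnit.{u + 1}, inferInstance, inferInstance, inferInstance, _, π, hl,
    fun i => ⟨hX, @isQuasiCompactSp_of_compactSpace _ X hX Finite.compactSpace, hs, fun U V a b h ha hb comm => ?_⟩,
    fun i j φ => (isAffineMor_iff_repWith _).2 (repWith_of_isIso (𝟙 X)), fun i => dom_id X⟩
  haveI : IsEmpty U.left := ⟨fun v => isEmptyElim (Points.ofPt a v : Points X)⟩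
  infer_instance

/-- **Absolute noetherian approximation for algebraic spaces.** -/
theorem hasApproxSp (hS : IsTerminal S) (X : Space S) (hXc : IsQuasiCompactSp X.obj)
    (hXs : IsQuasiSeparatedSp X.obj) : HasApproxSp X.obj := by
  haveI := quasiSeparatedSpace_terminal hS
  let W : Space S := ⟨subSheaf (∅ : Set (Points X.obj)), isAlgSpace_subSheaf X.property isOpen_empty⟩
  let jW : W ⟶ X := ObjectProperty.homMk (subInc _)
  have hjW : RepWith @IsOpenImmersion jW.hom := repWith_subInc isOpen_empty
  refine ElemSq.induct_space X hXc hXs (fun U _ => HasApproxSp U.obj) W jW hjW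
    (ElemSq.isQuasiCompactSp_subSheaf X.property isOpen_empty isCompact_empty) ?_ ?_
  · haveI : IsEmpty (Points W.obj) := ⟨fun w => by
      have h : Points.map (subInc (∅ : Set (Points X.obj))) w ∈ Set.range (Points.map (subInc (∅ : Set (Points X.obj)))) :=
        ⟨w, rfl⟩
      exact Set.notMem_empty _ ((Set.ext_iff.1 (range_subInc (∅ : Set (Points X.obj))) _).1 h)⟩
    exact hasApproxSp_of_isEmpty W.property (ElemSq.isQuasiSeparatedSp_of_open hjW hXs)
  · intro W₁ W₂ V j₁ j₂ k m f hV hj₁ hj₂ hk hm hq₁ hq₂ hsq h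
    haveI := hV
    exact hasApproxSp_step hS W₁.property W₂.property k.hom f.hom hsq (ElemSq.isQuasiSeparatedSp_of_open hj₂ hXs) h

end Groth.Agent.SpApprox

end
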