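import Groth.Agent.SpApprox.AbsTransfer
import Groth.Agent.SpApprox.AbsSpMain
import Groth.Agent.S10040

/-!
Relative noetherian approximation of spaces.
-/

set_option autoImplicit false
set_option linter.style.haveILetI false
set_option backward.isDefEq.respectTransparency false

universe u

noncomputable section

open CategoryTheory CategoryTheory.Limits AlgebraicGeometry Opposite AlgSp

namespace Groth.Agent.SpApprox

open Groth.Agent.AlgSpLib Groth.Agent.AlgSpLib.ShriekS

variable {S : Scheme.{u}}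

theorem isQuasiCompactSp_base (hS : IsTerminal S) : IsQuasiCompactSp ((yon S).obj (Over.mk (𝟙 S))) := by
  haveI : CompactSpace (Spec (CommRingCat.of (ULift.{u} ℤ))) := inferInstance
  haveI : CompactSpace (Over.mk (𝟙 S) : Over S).left :=
    QuasiCompact.compactSpace_of_compactSpace (hS.uniqueUpToIso specULiftZIsTerminal.{u}).hom
  exact isQuasiCompactSp_yon _

/-- a limit of finitely presented spaces over `Y`, with affine transition morphisms -/
def HasApproxRel {X Y : Sp S} (f : X ⟶ Y) : Prop :=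
  ∃ (I : Type u) (_ : Preorder I) (_ : IsDirected I (fun a b => a ≤ b)) (_ : Nonempty I) (D : Iᵒᵖ ⥤ Sp S)
    (π : (Functor.const Iᵒᵖ).obj X ⟶ D) (_ : IsLimit (Cone.mk X π)) (t : D ⟶ (Functor.const Iᵒᵖ).obj Y),
    (∀ i, IsAlgSpace (D.obj i) ∧ IsQuasiCompactSp (D.obj i) ∧ IsQuasiSeparatedSp (D.obj i) ∧
      LocP @LocallyOfFinitePresentation (t.app i)) ∧
    (∀ (i j : Iᵒᵖ) (φ : i ⟶ j), IsAffineMor (D.map φ)) ∧ ∀ i, π.app i ≫ t.app i = f

set_option maxHeartbeats 2000000 in
theorem hasApproxRel_absolute (hS : IsTerminal S) {X Y : Space S} (f : X ⟶ Y)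
    (hXc : IsQuasiCompactSp X.obj) (hXs : IsQuasiSeparatedSp X.obj) (hYc : IsQuasiCompactSp Y.obj)
    (hYs : IsQuasiSeparatedSp Y.obj) : HasApproxRel f.hom := by
  haveI := quasiSeparatedSpace_terminal hS
  haveI := isLocallyNoetherian_terminal hS
  obtain ⟨I, _, _, _, DX, DY, φ, cX, cY, hcX, hcY, eX, eY, hsp, haf, hprop, hcomm⟩ :=
    S10040.result S hS f hXc hXs hYc hYs
  haveI : IsCofiltered Iᵒᵖ := isCofiltered_op_of_isFiltered _
  let πY : ∀ i, Y.obj ⟶ DY.obj i := fun i => eY.inv ≫ cY.π.app i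
  let πX : ∀ i, X.obj ⟶ DX.obj i := fun i => eX.inv ≫ cX.π.app i
  have hπY : ∀ {i j : Iᵒᵖ} (a : i ⟶ j), πY i ≫ DY.map a = πY j := fun a => by
    simp only [πY, Category.assoc, cY.w]
  have hπX : ∀ {i j : Iᵒᵖ} (a : i ⟶ j), πX i ≫ DX.map a = πX j := fun a => by
    simp only [πX, Category.assoc, cX.w]
  have hc : ∀ i, πX i ≫ φ.app i = f.hom ≫ πY i := fun i => by
    simp only [πX, πY, Category.assoc, hcomm, Iso.inv_hom_id_assoc]
  have hπYa : ∀ i, RepWith @IsAffineHom (πY i) := fun i => (repWith_iso_comp_iff eY.inv _).2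
    ((isAffineMor_iff_repWith _).1 (SchImg.repWith_affine_lim DY (fun i j a => (haf i j a).2) cY hcY i))
  let E : Iᵒᵖ ⥤ Sp S :=
    { obj := fun i => pullback (φ.app i) (πY i)
      map := fun {i j} a => pullback.map _ _ _ _ (DX.map a) (𝟙 _) (DY.map a) (φ.naturality a).symm
        ((hπY a).trans (Category.id_comp _).symm)
      map_id := fun i => by apply pullback.hom_ext <;> simp
      map_comp := fun a b => by apply pullback.hom_ext <;> simp }
  have hEf : ∀ {i j : Iᵒᵖ} (a : i ⟶ j), E.map a ≫ pullback.fst (φ.app j) (πY j) =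
      pullback.fst (φ.app i) (πY i) ≫ DX.map a := fun a => pullback.lift_fst _ _ _
  have hEs : ∀ {i j : Iᵒᵖ} (a : i ⟶ j), E.map a ≫ pullback.snd (φ.app j) (πY j) = pullback.snd (φ.app i) (πY i) :=
    fun a => (pullback.lift_snd _ _ _).trans (Category.comp_id _)
  have hE : ∀ i, IsAlgSpace (E.obj i) := fun i =>
    isAlgSpace_of_isPullback_space (hsp i).2 (hsp i).1 Y.property (IsPullback.of_hasPullback _ _)
  have hfa : ∀ i, RepWith @IsAffineHom (pullback.fst (φ.app i) (πY i)) := fun i =>
    repWith_baseChange (IsPullback.of_hasPullback (φ.app i) (πY i)).flip (hπYa i)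
  let π : (Functor.const Iᵒᵖ).obj X.obj ⟶ E :=
    { app := fun i => pullback.lift (πX i) f.hom (hc i)
      naturality := fun i j a => by
        show 𝟙 _ ≫ _ = _
        rw [Category.id_comp]
        apply pullback.hom_ext
        · rw [Category.assoc, hEf, pullback.lift_fst, pullback.lift_fst_assoc, hπX]
        · rw [Category.assoc, hEs, pullback.lift_snd, pullback.lift_snd] }
  let hlX : IsLimit (Cone.mk X.obj { app := πX, naturality := fun i j a => (Category.id_comp _).trans (hπX a).symm }) :=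
    hcX.ofIsoLimit (Cone.ext eX (fun i => (eX.hom_inv_id_assoc _).symm))
  let s' : Cone E → Cone DX := fun s =>
    { pt := s.pt
      π :=
        { app := fun i => s.π.app i ≫ pullback.fst _ _
          naturality := fun i j a => by
            show 𝟙 _ ≫ _ = _
            rw [Category.id_comp, Category.assoc, ← hEf a, ← Category.assoc, s.w] } }
  let l : ∀ s : Cone E, s.pt ⟶ X.obj := fun s => hlX.lift (s' s)
  have hl : ∀ s i, l s ≫ πX i = s.π.app i ≫ pullback.fst _ _ := fun s i => hlX.fac (s' s) i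
  have hlf : ∀ s i, l s ≫ f.hom = s.π.app i ≫ pullback.snd _ _ := fun s i => by
    refine (cancel_mono eY.inv).1 (hcY.hom_ext fun j => ?_)
    rw [Category.assoc, Category.assoc, Category.assoc, Category.assoc]
    show l s ≫ f.hom ≫ πY j = s.π.app i ≫ pullback.snd _ _ ≫ πY j
    rw [← hc j, ← Category.assoc, hl, Category.assoc, pullback.condition]
    obtain ⟨k, a, b, -⟩ := IsCofilteredOrEmpty.cone_objs i j
    rw [← s.w a, ← s.w b, Category.assoc, Category.assoc]
    congr 1
    rw [reassoc_of% (hEs a), reassoc_of% (hEs b)]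
  have hlim : IsLimit (Cone.mk X.obj π) :=
    { lift := l
      fac := fun s i => by
        apply pullback.hom_ext
        · rw [Category.assoc]
          show l s ≫ pullback.lift _ _ _ ≫ _ = _
          rw [pullback.lift_fst, hl]
        · rw [Category.assoc]
          show l s ≫ pullback.lift _ _ _ ≫ _ = _
          rw [pullback.lift_snd, hlf s i]
      uniq := fun s m hm => hlX.hom_ext fun i => by
        show m ≫ πX i = l s ≫ πX i
        rw [hl, ← hm i]
        show m ≫ πX i = (m ≫ pullback.lift _ _ _) ≫ _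
        rw [Category.assoc, pullback.lift_fst] }
  let t : E ⟶ (Functor.const Iᵒᵖ).obj Y.obj :=
    { app := fun i => pullback.snd _ _
      naturality := fun i j a => (hEs a).trans (Category.comp_id _).symm }
  refine ⟨I, inferInstance, inferInstance, inferInstance, E, π, hlim, t, fun i => ?_, fun i j a => ?_,
    fun i => pullback.lift_snd _ _ _⟩
  · obtain ⟨hXq, hYq, hXt, hYt⟩ := hprop i
    have hXi : IsQuasiCompactSp (DX.obj i) :=
      (hXt (SpQS.baseStr _)).2 (IsAlgSpace.yon_obj _) (isQuasiCompactSp_base hS) (𝟙 _) (𝟙 _) (SpQS.baseStr _)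
        (IsPullback.of_horiz_isIso ⟨by simp⟩)
    obtain ⟨hq, hs⟩ := SpDesc.qcqs_of_affine (hE i) (hsp i).1 (hfa i) hXi hXq
    refine ⟨hE i, hq, hs, ?_⟩
    exact locP_baseChange etST_lfp (hsp i).1 (hsp i).2 (hE i) Y.property (IsPullback.of_hasPullback _ _)
      (lfp_cancel (IsAlgSpace.yon_obj _) (g := SpQS.baseStr (DY.obj i))
        (lfp_base (by
          rw [SpQS.isTerminalBase.hom_ext (φ.app i ≫ SpQS.baseStr _) (SpQS.baseStr _)]
          exact (hXt _).1)) (hYt _).1)
  · refine (isAffineMor_iff_repWith _).2 (Groth.Agent.AlgSpLib.repWith_of_comp (P := @IsAffineHom) (E.map a)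
      (pullback.fst _ _ ≫ DX.map a) (pullback.fst _ _) (hEf a)
      (repWith_comp (hfa i) ((isAffineMor_iff_repWith _).1 (haf i j a).1)) ?_)
    exact repWith_mono (fun _ _ r hr => by
      have : IsClosedImmersion r := hr
      exact (inferInstance : IsAffineHom r)) (isSeparatedMor_of_affine (hE j) (hsp j).1 (hfa j))

set_option maxHeartbeats 2000000 in
theorem hasApproxRel_qc [QuasiSeparatedSpace ↥S] {X Y : Space S} (f : X ⟶ Y) (hXc : IsQuasiCompactSp X.obj)
    (hXs : IsQuasiSeparatedSp X.obj) (hYc : IsQuasiCompactSp Y.obj) (hYs : IsQuasiSeparatedSp Y.obj) :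
    HasApproxRel f.hom := by
  let Z : Scheme.{u} := Spec (CommRingCat.of (ULift.{u} ℤ))
  let g : S ⟶ Z := specULiftZIsTerminal.from S
  haveI := quasiSeparatedSpace_terminal (S := Z) specULiftZIsTerminal
  let X' : Space Z := ⟨(jFun g).obj X.obj, isAlgSpace_jFun g X.property⟩
  let Y' : Space Z := ⟨(jFun g).obj Y.obj, isAlgSpace_jFun g Y.property⟩
  obtain ⟨I, _, _, _, E, π, hl, t, hE, hEa, hπt⟩ := hasApproxRel_absolute specULiftZIsTerminal
    (X := X') (Y := Y') (ObjectProperty.homMk ((jFun g).map f.hom))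
    ((qc_jFun_iff g X.property).2 hXc) ((qs_jFun_iff g).2 hXs) ((qc_jFun_iff g Y.property).2 hYc)
    ((qs_jFun_iff g).2 hYs)
  choose F e he using fun i => exists_iso_slice g (E.obj i) (t.app i ≫ jπ g Y.obj)
  have hmap : ∀ {i j : Iᵒᵖ} (a : i ⟶ j), ∃ α : F i ⟶ F j, (jFun g).map α = (e i).hom ≫ E.map a ≫ (e j).inv :=
    fun {i j} a => exists_jFun_eq g _ (by
      rw [Category.assoc, Category.assoc, ← he j, (e j).inv_hom_id_assoc, ← Category.assoc (E.map a),
        t.naturality a, ← he i]
      exact congrArg (fun k => (e i).hom ≫ k ≫ _) (Category.comp_id _))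
  choose α hα using @hmap
  let D : Iᵒᵖ ⥤ Sp S :=
    { obj := F
      map := fun a => α a
      map_id := fun i => jFun_map_injective g (by simp [hα])
      map_comp := fun a b => jFun_map_injective g (by simp [hα]) }
  have htex : ∀ i, ∃ τ : F i ⟶ Y.obj, (jFun g).map τ = (e i).hom ≫ t.app i := fun i =>
    exists_jFun_eq g _ (by rw [Category.assoc]; exact he i)
  choose τ hτ using htex
  let t' : D ⟶ (Functor.const Iᵒᵖ).obj Y.obj :=
    { app := τ
      naturality := fun i j a => jFun_map_injective g (by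
        show (jFun g).map (α a ≫ τ j) = (jFun g).map (τ i ≫ 𝟙 _)
        rw [Category.comp_id, Functor.map_comp, hα, hτ, hτ, Category.assoc, Category.assoc, (e j).inv_hom_id_assoc,
          t.naturality a]
        exact congrArg ((e i).hom ≫ ·) (Category.comp_id _)) }
  have hπex : ∀ i, ∃ p : X.obj ⟶ F i, (jFun g).map p = π.app i ≫ (e i).inv := fun i =>
    exists_jFun_eq g _ (by
      rw [Category.assoc, ← he i, (e i).inv_hom_id_assoc, ← Category.assoc, hπt i]
      exact map_jπ g f.hom)
  choose p hp using hπex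
  let π' : (Functor.const Iᵒᵖ).obj X.obj ⟶ D :=
    { app := p
      naturality := fun i j a => jFun_map_injective g (by
        show (jFun g).map (𝟙 _ ≫ p j) = (jFun g).map (p i ≫ α a)
        rw [Category.id_comp, Functor.map_comp, hp, hp, hα, Category.assoc, (e i).inv_hom_id_assoc,
          ← Category.assoc]
        exact congrArg (· ≫ (e j).inv) ((Cone.mk _ π).w a).symm) }
  let s' : Cone D → Cone E := fun s =>
    { pt := (jFun g).obj s.pt
      π :=
        { app := fun i => (jFun g).map (s.π.app i) ≫ (e i).hom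
          naturality := fun i j a => by
            show 𝟙 _ ≫ _ = _
            rw [Category.id_comp, ← s.w a, Functor.map_comp, Category.assoc, Category.assoc]
            show _ ≫ (jFun g).map (α a) ≫ _ = _
            rw [hα, Category.assoc, Category.assoc, (e j).inv_hom_id, Category.comp_id] } }
  obtain ⟨i₀⟩ := ‹Nonempty I›
  have hlift : ∀ s : Cone D, ∃ m : s.pt ⟶ X.obj, ∀ i, m ≫ p i = s.π.app i := fun s => by
    obtain ⟨m, hm⟩ := exists_jFun_eq g (hl.lift (s' s)) (by
      have h1 : jπ g X.obj = π.app (op i₀) ≫ t.app (op i₀) ≫ jπ g Y.obj := by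
        rw [← Category.assoc, hπt]
        exact (map_jπ g f.hom).symm
      rw [h1]
      refine ((Category.assoc _ _ _).symm.trans (congrArg (· ≫ t.app (op i₀) ≫ jπ g Y.obj) (hl.fac (s' s) (op i₀)))).trans ?_
      show ((jFun g).map (s.π.app (op i₀)) ≫ (e (op i₀)).hom) ≫ _ = _
      rw [Category.assoc, he, map_jπ]
      rfl)
    refine ⟨m, fun i => jFun_map_injective g ?_⟩
    rw [Functor.map_comp, hm, hp, ← Category.assoc]
    refine (congrArg (· ≫ (e i).inv) (hl.fac (s' s) i)).trans ?_
    show ((jFun g).map (s.π.app i) ≫ (e i).hom) ≫ (e i).inv = _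
    rw [Category.assoc, (e i).hom_inv_id, Category.comp_id]
  choose m hm using hlift
  have hlim : IsLimit (Cone.mk X.obj π') :=
    { lift := m
      fac := hm
      uniq := fun s k hk => jFun_map_injective g (hl.hom_ext fun i => by
        rw [← cancel_mono (e i).inv]
        show ((jFun g).map k ≫ π.app i) ≫ _ = ((jFun g).map (m s) ≫ π.app i) ≫ _
        rw [Category.assoc, Category.assoc, ← hp i, ← Functor.map_comp, ← Functor.map_comp, hm]
        exact congrArg _ (hk i)) }
  refine ⟨I, inferInstance, inferInstance, inferInstance, D, π', hlim, t', fun i => ?_, fun i j a => ?_,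
    fun i => jFun_map_injective g ?_⟩
  · obtain ⟨h1, h2, h3, h4⟩ := hE i
    have hF : IsAlgSpace (F i) := isAlgSpace_of_jFun g (h1.of_iso (e i).symm)
    refine ⟨hF, (qc_jFun_iff g hF).1 (SpDesc.qc_of_iso (isAlgSpace_jFun g hF) h1 (e i) h2),
      (qs_jFun_iff g).1 (SpDesc.qs_of_iso (e i) h3), locP_of_jFun g ?_⟩
    show LocP _ ((jFun g).map (τ i))
    rw [hτ]
    exact locP_comp etST_lfp h1 (isAlgSpace_jFun g Y.property) (lfp_of_etale h1 (EtGlue.etale_iso _)) h4
  · refine (isAffineMor_iff_repWith _).2 ((repWith_jFun_iff g _ _).1 ?_)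
    show RepWith _ ((jFun g).map (α a))
    rw [hα]
    exact (repWith_iso_comp_iff _ _).2 ((repWith_comp_iso_iff _ _).2 ((isAffineMor_iff_repWith _).1 (hEa i j a)))
  · show (jFun g).map (p i ≫ τ i) = _
    rw [Functor.map_comp, hp, hτ, Category.assoc, (e i).inv_hom_id_assoc]
    exact hπt i

set_option maxHeartbeats 2000000 in
/-- **Relative noetherian approximation.** -/
theorem hasApproxRel [QuasiSeparatedSpace ↥S] {X Y : Space S} (f : X ⟶ Y) (hXc : IsQuasiCompactSp X.obj)
    (hXs : IsQuasiSeparatedSp X.obj) (hYs : IsQuasiSeparatedSp Y.obj) : HasApproxRel f.hom := by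
  classical
  haveI := compactSpace_of_isQuasiCompactSp hXc
  obtain ⟨U, p, ι, Z, he, hs, hZ, -, hcov⟩ := exists_affine_chart_family Y.property
  have ho : ∀ i, IsOpen (Points.ofPt p '' (Z i : Set U.left)) := fun i =>
    isOpenMap_ofPt (repWith_universallyOpen_of_etale he) _ (Z i).2
  obtain ⟨s, hsc⟩ := (isCompact_range (Points.continuous_map f.hom)).elim_finite_subcover _ ho (fun y _ => by
    obtain ⟨v, rfl⟩ := ofPt_surjective hs y
    obtain ⟨i, hi⟩ := hcov v
    exact Set.mem_iUnion.2 ⟨i, v, hi, rfl⟩)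
  let W : Set (Points Y.obj) := ⋃ i ∈ s, Points.ofPt p '' (Z i : Set U.left)
  have hW : IsOpen W := isOpen_biUnion fun i _ => ho i
  have hWc : IsCompact W := s.finite_toSet.isCompact_biUnion fun i _ =>
    (hZ i).isCompact.image (Points.continuous_ofPt p)
  let Y₀ : Space S := ⟨subSheaf W, isAlgSpace_subSheaf Y.property hW⟩
  obtain ⟨f₀, hf₀⟩ := exists_factor_subInc (W := W) f.hom fun x => hsc ⟨x, rfl⟩
  obtain ⟨I, _, _, _, D, π, hl, t, hD, hDa, hπ⟩ := hasApproxRel_qc (X := X) (Y := Y₀) (ObjectProperty.homMk f₀) hXc hXs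
    (ElemSq.isQuasiCompactSp_subSheaf Y.property hW hWc) (ElemSq.isQuasiSeparatedSp_of_open (repWith_subInc hW) hYs)
  refine ⟨I, inferInstance, inferInstance, inferInstance, D, π, hl,
    t ≫ (Functor.const Iᵒᵖ).map (subInc W), fun i => ⟨(hD i).1, (hD i).2.1, (hD i).2.2.1, ?_⟩, hDa, fun i => ?_⟩
  · show LocP _ (t.app i ≫ subInc W)
    exact locP_comp etST_lfp Y₀.property Y.property (hD i).2.2.2
      (lfp_of_etale Y.property (EtGlue.etaleMor_of_open (repWith_subInc hW)))
  · show π.app i ≫ t.app i ≫ subInc W = f.hom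
    rw [← Category.assoc, hπ i]
    exact hf₀

theorem isFinitePresentationMor_stage [QuasiSeparatedSpace ↥S] {D Y : Sp S} (hD : IsAlgSpace D) (hY : IsAlgSpace Y)
    (hq : IsQuasiCompactSp D) (hs : IsQuasiSeparatedSp D) (hYs : IsQuasiSeparatedSp Y) {t : D ⟶ Y}
    (h : LocP @LocallyOfFinitePresentation t) : IsFinitePresentationMor t :=
  ⟨h, SpQS.isQuasiCompactMor_of_qc_qs hD hY t hq hYs, SpQS.isQuasiSeparatedMor_of_sp t hs⟩

end Groth.Agent.SpApprox

end
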