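import Groth.Agent.SpApprox.ChowProjective
import Groth.Agent.QA.Embed
import Groth.Agent.AlgSpLib.Criteria

/-!
An affine scheme of finite type over a qs locally separated space is immersed in affine space over it.
-/

set_option autoImplicit false
set_option linter.style.haveILetI false
set_option backward.isDefEq.respectTransparency false

universe u

noncomputable section

open CategoryTheory CategoryTheory.Limits AlgebraicGeometry Opposite AlgSp

namespace Groth.Agent.SpApprox

open Groth.Agent.AlgSpLib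

variable {S : Scheme.{u}}

theorem isLocallySeparatedSp_iff_mor {F : Sp S} (f : F ⟶ (yon S).obj (Over.mk (𝟙 S))) :
    IsLocallySeparatedSp F ↔ IsLocallySeparatedMor f := by
  let e : pullback f f ≅ F ⨯ F :=
    { hom := prod.lift (pullback.fst f f) (pullback.snd f f)
      inv := pullback.lift prod.fst prod.snd (SpQS.isTerminalBase.hom_ext _ _)
      hom_inv_id := pullback.hom_ext (by simp) (by simp)
      inv_hom_id := prod.hom_ext (by simp) (by simp) }
  have he : pullback.diagonal f ≫ e.hom = Limits.diag F := prod.hom_ext (by simp [e]) (by simp [e])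
  show RepWith @IsImmersion (Limits.diag F) ↔ RepWith @IsImmersion (pullback.diagonal f)
  have : IsIso e.hom := e.isIso_hom
  rw [← he]
  exact repWith_comp_iso_iff _ e.hom

theorem exists_immersion_affineSpace [QuasiSeparatedSpace ↥S] {Y : Sp S} (hY : IsAlgSpace Y)
    (hqs : IsQuasiSeparatedSp Y) (hls : IsLocallySeparatedSp Y) {U : Over S} [IsAffine U.left]
    (y : (yon S).obj U ⟶ Y) (hy : LocP @LocallyOfFiniteType y) :
    ∃ (n : ℕ) (i : (yon S).obj U ⟶ Y ⨯ (yon S).obj (Over.mk (𝔸(ULift.{u} (Fin n); S) ↘ S))),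
      i ≫ Limits.prod.fst = y ∧ RepWith @IsImmersion i := by
  obtain ⟨I, _, hdir, hne, D, π, hl, hDa, hD, -⟩ := AbsApprox.hasApprox U.left
  haveI := hdir
  haveI := hne
  haveI : IsCofiltered Iᵒᵖ := inferInstance
  haveI : ∀ i, CompactSpace (D.obj i) := fun i => (hD i).1
  haveI : ∀ i, QuasiSeparatedSpace (D.obj i) := fun i => AbsApprox.quasiSeparatedSpace_of_lft (hD i).2
  haveI : ∀ {i j} (f : i ⟶ j), IsAffineHom (D.map f) := fun {i j} f => hDa i j f
  haveI : IsAffine (Cone.mk U.left π).pt := ‹IsAffine U.left›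
  obtain ⟨i₁, hi₁⟩ := Scheme.exists_isAffine_of_isLimit D _ hl
  haveI : CategoryTheory.IsConnected Iᵒᵖ := IsCofiltered.isConnected _
  obtain ⟨hlS⟩ := isLimit_bcTower (S := S) D _ hl
  obtain ⟨hlP⟩ := isLimit_prod_mapCone Y _ (isLimitOfPreserves (yon S) hlS)
  let E := bcTower (S := S) D ⋙ yon S ⋙ Limits.prod.functor.obj Y
  have hE : ∀ i, IsAlgSpace (E.obj i) := fun i => GeomPi0.isAlgSpace_prod hY _
  have hEa : ∀ (i j : Iᵒᵖ) (φ : i ⟶ j), IsAffineMor (E.map φ) := fun i j φ => (isAffineMor_iff_repWith _).2 (by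
    refine repWith_baseChange (GeomPi0.isPullback_prod_map Y ((bcTower (S := S) D).map φ)).flip ?_
    refine (repWith_yon_iff _).2 ?_
    exact MorphismProperty.of_isPullback (P := @IsAffineHom) (isPullback_bcMap (D.map φ)) (hDa i j φ))
  let δ : U ⟶ bcZ S U.left := bcLift (𝟙 _)
  have hδ : RepWith @IsImmersion ((yon S).map δ) := (repWith_yon_iff δ).2 (by
    haveI : IsImmersion (δ.left ≫ pullback.fst (toZ U.left) (toZ S)) := by rw [bcLift_fst]; infer_instance
    exact IsImmersion.of_comp δ.left (pullback.fst (toZ U.left) (toZ S)))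
  have hsY : RepWith @IsImmersion
      (pullback.diagonal (Limits.prod.snd : Y ⨯ (yon S).obj (bcZ S U.left) ⟶ _)) := by
    obtain ⟨b, hb⟩ := exists_isPullback_diagonal (GeomPi0.isPullback_prod Y (bcZ S U.left))
    exact repWith_baseChange hb ((isLocallySeparatedSp_iff_mor _).1 hls)
  have hy0 : RepWith @IsImmersion (Limits.prod.lift y ((yon S).map δ)) :=
    Groth.Agent.AlgSpLib.repWith_of_comp _ _ Limits.prod.snd (Limits.prod.lift_snd _ _) hδ hsY
  have hqsE : IsQuasiSeparatedSp (E.obj i₁) := by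
    haveI := hi₁
    haveI : QuasiSeparated (bcZ S (D.obj i₁)).hom :=
      inferInstanceAs (QuasiSeparated (pullback.snd (toZ (D.obj i₁)) (toZ S)))
    refine isQuasiSeparatedSp_of_mor (f := (Limits.prod.snd : E.obj i₁ ⟶ (yon S).obj (bcZ S (D.obj i₁)))) ?_ ?_
    · exact isQuasiSeparatedMor_baseChange (GeomPi0.isPullback_prod Y _)
        ((SpQS.isQuasiSeparatedSp_iff_mor _).1 hqs)
    · exact (repWith_diag_yon_iff @QuasiCompact _).2
        (inferInstanceAs (QuasiCompact (pullback.diagonal (bcZ S (D.obj i₁)).hom)))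
  have hfac : ∀ i, Limits.prod.lift y ((yon S).map δ) ≫ Limits.prod.map (𝟙 Y) ((yon S).map (bcMap (π.app i))) =
      Limits.prod.lift y ((yon S).map (bcLift (π.app i))) := fun i => by
    rw [Limits.prod.lift_map, Category.comp_id, ← Functor.map_comp]
    congr 2
    refine bc_ext ?_
    rw [Over.comp_left, Category.assoc, ← (isPullback_bcMap (π.app i)).w, ← Category.assoc, bcLift_fst, bcLift_fst,
      Category.id_comp]
  have hlft : LocP @LocallyOfFiniteType (Limits.prod.lift y ((yon S).map δ) ≫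
      Limits.prod.map (𝟙 Y) ((yon S).map (bcMap (π.app i₁)))) := by
    rw [hfac]
    refine SpDesc.lft_cancel (hE i₁) (IsAlgSpace.yon_obj U) hY
      (g := (Limits.prod.fst : Y ⨯ (yon S).obj (bcZ S (D.obj i₁)) ⟶ Y)) ?_
    show LocP _ (Limits.prod.lift y ((yon S).map (bcLift (π.app i₁))) ≫
      (Limits.prod.fst : Y ⨯ (yon S).obj (bcZ S (D.obj i₁)) ⟶ Y))
    rw [Limits.prod.lift_fst]
    exact hy
  obtain ⟨i₂, h₂⟩ := SpDesc.exists_eventually_immersion E hE hEa _ hlP (IsAlgSpace.yon_obj U)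
    (isQuasiCompactSp_yon U) (Limits.prod.lift y ((yon S).map δ)) hy0 i₁ hqsE hlft
  obtain ⟨i, a₁, a₂, -⟩ := IsCofilteredOrEmpty.cone_objs i₁ i₂
  haveI := hi₁
  haveI : IsAffine (D.obj i) := isAffine_of_isAffineHom (D.map a₁)
  haveI : LocallyOfFiniteType (toZ (D.obj i)) := (hD i).2
  obtain ⟨n, j, hj, hjt⟩ := QA.exists_immersion_affineSpace (toZ (D.obj i))
  haveI := hj
  have sqA := AffineSpace.isPullback_map (n := ULift.{u} (Fin n)) (toZ S)
  let η : bcZ S (D.obj i) ⟶ Over.mk (𝔸(ULift.{u} (Fin n); S) ↘ S) := Over.homMk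
    (sqA.lift (pullback.fst _ _ ≫ j) (pullback.snd _ _) (by rw [Category.assoc, hjt]; exact pullback.condition))
    (sqA.lift_snd _ _ _)
  have hηi : IsImmersion η.left := by
    have hsq : IsPullback (pullback.fst (toZ (D.obj i)) (toZ S)) η.left j
        (AffineSpace.map (ULift.{u} (Fin n)) (toZ S)) := by
      refine IsPullback.of_bot ?_ (sqA.lift_fst _ _ _).symm sqA
      rw [show η.left ≫ 𝔸(ULift.{u} (Fin n); S) ↘ S = pullback.snd _ _ from sqA.lift_snd _ _ _, hjt]
      exact IsPullback.of_hasPullback _ _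
    exact MorphismProperty.of_isPullback (P := @IsImmersion) hsq hj
  refine ⟨n, Limits.prod.lift y ((yon S).map (bcLift (π.app i))) ≫ Limits.prod.map (𝟙 Y) ((yon S).map η), ?_, ?_⟩
  · simp
  · refine repWith_comp ?_ (repWith_baseChange (GeomPi0.isPullback_prod_map Y η).flip ((repWith_yon_iff η).2 hηi))
    rw [← hfac i]
    exact h₂ i a₂

end Groth.Agent.SpApprox

end
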