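import Groth.Agent.SpApprox.AbsRel
import Groth.Agent.SpDesc.EventClosed

/-!
Good diagrams for spaces of finite type over a limit of noetherian spaces.
-/

set_option autoImplicit false
set_option linter.style.haveILetI false
set_option backward.isDefEq.respectTransparency false

universe u

noncomputable section

open CategoryTheory CategoryTheory.Limits AlgebraicGeometry Opposite AlgSp

namespace Groth.Agent.SpApprox

open Groth.Agent.AlgSpLib

variable {S : Scheme.{u}}

set_option maxHeartbeats 1000000 in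
/-- For `X` locally of finite type over `B` and `B → B₀` affine, `X ↪ B ×_{B₀} W` with `W → B₀` of finite presentation. -/
theorem exists_good_diagram [QuasiSeparatedSpace ↥S] {B : Sp S} (hB : IsAlgSpace B) (B₀ : Space S)
    (hB₀c : IsQuasiCompactSp B₀.obj) (hB₀s : IsQuasiSeparatedSp B₀.obj) {π₀ : B ⟶ B₀.obj} (hπ : RepWith @IsAffineHom π₀)
    (X : Space S) (a : X.obj ⟶ B) (hqc : IsQuasiCompactMor a) (haqs : IsQuasiSeparatedMor a)
    (hlft : LocP @LocallyOfFiniteType a) :
    ∃ (W : Space S) (w : W.obj ⟶ B₀.obj) (b : X.obj ⟶ W.obj), IsFinitePresentationMor w ∧ b ≫ w = a ≫ π₀ ∧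
      ∀ (P : Sp S) (fst : P ⟶ B) (snd : P ⟶ W.obj), IsPullback fst snd π₀ w →
        ∀ k : X.obj ⟶ P, k ≫ fst = a → k ≫ snd = b → RepWith @IsClosedImmersion k := by
  classical
  obtain ⟨hBc, hBs⟩ := SpDesc.qcqs_of_affine hB B₀.property hπ hB₀c hB₀s
  have hXc : IsQuasiCompactSp X.obj := hqc hB hBc (𝟙 B) (𝟙 X.obj) a (IsPullback.id_horiz a)
  have hXs : IsQuasiSeparatedSp X.obj := isQuasiSeparatedSp_of_mor haqs hBs
  let f : X ⟶ B₀ := ObjectProperty.homMk (a ≫ π₀)
  obtain ⟨I, _, _, _, D, π, hl, t, hD, hDa, hπt⟩ := hasApproxRel f hXc hXs hB₀s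
  haveI : IsCofiltered Iᵒᵖ := isCofiltered_op_of_isFiltered _
  let E : Iᵒᵖ ⥤ Sp S :=
    { obj := fun i => pullback π₀ (t.app i)
      map := fun {i j} m => pullback.map _ _ _ _ (𝟙 _) (D.map m) (𝟙 _)
        ((Category.comp_id _).trans (Category.id_comp _).symm) (t.naturality m).symm
      map_id := fun i => by apply pullback.hom_ext <;> simp
      map_comp := fun p q => by apply pullback.hom_ext <;> simp }
  have hEf : ∀ {i j : Iᵒᵖ} (m : i ⟶ j), E.map m ≫ pullback.fst π₀ (t.app j) = pullback.fst π₀ (t.app i) :=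
    fun m => (pullback.lift_fst _ _ _).trans (Category.comp_id _)
  have hEs : ∀ {i j : Iᵒᵖ} (m : i ⟶ j), E.map m ≫ pullback.snd π₀ (t.app j) = pullback.snd π₀ (t.app i) ≫ D.map m :=
    fun m => pullback.lift_snd _ _ _
  have hE : ∀ i, IsAlgSpace (E.obj i) := fun i =>
    isAlgSpace_of_isPullback_space B₀.property hB (hD i).1 (IsPullback.of_hasPullback _ _)
  have hEa : ∀ i, RepWith @IsAffineHom (pullback.snd π₀ (t.app i)) := fun i =>
    repWith_baseChange (IsPullback.of_hasPullback π₀ (t.app i)) hπ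
  have hEtr : ∀ (i j : Iᵒᵖ) (m : i ⟶ j), IsAffineMor (E.map m) := fun i j m =>
    (isAffineMor_iff_repWith _).2 (Groth.Agent.AlgSpLib.repWith_of_comp (P := @IsAffineHom) (E.map m)
      (pullback.snd _ _ ≫ D.map m) (pullback.snd _ _) (hEs m)
      (repWith_comp (hEa i) ((isAffineMor_iff_repWith _).1 (hDa i j m)))
      (repWith_mono (fun _ _ r hr => by
        have : IsClosedImmersion r := hr
        exact (inferInstance : IsAffineHom r)) (isSeparatedMor_of_affine (hE j) (hD j).1 (hEa j))))
  have hw : ∀ i, π.app i ≫ t.app i = a ≫ π₀ := hπt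
  let Z := pullback π₀ (a ≫ π₀)
  let ρ : ∀ i, Z ⟶ E.obj i := fun i => pullback.lift (pullback.fst _ _) (pullback.snd _ _ ≫ π.app i)
    (by rw [Category.assoc, hw]; exact pullback.condition)
  have hρf : ∀ i, ρ i ≫ pullback.fst π₀ (t.app i) = pullback.fst _ _ := fun i => pullback.lift_fst _ _ _
  have hρs : ∀ i, ρ i ≫ pullback.snd π₀ (t.app i) = pullback.snd _ _ ≫ π.app i := fun i => pullback.lift_snd _ _ _
  let c : Cone E :=
    { pt := Z
      π :=
        { app := ρ
          naturality := fun i j m => by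
            show 𝟙 _ ≫ ρ j = ρ i ≫ E.map m
            rw [Category.id_comp]
            apply pullback.hom_ext
            · rw [Category.assoc, hEf, hρf, hρf]
            · rw [Category.assoc, hEs, ← Category.assoc, hρs, hρs, Category.assoc]
              exact congrArg (pullback.snd _ _ ≫ ·) ((Cone.mk _ π).w m).symm } }
  obtain ⟨i₁⟩ := IsCofiltered.nonempty (C := Iᵒᵖ)
  let sD : Cone E → Cone D := fun s =>
    { pt := s.pt
      π :=
        { app := fun i => s.π.app i ≫ pullback.snd _ _
          naturality := fun i j m => by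
            show 𝟙 _ ≫ _ = _
            rw [Category.id_comp, Category.assoc, ← hEs m, ← Category.assoc, s.w] } }
  have hfs : ∀ (s : Cone E) i, s.π.app i ≫ pullback.fst π₀ (t.app i) = s.π.app i₁ ≫ pullback.fst π₀ (t.app i₁) := by
    intro s i
    obtain ⟨k, p, q, -⟩ := IsCofilteredOrEmpty.cone_objs i i₁
    rw [← s.w p, ← s.w q, Category.assoc, Category.assoc, hEf, hEf]
  have hls : ∀ (s : Cone E) i, hl.lift (sD s) ≫ π.app i = s.π.app i ≫ pullback.snd _ _ := fun s i => hl.fac (sD s) i
  let hc : IsLimit c :=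
    { lift := fun s => pullback.lift (s.π.app i₁ ≫ pullback.fst _ _) (hl.lift (sD s)) (by
        rw [← hw i₁, ← Category.assoc (hl.lift _), hls, Category.assoc, Category.assoc, pullback.condition])
      fac := fun s i => by
        show _ ≫ ρ i = _
        apply pullback.hom_ext
        · rw [Category.assoc, hρf, pullback.lift_fst]
          exact (hfs s i).symm
        · rw [Category.assoc, hρs, pullback.lift_snd_assoc, hls]
      uniq := fun s m hm => by
        apply pullback.hom_ext
        · rw [pullback.lift_fst, ← hm i₁]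
          show m ≫ _ = (m ≫ ρ i₁) ≫ _
          rw [Category.assoc, hρf]
        · rw [pullback.lift_snd]
          refine hl.hom_ext fun i => ?_
          rw [hl.fac]
          show (m ≫ _) ≫ π.app i = s.π.app i ≫ _
          rw [← hm i]
          show (m ≫ _) ≫ π.app i = (m ≫ ρ i) ≫ _
          rw [Category.assoc, Category.assoc, hρs] }
  have sqZ := IsPullback.of_hasPullback π₀ (a ≫ π₀)
  have hZ : IsAlgSpace Z := isAlgSpace_of_isPullback_space B₀.property hB X.property sqZ
  let y : X.obj ⟶ Z := pullback.lift a (𝟙 _) (Category.id_comp _).symm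
  have hy : RepWith @IsClosedImmersion y :=
    Groth.Agent.AlgSpLib.repWith_of_comp (P := @IsClosedImmersion) y (𝟙 _) (pullback.snd _ _) (pullback.lift_snd _ _ _)
      (repWith_of_isIso _) (isSeparatedMor_of_affine hZ X.property (repWith_baseChange sqZ hπ))
  have hyf : ∀ i, (y ≫ ρ i) ≫ pullback.fst π₀ (t.app i) = a := fun i => by
    rw [Category.assoc, hρf]; exact pullback.lift_fst _ _ _
  obtain ⟨i₀, h₀⟩ := SpDesc.exists_eventually_closed E hE hEtr c hc X.property y hy i₁
    (SpDesc.qcqs_of_affine (hE i₁) (hD i₁).1 (hEa i₁) (hD i₁).2.1 (hD i₁).2.2.1).1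
    (SpDesc.lft_cancel (g := pullback.fst π₀ (t.app i₁)) (hE i₁) X.property hB (by
      show LocP _ ((y ≫ ρ i₁) ≫ _)
      rw [hyf]; exact hlft))
  refine ⟨⟨D.obj i₀, (hD i₀).1⟩, t.app i₀, π.app i₀,
    isFinitePresentationMor_stage (hD i₀).1 B₀.property (hD i₀).2.1 (hD i₀).2.2.1 hB₀s (hD i₀).2.2.2, hw i₀,
    fun P p₁ p₂ sq k hk₁ hk₂ => ?_⟩
  have e : k = (y ≫ ρ i₀) ≫ ((IsPullback.of_hasPullback π₀ (t.app i₀)).isoIsPullback _ _ sq).hom := sq.hom_ext
    (by rw [hk₁, Category.assoc, IsPullback.isoIsPullback_hom_fst, hyf])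
    (by rw [hk₂, Category.assoc, IsPullback.isoIsPullback_hom_snd, Category.assoc, hρs, ← Category.assoc,
      pullback.lift_snd, Category.id_comp])
  rw [e]
  exact (repWith_comp_iso_iff _ _).2 (h₀ i₀ (𝟙 _))

end Groth.Agent.SpApprox

end
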