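import Groth.Agent.SpApprox.LimMain

/-!
The limit theorem, keeping track of the relations imposed on the stages.
-/

set_option autoImplicit false
set_option linter.style.haveILetI false
set_option backward.isDefEq.respectTransparency false

universe u

noncomputable section

open CategoryTheory CategoryTheory.Limits AlgebraicGeometry Opposite AlgSp

namespace Groth.Agent.SpApprox

open Groth.Agent.AlgSpLib Groth.Agent.SchImg

variable {S : Scheme.{u}} {X Y : Space S} {f : X ⟶ Y} {E₀ : EtOver Y.obj} {A : Type u} [Preorder A]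

/-- the limit theorem -/
theorem exists_limit_of_sys_rel [QuasiSeparatedSpace ↥S] [IsAffine E₀.obj.left.left] [IsDirected A (· ≤ ·)] [Nonempty A]
    (hqc : IsQuasiCompactSp Y.obj) (hqs : IsQuasiSeparatedSp Y.obj) (hs : RepWith @Surjective E₀.obj.hom)
    (hf : IsAffineMor f.hom) (σ : Sys f E₀ A) (S₀ : ∀ a, Finset Γ((σ.V₀ a).left, ⊤))
    (hS₀ : ∀ a, ∀ x ∈ S₀ a, (σ.τ₀ a).left.appTop.hom x = 0) :
    ∃ (I : Type u) (_ : Preorder I) (_ : IsDirected I (fun a b => a ≤ b)) (_ : Nonempty I) (D : Iᵒᵖ ⥤ Sp S)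
      (t : D ⟶ (Functor.const Iᵒᵖ).obj Y.obj) (c : Cone D) (_ : IsLimit c) (e : c.pt ≅ X.obj),
      (∀ i, IsAlgSpace (D.obj i)) ∧ (∀ (i j : Iᵒᵖ) (φ : i ⟶ j), IsAffineMor (D.map φ)) ∧
      (∀ i, IsAffineMor (t.app i) ∧ IsFinitePresentationMor (t.app i)) ∧
      (∀ i, ∃ (a : A) (W : Over S) (w : (yon S).obj W ⟶ D.obj i) (v : W ⟶ σ.V₀ a) (l : σ.X₀ ⟶ W),
        IsPullback w ((yon S).map (v ≫ σ.v₀ a)) (t.app i) E₀.obj.hom ∧ IsClosedImmersion v.left ∧
        (∀ x ∈ S₀ a, v.left.appTop.hom x = 0) ∧ l ≫ v = σ.τ₀ a ∧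
        (yon S).map l ≫ w = σ.xz ≫ e.inv ≫ c.π.app i) ∧
      (∀ i, e.inv ≫ c.π.app i ≫ t.app i = f.hom) := by
  classical
  haveI := σ.hX₀
  let OK : ∀ a : A, Ideal Γ((σ.V₀ a).left, ⊤) → Prop := fun a N => (∀ x ∈ S₀ a, x ∈ N) ∧
    ∃ (Z : Sp S) (z : Z ⟶ σ.V a) (K : (σ.V₀ a).left.IdealSheafData), IsAlgSpace Z ∧
      RepWith @IsClosedImmersion z ∧ IsPullIdeal z (σ.z₀ a) K ∧
      K.ideal ⟨⊤, @isAffineOpen_top _ (σ.hV₀ a)⟩ = N ∧ N.FG ∧ (∀ x ∈ N, (σ.τ₀ a).left.appTop.hom x = 0) ∧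
      ∃ px : X.obj ⟶ Z, px ≫ z = σ.τ a
  let ι := StageIdx OK
  choose Z z K hZ hz hK hKN hfg hker px hpx using fun n : ι => n.ok.2
  haveI hmono : ∀ n, Mono (z n) := fun n => mono_of_closed (hz n)
  have hex : ∀ (a : A) (s : Finset Γ((σ.V₀ a).left, ⊤)), (∀ x ∈ s, (σ.τ₀ a).left.appTop.hom x = 0) →
      ∃ n : ι, ∃ h : a ≤ n.a, ∀ x ∈ s, (σ.wt h).left.appTop.hom x ∈ n.N := fun a s hs' => by
    have hw : ∀ (h : a ≤ a) (x : Γ((σ.V₀ a).left, ⊤)),
        (σ.τ₀ a).left.appTop.hom ((σ.wt h).left.appTop.hom x) = (σ.τ₀ a).left.appTop.hom x := fun h x => by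
      conv_rhs => rw [← σ.τ₀_w h, Over.comp_left, Scheme.Hom.comp_appTop]
      rfl
    obtain ⟨N, hN, hN'⟩ := exists_stage hqc hqs σ hf a (s.image (σ.wt (le_refl a)).left.appTop.hom ∪ S₀ a) fun x hx => by
      rcases Finset.mem_union.1 hx with hx | hx
      · obtain ⟨y, hy, rfl⟩ := Finset.mem_image.1 hx
        rw [hw]
        exact hs' y hy
      · exact hS₀ a x hx
    exact ⟨⟨a, N, fun x hx => hN x (Finset.mem_union_right _ hx), hN'⟩, le_rfl,
      fun x hx => hN _ (Finset.mem_union_left _ (Finset.mem_image_of_mem _ hx))⟩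
  letI : Preorder ι :=
    { le := fun n m => ∃ h : n.a ≤ m.a, ∃ k : Z m ⟶ Z n, k ≫ z n = z m ≫ σ.mp h
      le_refl := fun n => ⟨le_rfl, 𝟙 _, by rw [σ.mp_id, Category.id_comp, Category.comp_id]⟩
      le_trans := fun a b c ⟨h, k, hk⟩ ⟨h', k', hk'⟩ => ⟨h.trans h', k' ≫ k, by
        rw [Category.assoc, hk, ← Category.assoc, hk', Category.assoc, σ.mp_comp]⟩ }
  have hfac : ∀ {n m : ι} (h : n.a ≤ m.a),
      (∀ x ∈ n.N, (σ.wt h).left.appTop.hom x ∈ m.N) → n ≤ m := fun {n m} h hx => by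
    haveI := σ.hV₀ n.a
    haveI := σ.hV₀ m.a
    refine ⟨h, exists_factor_chart (σ.hV n.a) (hZ m) (hz n) (σ.mp h)
      (repWith_baseChange (σ.sqV n.a).flip E₀.property) (repWith_baseChange (σ.sqV n.a).flip hs) (σ.sqW h)
      (hK n) (hK m) ?_⟩
    rw [hKN n, hKN m]
    exact hx
  have hkill : ∀ {a c : A} (h : a ≤ c) (x : Γ((σ.V₀ a).left, ⊤)),
      (σ.τ₀ c).left.appTop.hom ((σ.wt h).left.appTop.hom x) = (σ.τ₀ a).left.appTop.hom x := fun {a c} h x => by
    rw [← σ.τ₀_w h, Over.comp_left, Scheme.Hom.comp_appTop]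
    rfl
  have hcomp : ∀ {a b c : A} (h : a ≤ b) (h' : b ≤ c) (x : Γ((σ.V₀ a).left, ⊤)),
      (σ.wt h').left.appTop.hom ((σ.wt h).left.appTop.hom x) = (σ.wt (h.trans h')).left.appTop.hom x :=
    fun {a b c} h h' x => by
    have e : σ.wt h' ≫ σ.wt h = σ.wt (h.trans h') := (yon S).map_injective (by
      refine (σ.sqV a).hom_ext ?_ ?_
      · rw [Functor.map_comp, Category.assoc, ← (σ.sqW h).w, ← Category.assoc, ← (σ.sqW h').w, Category.assoc,
          σ.mp_comp, ← (σ.sqW (h.trans h')).w]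
      · rw [← Functor.map_comp, ← Functor.map_comp, Category.assoc, σ.wt_v, σ.wt_v, σ.wt_v])
    rw [← e, Over.comp_left, Scheme.Hom.comp_appTop]
    rfl
  have hdir' : ∀ n m : ι, ∃ r, n ≤ r ∧ m ≤ r := fun n m => by
    obtain ⟨c, hc₁, hc₂⟩ := exists_ge_ge n.a m.a
    obtain ⟨sn, hsn⟩ := hfg n
    obtain ⟨sm, hsm⟩ := hfg m
    obtain ⟨r, hr, hrs⟩ := hex c (sn.image (σ.wt hc₁).left.appTop.hom ∪ sm.image (σ.wt hc₂).left.appTop.hom)
      fun x hx => by
      rcases Finset.mem_union.1 hx with hx | hx <;> obtain ⟨y, hy, rfl⟩ := Finset.mem_image.1 hx <;> rw [hkill]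
      · exact hker n y (hsn ▸ Submodule.subset_span hy)
      · exact hker m y (hsm ▸ Submodule.subset_span hy)
    refine ⟨r, hfac (hc₁.trans hr) fun x hx => ?_, hfac (hc₂.trans hr) fun x hx => ?_⟩
    · rw [← hsn] at hx
      refine (Submodule.span_le.2 (fun y hy => ?_) hx : x ∈ r.N.comap (σ.wt (hc₁.trans hr)).left.appTop.hom)
      show (σ.wt (hc₁.trans hr)).left.appTop.hom y ∈ r.N
      rw [← hcomp hc₁ hr]
      exact hrs _ (Finset.mem_union_left _ (Finset.mem_image_of_mem _ hy))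
    · rw [← hsm] at hx
      refine (Submodule.span_le.2 (fun y hy => ?_) hx : x ∈ r.N.comap (σ.wt (hc₂.trans hr)).left.appTop.hom)
      show (σ.wt (hc₂.trans hr)).left.appTop.hom y ∈ r.N
      rw [← hcomp hc₂ hr]
      exact hrs _ (Finset.mem_union_right _ (Finset.mem_image_of_mem _ hy))
  haveI hdir : IsDirected ι (fun a b => a ≤ b) := ⟨hdir'⟩
  haveI hne : Nonempty ι := by
    obtain ⟨a⟩ := (inferInstance : Nonempty A)
    obtain ⟨n, -⟩ := hex a ∅ fun x hx => absurd hx (Finset.notMem_empty x)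
    exact ⟨n⟩
  choose k hk using fun {n m : ι} (h : n ≤ m) => h.2
  let st : σ.Stages ι :=
    { idx := fun n => n.a
      idx_mono := fun h => h.1
      Z := Z
      hZ := hZ
      z := z
      hz := hz
      K := K
      hK := hK
      hfg := fun n => by rw [hKN n]; exact hfg n
      px := px
      hpx := hpx
      k := fun {n m} h => k h
      hk := fun {n m} h => hk h
      cofinal := fun a x hx => by
        obtain ⟨n, h, hn⟩ := hex a {x} fun y hy => by rw [Finset.mem_singleton.1 hy, hx]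
        exact ⟨n, h, by rw [hKN n]; exact hn x (Finset.mem_singleton_self x)⟩ }
  obtain ⟨hc⟩ := st.nonempty_isLimit hs
  have hzA : ∀ n : ι, RepWith @IsAffineHom (z n ≫ σ.p n.a) := fun n => repWith_comp
    (repWith_mono (P := @IsClosedImmersion) (fun _ _ g hg => by
      have : IsClosedImmersion g := hg
      exact (inferInstance : IsAffineHom g)) (hz n)) (σ.hpA n.a)
  have hchart : ∀ n : ι, ∃ (W : Over S) (w : (yon S).obj W ⟶ Z n) (v : W ⟶ σ.V₀ n.a),
      IsPullback w ((yon S).map (v ≫ σ.v₀ n.a)) (z n ≫ σ.p n.a) E₀.obj.hom ∧ IsClosedImmersion v.left ∧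
      (∀ x ∈ S₀ n.a, v.left.appTop.hom x = 0) ∧ IsPullback w ((yon S).map v) (z n) (σ.z₀ n.a) ∧
      LocallyOfFinitePresentation (v ≫ σ.v₀ n.a).left := fun n => by
    haveI := σ.hV₀ n.a
    obtain ⟨W, w, v, sqZ, hvc, hvf, hvK⟩ := exists_chart_closed (hz n) (hK n) (by rw [hKN n]; exact hfg n)
    refine ⟨W, w, v, ?_, hvc, fun x hx => ?_, sqZ, ?_⟩
    · rw [Functor.map_comp]
      exact sqZ.paste_vert (σ.sqV n.a)
    · have : x ∈ v.left.ker.ideal ⟨⊤, isAffineOpen_top _⟩ := by rw [hvK, hKN]; exact n.ok.1 x hx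
      rw [Scheme.Hom.ker_apply] at this
      exact this
    · haveI := hvf
      haveI := σ.hv₀F n.a
      rw [Over.comp_left]
      infer_instance
  refine ⟨ι, inferInstance, hdir, hne, st.diag, st.toBase, st.cone, hc, Iso.refl _, fun n => hZ n.unop,
    fun a b g => ?_, fun n => ?_, fun n => ?_, fun n => ?_⟩
  · refine (isAffineMor_iff_repWith _).2
      (Groth.Agent.SpDesc.repWith_affine_cancel (hZ b.unop) Y.property ?_ (hzA b.unop))
    show RepWith _ (k g.unop.le ≫ z b.unop ≫ σ.p b.unop.a)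
    rw [← Category.assoc, hk, Category.assoc, σ.mp_p]
    exact hzA a.unop
  · have hA := hzA n.unop
    obtain ⟨W, w, v, sqZ, -, -, -, hvf⟩ := hchart n.unop
    exact ⟨(isAffineMor_iff_repWith _).2 hA,
      locP_of_chart etST_lfp (hZ n.unop) Y.property (repWith_baseChange sqZ.flip E₀.property)
        (repWith_baseChange sqZ.flip hs) E₀.property sqZ.w hvf,
      (isQuasiCompactMor_iff_repWith (hZ n.unop) Y.property hA.1).2 (repWith_mono (P := @IsAffineHom)
        (Q := @QuasiCompact) (fun _ _ g hg => have : IsAffineHom g := hg; inferInstance) hA),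
      (isQuasiSeparatedMor_iff_repWith (hZ n.unop) Y.property hA.1).2 (repWith_mono (P := @IsAffineHom)
        (Q := @QuasiSeparated) (fun _ _ g hg => have : IsAffineHom g := hg; inferInstance) hA)⟩
  · obtain ⟨W, w, v, sqW, hvc, hS, sqZ, -⟩ := hchart n.unop
    obtain ⟨l, hl⟩ := exists_map_eq (sqZ.lift (σ.xz ≫ px n.unop) ((yon S).map (σ.τ₀ n.unop.a))
      (by rw [Category.assoc, hpx, σ.τ₀_z]))
    refine ⟨n.unop.a, W, w, v, l, sqW, hvc, hS, (yon S).map_injective ?_, ?_⟩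
    · rw [Functor.map_comp, hl, sqZ.lift_snd]
    · rw [hl, sqZ.lift_fst]
      show _ = σ.xz ≫ 𝟙 _ ≫ px n.unop
      rw [Category.id_comp]
  · show 𝟙 _ ≫ px n.unop ≫ z n.unop ≫ σ.p n.unop.a = f.hom
    rw [Category.id_comp, ← Category.assoc, hpx, σ.τ_p]

end Groth.Agent.SpApprox

end
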