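import Groth.Agent.SpApprox.OpenRel
import Groth.Agent.SpApprox.LimRel
import Groth.Agent.SpApprox.LimInt
import Groth.Agent.ColimEtale.Core

/-!
Finite stages of an integral space agreeing with it over an open where it is finite and finitely presented.
-/

set_option autoImplicit false
set_option linter.style.haveILetI false
set_option backward.isDefEq.respectTransparency false

universe u

noncomputable section

open CategoryTheory CategoryTheory.Limits AlgebraicGeometry Opposite AlgSp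

namespace Groth.Agent.SpApprox

open Groth.Agent.AlgSpLib

variable {S : Scheme.{u}}

/-- a system restricted above an index -/
def Sys.restrict {X Y : Space S} {f : X ⟶ Y} {E₀ : EtOver Y.obj} {A : Type u} [Preorder A] [IsDirected A (· ≤ ·)]
    (σ : Sys f E₀ A) (a₀ : A) : Sys f E₀ {a : A // a₀ ≤ a} where
  V a := σ.V a
  hV a := σ.hV a
  p a := σ.p a
  hpA a := σ.hpA a
  hpF a := σ.hpF a
  mp h := σ.mp h
  mp_p h := σ.mp_p h
  mp_id a := σ.mp_id a
  mp_comp h h' := σ.mp_comp h h'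
  τ a := σ.τ a
  τ_p a := σ.τ_p a
  τ_mp h := σ.τ_mp h
  X₀ := σ.X₀
  hX₀ := σ.hX₀
  xz := σ.xz
  xv := σ.xv
  sqX := σ.sqX
  V₀ a := σ.V₀ a
  hV₀ a := σ.hV₀ a
  z₀ a := σ.z₀ a
  v₀ a := σ.v₀ a
  hv₀F a := σ.hv₀F a
  sqV a := σ.sqV a
  τ₀ a := σ.τ₀ a
  τ₀_z a := σ.τ₀_z a
  τ₀_v a := σ.τ₀_v a
  wt h := σ.wt h
  wt_v h := σ.wt_v h
  sqW h := σ.sqW h
  τ₀_w h := σ.τ₀_w h
  gen g := by
    obtain ⟨a, x, hx⟩ := σ.gen g
    obtain ⟨c, hc₁, hc₂⟩ := exists_ge_ge a₀ a
    refine ⟨⟨c, hc₁⟩, (σ.wt hc₂).left.appTop.hom x, ?_⟩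
    rw [← hx, ← σ.τ₀_w hc₂, Over.comp_left, Scheme.Hom.comp_appTop]
    rfl

theorem exists_idx_range {X Y : Space S} {f : X ⟶ Y} {E₀ : EtOver Y.obj} {A : Type u} [Preorder A] [Nonempty A]
    [IsDirected A (· ≤ ·)] (σ : Sys f E₀ A) (s : Finset Γ(σ.X₀.left, ⊤)) :
    ∃ a₀ : A, ∀ a, a₀ ≤ a → ∀ y ∈ s, y ∈ Set.range (σ.τ₀ a).left.appTop.hom := by
  classical
  induction s using Finset.induction_on with
  | empty => exact ⟨Classical.arbitrary A, fun a _ y hy => absurd hy (Finset.notMem_empty y)⟩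
  | insert y s _ ih =>
    obtain ⟨a, ha⟩ := ih
    obtain ⟨b, x, hx⟩ := σ.gen y
    obtain ⟨c, hc₁, hc₂⟩ := exists_ge_ge a b
    refine ⟨c, fun d hd z hz => ?_⟩
    rcases Finset.mem_insert.1 hz with rfl | hz
    · refine ⟨(σ.wt (hc₂.trans hd)).left.appTop.hom x, ?_⟩
      rw [← hx, ← σ.τ₀_w (hc₂.trans hd), Over.comp_left, Scheme.Hom.comp_appTop]
      rfl
    · exact ha d (hc₁.trans hd) z hz

/-- the restriction of a scheme over `U` to an open of `U`, over `S` -/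
def resι {U X₀ : Over S} (xv : X₀ ⟶ U) (D : U.left.Opens) :
    Over.mk ((xv.left ⁻¹ᵁ D).ι ≫ X₀.hom) ⟶ X₀ :=
  Over.homMk (xv.left ⁻¹ᵁ D).ι rfl

/-- the restricted structure map -/
def resMor {U X₀ : Over S} (xv : X₀ ⟶ U) (D : U.left.Opens) :
    Over.mk ((xv.left ⁻¹ᵁ D).ι ≫ X₀.hom) ⟶ Over.mk (D.ι ≫ U.hom) :=
  Over.homMk (xv.left ∣_ D) (by
    show (xv.left ∣_ D) ≫ D.ι ≫ U.hom = (xv.left ⁻¹ᵁ D).ι ≫ X₀.hom
    rw [morphismRestrict_ι_assoc, Over.w xv])

theorem isPullback_res {U X₀ : Over S} (xv : X₀ ⟶ U) (D : U.left.Opens) :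
    IsPullback ((yon S).map (resι xv D)) ((yon S).map (resMor xv D)) ((yon S).map xv)
      ((yon S).map (Over.homMk D.ι rfl : Over.mk (D.ι ≫ U.hom) ⟶ U)) :=
  isPullback_yon_iff.2 (isPullback_morphismRestrict xv.left D).flip

theorem qsMor_finite_cancel {P Q V : Sp S} (hP : IsAlgSpace P) (hQ : IsAlgSpace Q) (hV : IsAlgSpace V) {k : P ⟶ Q}
    {q : Q ⟶ V} {p : P ⟶ V} (e : k ≫ q = p) (hp : RepWith @IsFinite p) (hq : RepWith @IsFinite q) :
    RepWith @IsFinite k :=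
  Groth.Agent.AlgSpLib.repWith_of_comp k p q e hp (repWith_mono (P := @IsClosedImmersion) (Q := @IsFinite)
    (fun _ _ r hr => by
      have : IsClosedImmersion r := hr
      infer_instance)
    ((isSeparatedMor_iff_repWith hQ hV hq.1).2 (repWith_mono (fun _ _ r hr => by
      have : IsFinite r := hr
      infer_instance) hq)))

set_option maxHeartbeats 4000000 in
theorem exists_limit_finite_iso [QuasiSeparatedSpace ↥S] {X Y : Space S} (f : X ⟶ Y) (hf : IsIntegralMor f.hom)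
    (hqc : IsQuasiCompactSp Y.obj) (hqs : IsQuasiSeparatedSp Y.obj)
    {V PV : Sp S} (hV : IsAlgSpace V) {j : V ⟶ Y.obj} (hj : RepWith @IsOpenImmersion j) (hVqc : IsQuasiCompactSp V)
    {pv₁ : PV ⟶ X.obj} {pv₂ : PV ⟶ V} (hPV : IsPullback pv₁ pv₂ f.hom j) (hfin : IsFiniteMor pv₂)
    (hfp : LocP @LocallyOfFinitePresentation pv₂) :
    ∃ (I : Type u) (_ : Preorder I) (_ : IsDirected I (fun a b => a ≤ b)) (_ : Nonempty I) (D : Iᵒᵖ ⥤ Sp S)
      (t : D ⟶ (Functor.const Iᵒᵖ).obj Y.obj) (c : Cone D) (_ : IsLimit c) (e : c.pt ≅ X.obj),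
      (∀ i, IsAlgSpace (D.obj i)) ∧ (∀ (i j : Iᵒᵖ) (φ : i ⟶ j), IsAffineMor (D.map φ)) ∧
      (∀ i, IsFiniteMor (t.app i) ∧ IsFinitePresentationMor (t.app i)) ∧
      (∀ i, e.inv ≫ c.π.app i ≫ t.app i = f.hom) ∧
      (∀ (i : Iᵒᵖ) (Pi : Sp S) (q₁ : Pi ⟶ D.obj i) (q₂ : Pi ⟶ V), IsPullback q₁ q₂ (t.app i) j →
        ∀ k : PV ⟶ Pi, k ≫ q₁ = pv₁ ≫ e.inv ≫ c.π.app i → k ≫ q₂ = pv₂ → IsIso k) := by
  classical
  have hI := (isIntegralMor_iff_repWith _).1 hf
  have haff : IsAffineMor f.hom := (isAffineMor_iff_repWith _).2 (repWith_mono (P := @IsIntegralHom)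
    (Q := @IsAffineHom) (fun _ _ g hg => have : IsIntegralHom g := hg; inferInstance) hI)
  have hPVa : IsAlgSpace PV := isAlgSpace_of_isPullback_space Y.property X.property hV hPV
  obtain ⟨E₀, hE₀, hs, A, _, _, _, ⟨σ⟩⟩ := exists_vSys f haff hqc hqs
  haveI := hE₀
  haveI := σ.hX₀
  let U := E₀.obj.left
  haveI : Mono j := mono_of_repWith_immersion (repWith_mono (P := @IsOpenImmersion)
    (Q := @IsImmersion) (fun _ _ g hg => by
      have : IsOpenImmersion g := hg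
      infer_instance) hj)
  obtain ⟨OV, oV, o, sqO, ho⟩ := exists_repWith hj E₀.obj.hom
  haveI : IsOpenImmersion o.left := ho
  have hOV : CompactSpace ↥OV.left := Groth.Agent.SpDesc.compactSpace_of_sp (SpQS.qcqs_of_isPullback hV Y.property
    (IsAlgSpace.yon_obj U) sqO hVqc (isQuasiSeparatedSp_of_mor (ValLib.isQuasiSeparatedMor_of_separated j
      (UnivInjMor.isSeparatedMor_of_mono j)) hqs) hqs (isQuasiCompactSp_yon U) ((repWith_diag_yon_iff @QuasiCompact U).2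
      (inferInstanceAs (QuasiCompact (pullback.diagonal U.hom))))).1
  have hoV : RepWith @Etale oV := repWith_baseChange sqO.flip E₀.property
  have hoVs : RepWith @Surjective oV := repWith_baseChange sqO.flip hs
  have hb : ∀ x : OV.left, ∃ g : Γ(U.left, ⊤), U.left.basicOpen g ≤ o.left.opensRange ∧ o.left x ∈ U.left.basicOpen g :=
    fun x => (isAffineOpen_top U.left).exists_basicOpen_le (V := o.left.opensRange) ⟨o.left x, x, rfl⟩ trivial
  choose gx hgx hxg using hb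
  obtain ⟨T, hT⟩ := (isCompact_univ (X := OV.left)).elim_finite_subcover
    (fun x => o.left ⁻¹' (U.left.basicOpen (gx x) : Set U.left))
    (fun x => (U.left.basicOpen (gx x)).2.preimage o.left.continuous) (fun x _ => Set.mem_iUnion.2 ⟨x, hxg x⟩)
  let Dg : OV.left → Over S := fun x => Over.mk ((U.left.basicOpen (gx x)).ι ≫ U.hom)
  let ιg : ∀ x, Dg x ⟶ U := fun x => Over.homMk (U.left.basicOpen (gx x)).ι rfl
  let κ : ∀ x, Dg x ⟶ OV := fun x => Over.homMk (IsOpenImmersion.lift o.left (U.left.basicOpen (gx x)).ι (by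
      erw [Scheme.Opens.range_ι]
      exact hgx x)) (by
    show _ ≫ OV.hom = (U.left.basicOpen (gx x)).ι ≫ U.hom
    rw [← Over.w o, IsOpenImmersion.lift_fac_assoc])
  have hκ : ∀ x, κ x ≫ o = ιg x := fun x => Over.OverMorphism.ext (IsOpenImmersion.lift_fac _ _ _)
  have hκo : ∀ x, IsOpenImmersion (κ x).left := fun x => by
    haveI : IsOpenImmersion ((κ x).left ≫ o.left) := by
      rw [show (κ x).left ≫ o.left = (ιg x).left from IsOpenImmersion.lift_fac _ _ _]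
      exact inferInstanceAs (IsOpenImmersion (U.left.basicOpen (gx x)).ι)
    exact IsOpenImmersion.of_comp (κ x).left o.left
  let dV : ∀ x, (yon S).obj (Dg x) ⟶ V := fun x => (yon S).map (κ x) ≫ oV
  have hdV : ∀ x, dV x ≫ j = (yon S).map (ιg x) ≫ E₀.obj.hom := fun x => by
    show ((yon S).map (κ x) ≫ oV) ≫ j = _
    rw [Category.assoc, sqO.w, ← Functor.map_comp_assoc, hκ]
  have hpv₂ : RepWith @IsFinite pv₂ := (isFiniteMor_iff_repWith _).1 hfin
  have hres : ∀ x, LocallyOfFinitePresentation (σ.xv.left ∣_ U.left.basicOpen (gx x)) := fun x => by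
    have sq1 : IsPullback ((yon S).map (resι σ.xv (U.left.basicOpen (gx x))) ≫ σ.xz)
        ((yon S).map (resMor σ.xv (U.left.basicOpen (gx x)))) f.hom (dV x ≫ j) := by
      rw [hdV x]
      exact (isPullback_res σ.xv _).paste_horiz σ.sqX
    exact ((locP_iff_repWith etST_lfp hV hpv₂.1).1 hfp).2 (dV x) _ (resMor σ.xv (U.left.basicOpen (gx x)))
      (IsPullback.of_right (h₁₁ := hPV.lift _ _ (sq1.w.trans (Category.assoc _ _ _).symm))
        (by rw [hPV.lift_fst]; exact sq1) (hPV.lift_snd _ _ _) hPV)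
  choose tg htg using fun x => exists_gens_at σ.xv.left (gx x) (by haveI := hres x; infer_instance)
  obtain ⟨a₀, ha₀⟩ := exists_idx_range σ (T.biUnion tg)
  let σ' := σ.restrict a₀
  have hrel : ∀ (a : {a : A // a₀ ≤ a}) (x : OV.left), ∃ s : Finset Γ((σ'.V₀ a).left, ⊤),
      (∀ y ∈ s, (σ'.τ₀ a).left.appTop.hom y = 0) ∧ (x ∈ T → ∀ {W : Scheme.{u}} (w : W ⟶ (σ'.V₀ a).left)
        (l : σ'.X₀.left ⟶ W), IsClosedImmersion w → l ≫ w = (σ'.τ₀ a).left → (∀ y ∈ s, w.appTop.hom y = 0) →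
          IsIso (l ∣_ (w ≫ (σ'.v₀ a).left) ⁻¹ᵁ U.left.basicOpen (gx x))) := fun a x => by
    by_cases hx : x ∈ T
    · haveI := σ'.hV₀ a
      haveI := σ'.hX₀
      haveI := σ'.hv₀F a
      have e : (σ'.τ₀ a).left ≫ (σ'.v₀ a).left = σ.xv.left := by rw [← Over.comp_left, σ'.τ₀_v]; rfl
      have e' : ∀ r, (σ'.τ₀ a).left.appTop.hom ((σ'.v₀ a).left.appTop.hom r) = σ.xv.left.appTop.hom r := fun r => by
        rw [← e, Scheme.Hom.comp_appTop]
        rfl
      obtain ⟨s, hs1, hs2⟩ := exists_relations_at (σ'.v₀ a).left (σ'.τ₀ a).left (gx x) (by rw [e]; exact hres x)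
        fun y => by
          obtain ⟨n, b, hb⟩ := htg x (σ'.τ₀ a).left.appTop.hom.range (fun r => ⟨_, e' r⟩)
            (fun z hz => ha₀ a.1 a.2 z (Finset.mem_biUnion.2 ⟨x, hx, hz⟩)) y
          exact ⟨n, b, by rw [hb, e']⟩
      exact ⟨s, hs1, fun _ => hs2⟩
    · exact ⟨∅, fun y hy => absurd hy (Finset.notMem_empty y), fun h => absurd h hx⟩
  choose sg hsg hsgP using hrel
  have hint : ∀ a, IsIntegralHom ((σ'.τ₀ a).left ≫ (σ'.v₀ a).left) := fun a => by
    rw [← Over.comp_left, σ'.τ₀_v]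
    exact hI.2 E₀.obj.hom σ'.xz σ'.xv σ'.sqX
  choose si hsi hsiP using fun a => by
    haveI := σ'.hV₀ a
    haveI := σ'.hv₀F a
    haveI := hint a
    exact exists_integral_relations (σ'.v₀ a).left (σ'.τ₀ a).left
  haveI : Nonempty {a : A // a₀ ≤ a} := ⟨⟨a₀, le_rfl⟩⟩
  haveI : IsDirected {a : A // a₀ ≤ a} (· ≤ ·) := ⟨fun a b => by
    obtain ⟨c, h₁, h₂⟩ := exists_ge_ge a.1 b.1
    exact ⟨⟨c, a.2.trans h₁⟩, h₁, h₂⟩⟩
  obtain ⟨I, iI, hdir, hne, D, t, c, hc, e, h1, h2, h3, h4, h5⟩ := exists_limit_of_sys_rel hqc hqs hs haff σ'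
    (fun a => si a ∪ T.biUnion (sg a)) (fun a y hy => by
      rcases Finset.mem_union.1 hy with hy | hy
      · exact hsi a y hy
      · obtain ⟨x, -, hx⟩ := Finset.mem_biUnion.1 hy
        exact hsg a x y hx)
  have hfin' : ∀ i, IsFiniteMor (t.app i) := fun i => by
    obtain ⟨a, W, w, v, l, sq, hvc, hS, -, -⟩ := h4 i
    have hv : IsFinite (v ≫ σ'.v₀ a).left := by
      rw [Over.comp_left]
      exact hsiP a v.left hvc fun y hy => hS y (Finset.mem_union_left _ hy)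
    exact (isFiniteMor_iff_repWith _).2 (repWith_of_fppfCover @IsFinite
      (fun _ _ r hr => by have : IsFinite r := hr; exact indQA_of_isAffineHom r) Y.property
      (fun _ => IsAlgSpace.yon_obj E₀.obj.left)
      (ι := PUnit.{u + 1}) (Yi := fun _ => (yon S).obj E₀.obj.left) (g := fun _ => E₀.obj.hom)
      (ColimEtale.isFppfCover_of_etale Y.property (fun _ => isEtaleMor_of_repWith' E₀.property)
        fun x => ⟨PUnit.unit, isSurjectiveMor_of_repWith hs x⟩)
      (t.app i) (fun _ => _) (fun _ => (yon S).map (v ≫ σ'.v₀ a)) (fun _ => w) (fun _ => sq)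
      (fun _ => (repWith_yon_map_iff @IsFinite _).2 hv))
  refine ⟨I, iI, hdir, hne, D, t, c, hc, e, h1, h2, fun i => ⟨hfin' i, (h3 i).2⟩, h5, fun i Pi q₁ q₂ hP k hk₁ hk₂ => ?_⟩
  obtain ⟨a, W, w, v, l, sq, hvc, hS, hlv, hlw⟩ := h4 i
  have hPi : IsAlgSpace Pi := isAlgSpace_of_isPullback_space Y.property (h1 i) hV hP
  have hq₂ : RepWith @IsFinite q₂ := repWith_baseChange hP ((isFiniteMor_iff_repWith _).1 (hfin' i))
  have hkF : RepWith @IsFinite k := qsMor_finite_cancel hPVa hPi hV hk₂ hpv₂ hq₂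
  let wv : W ⟶ U := v ≫ σ'.v₀ a
  let D : OV.left → W.left.Opens := fun x => wv.left ⁻¹ᵁ U.left.basicOpen (gx x)
  have sW : ∀ x, IsPullback ((yon S).map (resι wv (U.left.basicOpen (gx x))) ≫ w)
      ((yon S).map (resMor wv (U.left.basicOpen (gx x)))) (t.app i) (dV x ≫ j) := fun x => by
    rw [hdV x]
    exact (isPullback_res wv _).paste_horiz sq
  have hφ : ∀ x, ((yon S).map (resι wv (U.left.basicOpen (gx x))) ≫ w) ≫ t.app i =
      ((yon S).map (resMor wv (U.left.basicOpen (gx x))) ≫ dV x) ≫ j := fun x => by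
    exact (sW x).w.trans (Category.assoc _ _ _).symm
  have sqφ : ∀ x, IsPullback (hP.lift _ _ (hφ x)) ((yon S).map (resMor wv (U.left.basicOpen (gx x)))) q₂ (dV x) :=
    fun x => IsPullback.of_right (by rw [hP.lift_fst]; exact sW x) (hP.lift_snd _ _ _) hP
  have hcov : IsFppfCover (fun x : {x // x ∈ T} => (yon S).obj (Over.mk ((D x.1).ι ≫ W.hom)))
      (fun x => hP.lift _ _ (hφ x.1)) := by
    refine ColimEtale.isFppfCover_of_etale hPi (fun x => isEtaleMor_of_repWith' (repWith_baseChange (sqφ x.1).flip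
      (repWith_comp ((repWith_yon_iff _).2 (by
        haveI := hκo x.1
        show Etale (κ x.1).left
        infer_instance)) hoV))) fun z => ?_
    obtain ⟨y', hy⟩ := ofPt_surjective hoVs (Points.map q₂ z)
    obtain ⟨x, hx, hy'⟩ := Set.mem_iUnion₂.1 (hT (Set.mem_univ y'))
    obtain ⟨d, hd⟩ : ∃ d, (κ x).left d = y' := ⟨⟨o.left y', hy'⟩, o.left.isOpenEmbedding.injective (by
      show ((κ x).left ≫ o.left) _ = _
      rw [show (κ x).left ≫ o.left = (ιg x).left from IsOpenImmersion.lift_fac _ _ _]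
      rfl)⟩
    obtain ⟨m, hm, -⟩ := exists_point_of_isPullback (sqφ x) (x := z) (y := Points.schemeEquiv _ d) (by
      rw [← hy, ← hd, ← ofPt_comp (κ x) oV d]
      exact Points.ofPt_eq_map_ofScheme _ _)
    exact ⟨⟨x, hx⟩, m, hm⟩
  have hld : ∀ x, IsPullback ((yon S).map (resι l (D x)) ≫ σ'.xz)
      ((yon S).map (resMor l (D x)) ≫ (yon S).map (resMor wv (U.left.basicOpen (gx x)))) f.hom (dV x ≫ j) := fun x => by
    rw [hdV x]
    refine IsPullback.paste_horiz ((isPullback_res l (D x)).paste_vert (isPullback_res wv _)) ?_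
    rw [← Functor.map_comp, show l ≫ wv = σ'.xv by rw [← Category.assoc, hlv, σ'.τ₀_v]]
    exact σ'.sqX
  have hψ : ∀ x, ((yon S).map (resι l (D x)) ≫ σ'.xz) ≫ f.hom =
      (((yon S).map (resMor l (D x)) ≫ (yon S).map (resMor wv (U.left.basicOpen (gx x)))) ≫ dV x) ≫ j := fun x => by
    exact (hld x).w.trans (Category.assoc _ _ _).symm
  refine (isIso_iff_repWith k).2 ?_
  refine repWith_of_fppfCover (MorphismProperty.isomorphisms Scheme.{u})
    (fun _ _ r hr => by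
      haveI : IsIso r := hr
      exact indQA_of_isAffineHom r) hPi (fun x => IsAlgSpace.yon_obj _) hcov k
    (fun x : {x // x ∈ T} => (yon S).obj (Over.mk ((l.left ⁻¹ᵁ D x.1).ι ≫ σ'.X₀.hom)))
    (fun x => (yon S).map (resMor l (D x.1))) (fun x => hPV.lift _ _ (hψ x.1)) (fun x => ?_) fun x => ?_
  · have sqψ : IsPullback (hPV.lift _ _ (hψ x.1))
        ((yon S).map (resMor l (D x.1)) ≫ (yon S).map (resMor wv (U.left.basicOpen (gx x.1)))) pv₂ (dV x.1) :=
      IsPullback.of_right (by rw [hPV.lift_fst]; exact hld x.1) (hPV.lift_snd _ _ _) hPV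
    refine IsPullback.of_bot (by rw [hk₂]; exact sqψ) (hP.hom_ext ?_ ?_) (sqφ x.1)
    · have key : resMor l (D x.1) ≫ resι wv (U.left.basicOpen (gx x.1)) = resι l (D x.1) ≫ l :=
        Over.OverMorphism.ext (morphismRestrict_ι l.left (D x.1))
      refine ((Category.assoc _ _ _).trans ((congrArg (_ ≫ ·) hk₁).trans ?_)).trans (Category.assoc _ _ _).symm
      refine (hPV.lift_fst_assoc _ _ _ _).trans (Eq.symm ((congrArg (_ ≫ ·) (hP.lift_fst _ _ _)).trans ?_))
      rw [← Functor.map_comp_assoc, key, Functor.map_comp_assoc, hlw, Category.assoc]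
    · rw [Category.assoc, hk₂, hPV.lift_snd, Category.assoc, Category.assoc, hP.lift_snd]
  · refine (repWith_yon_iff _).2 ?_
    exact hsgP a x.1 x.2 v.left l.left hvc (by rw [← Over.comp_left, hlv]) fun y hy =>
      hS y (Finset.mem_union_right _ (Finset.mem_biUnion.2 ⟨x.1, x.2, hy⟩))

end Groth.Agent.SpApprox

end
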