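import Groth.Agent.SpApprox.CoverFP
import Groth.Agent.SpApprox.RelOpen
import Groth.Agent.RelNorm.SheetsDense

/-!
Finite finitely presented covers which are finite etale over a dense open.
-/

set_option autoImplicit false
set_option linter.style.haveILetI false
set_option backward.isDefEq.respectTransparency false

universe u

noncomputable section

open CategoryTheory CategoryTheory.Limits AlgebraicGeometry Opposite AlgSp

namespace Groth.Agent.SpApprox

open Groth.Agent.AlgSpLib Groth.Agent.SpDesc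

variable {S : Scheme.{u}}

theorem exists_cover_fp_etale [QuasiSeparatedSpace ↥S] (X : Space S) (hqc : IsQuasiCompactSp X.obj)
    (hqs : IsQuasiSeparatedSp X.obj) (hirr : (irreducibleComponents (Points X.obj)).Finite) (U : Over S)
    (p : (yon S).obj U ⟶ X.obj) (hpe : RepWith @Etale p) (hps : RepWith @Surjective p) :
    ∃ (Y : Over S) (g : (yon S).obj Y ⟶ X.obj) (Ω : Space S) (j : Ω ⟶ X),
      IsFiniteMor g ∧ IsSurjectiveMor g ∧ IsFinitePresentationMor g ∧
      RepWith @IsOpenImmersion j.hom ∧ IsQuasiCompactSp Ω.obj ∧ Dense (Set.range (Points.map j.hom)) ∧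
      (∀ (P : Sp S) (fst : P ⟶ (yon S).obj Y) (snd : P ⟶ Ω.obj), IsPullback fst snd g j.hom →
        IsFiniteMor snd ∧ IsEtaleMor snd) ∧
      ∀ y : ↥Y.left, ∃ (V : Y.left.Opens), y ∈ V ∧
        ∃ k : Over.mk (V.ι ≫ Y.hom) ⟶ U, (yon S).map k ≫ p = (yon S).map (Over.homMk V.ι) ≫ g := by
  classical
  obtain ⟨Y₁, g₁, O₁, hO₁, hO₁c, hO₁d, hg₁, hg₁s, hFE, hloc⟩ :=
    Groth.Agent.RelNorm.exists_integral_cover_etale X hqc hqs hirr p hpe hps
  let Y₁' : Space S := ⟨(yon S).obj Y₁, IsAlgSpace.yon_obj Y₁⟩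
  let f : Y₁' ⟶ X := ObjectProperty.homMk g₁
  have hΩ := isAlgSpace_subSheaf X.property hO₁
  have sqV := IsPullback.of_hasPullback g₁ (subInc O₁)
  obtain ⟨hPF, hPE⟩ := hFE _ _ _ sqV
  obtain ⟨I, _, hdir, hne, D, t, c, hc, e, hD, hDa, ht, hcomp, hiso⟩ :=
    exists_limit_finite_iso f ((isIntegralMor_iff_repWith _).2 hg₁) hqc hqs hΩ (repWith_subInc hO₁) hO₁c sqV
      ((isFiniteMor_iff_repWith _).2 hPF) ((locP_iff_repWith etST_lfp hΩ hPE.1).2 (repWith_mono
        (fun _ _ r hr => by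
          have : Etale r := hr
          show LocallyOfFinitePresentation r
          infer_instance) hPE))
  haveI := hdir
  haveI := hne
  haveI : IsFiltered I := inferInstance
  haveI : IsCofiltered Iᵒᵖ := inferInstance
  have htF : ∀ l, RepWith @IsFinite (t.app l) := fun l => (isFiniteMor_iff_repWith _).1 (ht l).1
  have hDq : ∀ l, IsQuasiCompactSp (D.obj l) ∧ IsQuasiSeparatedSp (D.obj l) := fun l =>
    qcqs_of_affine (hD l) X.property (a := t.app l) (repWith_mono (P := @IsFinite) (Q := @IsAffineHom)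
      (fun _ _ r hr => have : IsFinite r := hr; inferInstance) (htF l)) hqc hqs
  have hDa' : ∀ i j (φ : i ⟶ j), RepWith @IsAffineHom (D.map φ) := fun i j φ =>
    (isAffineMor_iff_repWith _).1 (hDa i j φ)
  obtain ⟨i₀, W₀, ⟨e₀⟩⟩ := exists_representable_stage D hD hDa (fun l => (hDq l).1) (fun l => (hDq l).2) c hc e.symm
  obtain ⟨G, η, π, hG, pp, hpp, hppη, hGa⟩ := exists_sch_tower D hDa' c hc i₀ e₀ e.symm
  haveI : ∀ {i j : Over i₀} (a : i ⟶ j), IsAffineHom ((G ⋙ Over.forget S).map a) := fun a => hGa a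
  let h : ∀ l : Over i₀, (yon S).obj (G.obj l) ⟶ X.obj := fun l => η.hom.app l ≫ t.app l.left
  have hh : ∀ {i j : Over i₀} (a : i ⟶ j), (yon S).map (G.map a) ≫ h j = h i := fun {i j} a => by
    have h1 := η.hom.naturality a
    dsimp at h1
    show (yon S).map (G.map a) ≫ η.hom.app j ≫ t.app j.left = η.hom.app i ≫ t.app i.left
    rw [← Category.assoc, h1, Category.assoc, t.naturality a.left]
    exact congrArg (η.hom.app i ≫ ·) (Category.comp_id _)
  have hppg : ∀ l, (yon S).map (pp l) ≫ h l = g₁ := fun l => by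
    show (yon S).map (pp l) ≫ η.hom.app l ≫ t.app l.left = g₁
    rw [← Category.assoc, hppη, Category.assoc]
    exact hcomp l.left
  haveI hGc : ∀ l, CompactSpace ((G ⋙ Over.forget S).obj l) := fun l =>
    compactSpace_of_sp (qc_of_iso (IsAlgSpace.yon_obj (G.obj l)) (hD l.left) (η.app l) (hDq l.left).1)
  haveI : CompactSpace ↥Y₁.left := Scheme.compactSpace_of_isLimit (G ⋙ Over.forget S) _ hG
  have hst : ∀ y : Y₁.left, ∃ l, π.app l y ∈ secLocus p (h l) := fun y => by
    obtain ⟨O, cy, hy, hcy⟩ := hloc y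
    exact exists_secLocus_stage hpe G h hh g₁ π hG pp hpp hppg y O hy cy hcy
  choose lst hlst using hst
  obtain ⟨s, hs⟩ := isCompact_univ.elim_finite_subcover
    (fun y : Y₁.left => ((π.app (lst y) ⁻¹ᵁ secLocus p (h (lst y)) : Y₁.left.Opens) : Set Y₁.left))
    (fun y => (π.app (lst y) ⁻¹ᵁ secLocus p (h (lst y))).2) (fun y _ => Set.mem_iUnion.2 ⟨y, hlst y⟩)
  obtain ⟨n, hn⟩ := IsCofiltered.inf_objs_exists (s.image lst)
  have htop : π.app n ⁻¹ᵁ secLocus p (h n) = ⊤ := eq_top_iff.2 fun z _ => by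
    obtain ⟨y, hy, hz⟩ := Set.mem_iUnion₂.1 (hs (Set.mem_univ z))
    obtain ⟨φ⟩ := hn (Finset.mem_image_of_mem lst hy)
    show π.app n z ∈ secLocus p (h n)
    refine preimage_secLocus_le p (h (lst y)) (G.map φ) (h n) (hh φ) ?_
    show (G.map φ).left (π.app n z) ∈ secLocus p (h (lst y))
    have h1 : π.app (lst y) = π.app n ≫ (G ⋙ Over.forget S).map φ :=
      (Category.id_comp _).symm.trans (π.naturality φ)
    have h2 : π.app (lst y) z ∈ secLocus p (h (lst y)) := hz
    rw [h1] at h2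
    exact h2
  obtain ⟨m, φ, hφ⟩ := exists_map_eq_top (G ⋙ Over.forget S) (Cone.mk Y₁.left π) hG (secLocus p (h n)) htop
  have hF : RepWith @IsFinite (h m) := (repWith_iso_comp_iff (η.app m).hom _).2 (htF m.left)
  have hlfp : RepWith @LocallyOfFinitePresentation (h m) := (repWith_iso_comp_iff (η.app m).hom _).2
    ((locP_iff_repWith etST_lfp X.property (htF m.left).1).1 (ht m.left).2.1)
  refine ⟨G.obj m, h m, ⟨subSheaf O₁, hΩ⟩, ObjectProperty.homMk (subInc O₁), (isFiniteMor_iff_repWith _).2 hF, fun x => ?_,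
    ⟨(locP_iff_repWith etST_lfp X.property hF.1).2 hlfp,
      (isQuasiCompactMor_iff_repWith (IsAlgSpace.yon_obj _) X.property hF.1).2 (repWith_mono (P := @IsFinite)
        (Q := @QuasiCompact) (fun _ _ r hr => have : IsFinite r := hr; inferInstance) hF),
      (isQuasiSeparatedMor_iff_repWith (IsAlgSpace.yon_obj _) X.property hF.1).2 (repWith_mono (P := @IsFinite)
        (Q := @QuasiSeparated) (fun _ _ r hr => have : IsFinite r := hr; inferInstance) hF)⟩,
    repWith_subInc hO₁, hO₁c, ?_, fun P fst snd sq => ?_,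
    fun w => (mem_secLocus_iff p (h m) w).1 ?_⟩
  · obtain ⟨z, rfl⟩ := isSurjectiveMor_of_repWith hg₁s x
    exact ⟨Points.map ((yon S).map (pp m)) z, by rw [← Points.map_comp, hppg]⟩
  · show Dense (Set.range (Points.map (subInc O₁)))
    rw [range_subInc]
    exact hO₁d
  · have sq' : IsPullback (fst ≫ η.hom.app m) snd (t.app m.left) (subInc O₁) := by
      refine IsPullback.of_iso sq (Iso.refl _) (η.app m) (Iso.refl _) (Iso.refl _) ?_ ?_ ?_ ?_ <;> simp [h]
    have hw : (pullback.fst g₁ (subInc O₁) ≫ e.inv ≫ c.π.app m.left) ≫ t.app m.left =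
        pullback.snd g₁ (subInc O₁) ≫ subInc O₁ := by
      rw [Category.assoc, Category.assoc, hcomp]
      exact pullback.condition
    have : IsIso (sq'.lift _ _ hw) := hiso m.left P _ snd sq' _ (sq'.lift_fst _ _ _) (sq'.lift_snd _ _ _)
    rw [show snd = inv (sq'.lift _ _ hw) ≫ pullback.snd g₁ (subInc O₁) by rw [IsIso.eq_inv_comp, sq'.lift_snd]]
    exact ⟨(isFiniteMor_iff_repWith _).2 ((repWith_iso_comp_iff _ _).2 hPF),
      isEtaleMor_of_repWith' ((repWith_iso_comp_iff _ _).2 hPE)⟩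
  · exact preimage_secLocus_le p (h n) (G.map φ) (h m) (hh φ) (hφ.ge trivial)

end Groth.Agent.SpApprox

end
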