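import Groth.Agent.SpApprox.ImageLim

/-!
The scheme-theoretic images of a good diagram have limit `X`: the diagram.
-/

set_option autoImplicit false
set_option linter.style.haveILetI false
set_option backward.isDefEq.respectTransparency false

universe u

noncomputable section

open CategoryTheory CategoryTheory.Limits AlgebraicGeometry Opposite AlgSp

namespace Groth.Agent.SpApprox

open Groth.Agent.AlgSpLib Groth.Agent.SchImg

variable {S : Scheme.{u}} {I : Type u} [SmallCategory I] [IsCofiltered I] {D : I ⥤ Sp S} {i : I} {W : Sp S}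
  {w : W ⟶ D.obj i} {DP DX : Over i ⥤ Sp S} {π₁ : DP ⟶ Over.forget i ⋙ D}
  {π₂ : DP ⟶ (Functor.const (Over i)).obj W} {ε : DX ⟶ DP}

theorem dp_affine (hDa : ∀ (i j : I) (φ : i ⟶ j), IsAffineMor (D.map φ))
    (hDP : ∀ j : Over i, IsPullback (π₁.app j) (π₂.app j) (D.map j.hom) w) {j k : Over i} (a : j ⟶ k) :
    RepWith @IsAffineHom (DP.map a) := by
  refine repWith_baseChange (fst := π₁.app j) (f := D.map a.left) (g := π₁.app k) ?_
    ((isAffineMor_iff_repWith _).1 (hDa _ _ _))
  refine IsPullback.of_bot ?_ (π₁.naturality a).symm (hDP k)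
  rw [show DP.map a ≫ π₂.app k = π₂.app j from (π₂.naturality a).trans (Category.comp_id _), ← D.map_comp, Over.w a]
  exact hDP j

theorem dx_affine (hDa : ∀ (i j : I) (φ : i ⟶ j), IsAffineMor (D.map φ)) (hD : ∀ i, IsAlgSpace (D.obj i))
    (hW : IsAlgSpace W) (hDP : ∀ j : Over i, IsPullback (π₁.app j) (π₂.app j) (D.map j.hom) w)
    (hε : ∀ j, RepWith @IsClosedImmersion (ε.app j)) (j k : Over i) (a : j ⟶ k) : IsAffineMor (DX.map a) := by
  have hPk : IsAlgSpace (DP.obj k) := isAlgSpace_of_isPullback_space (hD i) (hD k.left) hW (hDP k)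
  have hm : ∀ {F G : Scheme.{u}} (r : F ⟶ G), IsClosedImmersion r → IsAffineHom r := fun r hr => by
    have := hr
    infer_instance
  refine (isAffineMor_iff_repWith _).2 (Groth.Agent.AlgSpLib.repWith_of_comp (P := @IsAffineHom) (DX.map a)
    (ε.app j ≫ DP.map a) (ε.app k) (ε.naturality a)
    (repWith_comp (repWith_mono (fun _ _ r hr => hm r hr) (hε j)) (dp_affine hDa hDP a)) ?_)
  exact repWith_mono (fun _ _ r hr => hm r hr) (isSeparatedMor_of_affine (SchImg.isAlgSpace_of_closed hPk (hε k)) hPk
    (repWith_mono (fun _ _ r hr => hm r hr) (hε k)))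

set_option maxHeartbeats 1000000 in
theorem isLimit_image_system (hD : ∀ i, IsAlgSpace (D.obj i))
    (hDa : ∀ (i j : I) (φ : i ⟶ j), IsAffineMor (D.map φ)) (c : Cone D) (hc : IsLimit c)
    (hW : IsAlgSpace W) (hWc : IsQuasiCompactSp W)
    {X : Sp S} (hX : IsAlgSpace X) (a : X ⟶ c.pt) (b : X ⟶ W)
    (hb : b ≫ w = a ≫ c.π.app i)
    (hci : ∀ (P : Sp S) (fst : P ⟶ c.pt) (snd : P ⟶ W), IsPullback fst snd (c.π.app i) w →
      ∀ k : X ⟶ P, k ≫ fst = a → k ≫ snd = b → RepWith @IsClosedImmersion k)
    (hDP : ∀ j : Over i, IsPullback (π₁.app j) (π₂.app j) (D.map j.hom) w)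
    (ξ : (Functor.const (Over i)).obj X ⟶ DX)
    (hξ : ∀ j : Over i, ξ.app j ≫ ε.app j ≫ π₁.app j = a ≫ c.π.app j.left ∧ ξ.app j ≫ ε.app j ≫ π₂.app j = b)
    (himg : ∀ j : Over i, IsSchImage (ξ.app j ≫ ε.app j) (ε.app j)) :
    Nonempty (IsLimit (Cone.mk X ξ)) := by
  let cL := limit.cone DX
  let hL : IsLimit cL := limit.isLimit DX
  let g : X ⟶ cL.pt := hL.lift (Cone.mk X ξ)
  have hg : ∀ j, g ≫ cL.π.app j = ξ.app j := fun j => hL.fac _ j
  let t : Over i := Over.mk (𝟙 i)
  let hc' := (Functor.Initial.isLimitWhiskerEquiv (Over.forget i) c).symm hc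
  let cD : Cone (Over.forget i ⋙ D) :=
    { pt := cL.pt
      π := cL.π ≫ ε ≫ π₁ }
  have h2 : ∀ j, cL.π.app j ≫ ε.app j ≫ π₂.app j = cL.π.app t ≫ ε.app t ≫ π₂.app t := fun j => by
    let u : j ⟶ t := Over.homMk j.hom
    rw [← cL.w u, Category.assoc]
    congr 1
    exact (congrArg (ε.app j ≫ ·) ((π₂.naturality u).trans (Category.comp_id _)).symm).trans
      (ε.naturality_assoc u _).symm
  have h1 : ∀ j, hc'.lift cD ≫ c.π.app j.left = cL.π.app j ≫ ε.app j ≫ π₁.app j := fun j => hc'.fac cD j
  let m : cL.pt ⟶ pullback (c.π.app i) w := pullback.lift (hc'.lift cD) (cL.π.app t ≫ ε.app t ≫ π₂.app t) (by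
    show hc'.lift cD ≫ c.π.app t.left = _
    rw [h1 t, Category.assoc, Category.assoc, ← (hDP t).w, show D.map t.hom = 𝟙 _ from D.map_id i]
    exact congrArg (fun k => cL.π.app t ≫ ε.app t ≫ k) (Category.comp_id _).symm)
  haveI : Mono m := ⟨fun {Z} p q e => hL.hom_ext fun j => by
    haveI := SchImg.mono_of_closed (himg j).1
    refine (cancel_mono (ε.app j)).1 ((hDP j).hom_ext ?_ ?_)
    · rw [Category.assoc, Category.assoc, Category.assoc, Category.assoc, ← h1 j]
      have := congrArg (fun k => k ≫ pullback.fst (c.π.app i) w ≫ c.π.app j.left) e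
      simp only [m, Category.assoc, pullback.lift_fst_assoc] at this
      exact this
    · rw [Category.assoc, Category.assoc, Category.assoc, Category.assoc, h2]
      have := congrArg (fun k => k ≫ pullback.snd (c.π.app i) w) e
      simp only [m, Category.assoc, pullback.lift_snd] at this
      exact this⟩
  have hgc : RepWith @IsClosedImmersion g := by
    refine repWith_of_comp_mono (m := m) (hci _ _ _ (IsPullback.of_hasPullback (c.π.app i) w) (g ≫ m) ?_ ?_)
    · rw [Category.assoc, pullback.lift_fst]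
      refine hc'.hom_ext fun j => ?_
      show (g ≫ _) ≫ c.π.app j.left = a ≫ c.π.app j.left
      rw [Category.assoc, h1, reassoc_of% (hg j)]
      exact (hξ j).1
    · rw [Category.assoc, pullback.lift_snd, reassoc_of% (hg t)]
      exact (hξ t).2
  have hPt : IsAlgSpace (DP.obj t) := isAlgSpace_of_isPullback_space (hD i) (hD t.left) hW (hDP t)
  have hDX : ∀ j, IsAlgSpace (DX.obj j) := fun j =>
    SchImg.isAlgSpace_of_closed (isAlgSpace_of_isPullback_space (hD i) (hD j.left) hW (hDP j)) (himg j).1
  have hPs : ∀ j, RepWith @IsAffineHom (π₂.app j) := fun j =>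
    repWith_baseChange (hDP j) ((isAffineMor_iff_repWith _).1 (hDa _ _ _))
  have htq : IsQuasiCompactSp (DX.obj t) := by
    refine ((isQuasiCompactMor_iff_repWith (hDX t) hW ?_).2 ?_) hW hWc (𝟙 W) (𝟙 _) (ε.app t ≫ π₂.app t)
      (IsPullback.id_horiz _)
    · exact (repWith_comp (repWith_mono (fun _ _ r hr => by
        have : IsClosedImmersion r := hr
        exact (inferInstance : IsAffineHom r)) (himg t).1) (hPs t)).1
    · exact repWith_mono (fun _ _ r hr => by
        have : IsAffineHom r := hr
        infer_instance) (repWith_comp (repWith_mono (fun _ _ r hr => by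
        have : IsClosedImmersion r := hr
        exact (inferInstance : IsAffineHom r)) (himg t).1) (hPs t))
  have hqm : ∀ j, IsQuasiCompactMor (ξ.app j) := fun j => by
    have sqP := IsPullback.of_hasPullback (c.π.app i) w
    let k : X ⟶ pullback (c.π.app i) w := pullback.lift a b hb.symm
    have hk : RepWith @IsClosedImmersion k := hci _ _ _ sqP k (pullback.lift_fst _ _ _) (pullback.lift_snd _ _ _)
    let r : pullback (c.π.app i) w ⟶ DP.obj j := (hDP j).lift (pullback.fst _ _ ≫ c.π.app j.left) (pullback.snd _ _)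
      (by rw [Category.assoc, c.w j.hom]; exact pullback.condition)
    have hr : IsPullback (pullback.fst (c.π.app i) w) r (c.π.app j.left) (π₁.app j) := by
      refine IsPullback.of_bot ?_ ((hDP j).lift_fst _ _ _).symm (hDP j)
      rw [IsPullback.lift_snd, c.w j.hom]
      exact sqP
    have hra : RepWith @IsAffineHom r := repWith_baseChange hr
      ((isAffineMor_iff_repWith _).1 (SchImg.repWith_affine_lim D hDa c hc _))
    have hPj : IsAlgSpace (DP.obj j) := isAlgSpace_of_isPullback_space (hD i) (hD j.left) hW (hDP j)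
    have e : ξ.app j ≫ ε.app j = k ≫ r := (hDP j).hom_ext
      (by rw [Category.assoc, Category.assoc, IsPullback.lift_fst]; exact (hξ j).1.trans (congrArg (· ≫ c.π.app j.left) (pullback.lift_fst _ _ _)).symm |>.trans (Category.assoc _ _ _))
      (by rw [Category.assoc, Category.assoc, IsPullback.lift_snd, pullback.lift_snd]; exact (hξ j).2)
    have hkr : RepWith @IsAffineHom (k ≫ r) := repWith_comp (repWith_mono (fun _ _ r hr => by
      have : IsClosedImmersion r := hr
      exact (inferInstance : IsAffineHom r)) hk) hra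
    exact SpQS.isQuasiCompactMor_cancel hX (hDX j) hPj (ξ.app j) (ε.app j)
      (by
        rw [e]
        exact (isQuasiCompactMor_iff_repWith hX hPj hkr.1).2 (repWith_mono (fun _ _ r hr => by
          have : IsAffineHom r := hr
          infer_instance) hkr))
      (ValLib.isQuasiSeparatedMor_of_separated _ (isProperMor_of_closedImmersion (hDX j) hPj (himg j).1).1)
  haveI : IsIso g := isLimit_of_dominant DX hDX (fun j k u => dx_affine hDa hD hW hDP (fun l => (himg l).1) j k u)
    t htq cL hL hX g hgc fun j => by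
      rw [hg]
      exact ⟨hqm j, isSchImage_id_of_image (himg j)⟩
  exact ⟨hL.ofIsoLimit (Cone.ext (asIso g) (fun j => (hg j).symm)).symm⟩

end Groth.Agent.SpApprox

end
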