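import Groth.Agent.LfpLim.RelPres
import Groth.Agent.SpDesc.RelTower

/-!
Morphisms out of limits of spaces into a space locally of finite presentation come from stages.
-/

set_option autoImplicit false
set_option linter.style.haveILetI false
set_option backward.isDefEq.respectTransparency false

universe u

noncomputable section

open CategoryTheory CategoryTheory.Limits AlgebraicGeometry Opposite AlgSp

namespace Groth.Agent.SpApprox

open Groth.Agent.AlgSpLib Groth.Agent.LfpLim Groth.Agent.LimPresLocal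

variable {S : Scheme.{u}} {X Y : Sp S}

section affine

variable {I : Type u} [SmallCategory I] [IsCofiltered I] (G : I ⥤ Over S) (L : Cone G)

theorem exists_affine_surj (hX : IsAlgSpace X) (hY : IsAlgSpace Y) (f : X ⟶ Y)
    (hf : LocP @LocallyOfFinitePresentation f) (hL : IsLimit ((Over.forget S).mapCone L))
    (hG : ∀ i, IsAffine (G.obj i).left) (hpt : IsAffine L.pt.left) {i : I} (x : (yon S).obj L.pt ⟶ X)
    (y : (yon S).obj (G.obj i) ⟶ Y) (e : x ≫ f = (yon S).map (L.π.app i) ≫ y) :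
    ∃ (k : I) (φ : k ⟶ i) (x' : (yon S).obj (G.obj k) ⟶ X),
      (yon S).map (L.π.app k) ≫ x' = x ∧ x' ≫ f = (yon S).map (G.map φ) ≫ y := by
  obtain ⟨k, φ, s, hs, hsx⟩ := (crit_of_locP hX hY f hf).surj G L hL hG hpt i (yE y) (yE x) (by
    rw [← GrothendieckTopology.uliftYonedaEquiv_comp, e, ← GrothendieckTopology.uliftYonedaEquiv_naturality])
  refine ⟨k, φ, yE.symm s, yE.injective ?_, yE.injective ?_⟩
  · rw [← GrothendieckTopology.uliftYonedaEquiv_naturality, Equiv.apply_symm_apply]
    exact hsx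
  · rw [GrothendieckTopology.uliftYonedaEquiv_comp, ← GrothendieckTopology.uliftYonedaEquiv_naturality,
      Equiv.apply_symm_apply]
    exact hs

theorem exists_affine_eq (hX : IsAlgSpace X) (hY : IsAlgSpace Y) (f : X ⟶ Y)
    (hf : LocP @LocallyOfFinitePresentation f) (hL : IsLimit ((Over.forget S).mapCone L))
    (hG : ∀ i, IsAffine (G.obj i).left) (hpt : IsAffine L.pt.left) {i : I}
    (x x' : (yon S).obj (G.obj i) ⟶ X) (e : x ≫ f = x' ≫ f)
    (e' : (yon S).map (L.π.app i) ≫ x = (yon S).map (L.π.app i) ≫ x') :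
    ∃ (k : I) (φ : k ⟶ i), (yon S).map (G.map φ) ≫ x = (yon S).map (G.map φ) ≫ x' := by
  obtain ⟨k, φ, hk⟩ := (crit_of_locP hX hY f hf).inj G L hL hG hpt i (yE x) (yE x') (by
      rw [← GrothendieckTopology.uliftYonedaEquiv_comp, ← GrothendieckTopology.uliftYonedaEquiv_comp, e]) (by
      show X.obj.map (L.π.app i).op _ = X.obj.map (L.π.app i).op _
      rw [GrothendieckTopology.uliftYonedaEquiv_naturality, GrothendieckTopology.uliftYonedaEquiv_naturality, e'])
  refine ⟨k, φ, yE.injective ?_⟩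
  rw [← GrothendieckTopology.uliftYonedaEquiv_naturality, ← GrothendieckTopology.uliftYonedaEquiv_naturality]
  exact hk

/-- the same for qcqs towers of schemes -/
theorem exists_qc_eq (hX : IsAlgSpace X) (hY : IsAlgSpace Y) (f : X ⟶ Y)
    (hf : LocP @LocallyOfFinitePresentation f) (hL : IsLimit ((Over.forget S).mapCone L))
    (hGc : ∀ i, CompactSpace (G.obj i).left) (hGa : ∀ {i j : I} (φ : i ⟶ j), IsAffineHom (G.map φ).left) {i : I}
    (x x' : (yon S).obj (G.obj i) ⟶ X) (e : x ≫ f = x' ≫ f)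
    (e' : (yon S).map (L.π.app i) ≫ x = (yon S).map (L.π.app i) ≫ x') :
    ∃ (k : I) (φ : k ⟶ i), (yon S).map (G.map φ) ≫ x = (yon S).map (G.map φ) ≫ x' := by
  haveI := hGc i
  let 𝒰 := (G.obj i).left.affineCover.finiteSubcover
  haveI : ∀ a, IsAffine (𝒰.X a) := fun a => by
    dsimp [𝒰]
    infer_instance
  let v : (∐ fun a => 𝒰.X a) ⟶ (G.obj i).left := Sigma.desc fun a => 𝒰.f a
  haveI : Etale v := IsZariskiLocalAtSource.sigmaDesc (P := @Etale) fun a => inferInstance
  haveI : Surjective v := ⟨fun y => by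
    obtain ⟨z, hz⟩ := 𝒰.covers y
    exact ⟨Sigma.ι (fun a => 𝒰.X a) (𝒰.idx y) z, by rw [← Scheme.Hom.comp_apply, Sigma.ι_desc]; exact hz⟩⟩
  haveI : IsAffine (∐ fun a => 𝒰.X a) := inferInstance
  let o : CategoryTheory.Over i := CategoryTheory.Over.mk (𝟙 i)
  let T := pieceTower G i v
  let C := pieceCone G L i v
  obtain ⟨hC⟩ := exists_isLimit_pieceCone G L i v hL
  have hTaff : ∀ a, IsAffine (T.obj a).left := fun a => by
    haveI := hGa a.hom
    show IsAffine (pullback (G.map a.hom).left v)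
    exact isAffine_of_isAffineHom (pullback.snd (G.map a.hom).left v)
  have hTt : ∀ {a b : CategoryTheory.Over i} (m : a ⟶ b), IsAffineHom ((T ⋙ Over.forget S).map m) := fun {a b} m => by
    haveI := hTaff a
    haveI := hTaff b
    show IsAffineHom (T.map m).left
    infer_instance
  haveI : ∀ a, IsAffine ((T ⋙ Over.forget S).obj a) := hTaff
  have hCaff : IsAffine C.pt.left := Scheme.isAffine_of_isLimit (D := T ⋙ Over.forget S) ((Over.forget S).mapCone C) hC
  have hp : C.π.app o ≫ toStage G i v o = toInf G L i v ≫ L.π.app i := prj_toStage G L i v o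
  obtain ⟨a, m, hm⟩ := exists_affine_eq T C hX hY f hf hC hTaff hCaff
    ((yon S).map (toStage G i v o) ≫ x) ((yon S).map (toStage G i v o) ≫ x') (by rw [Category.assoc, Category.assoc, e])
    (by rw [← Functor.map_comp_assoc, ← Functor.map_comp_assoc, hp, Functor.map_comp, Category.assoc,
      Category.assoc, e'])
  haveI : Etale (toStage G i v a).left := inferInstanceAs (Etale (pullback.fst _ v))
  haveI : Surjective (toStage G i v a).left := inferInstanceAs (Surjective (pullback.fst _ v))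
  refine ⟨a.left, a.hom, cancel_cover (toStage G i v a) ?_⟩
  have hta : T.map m ≫ toStage G i v o = toStage G i v a ≫ G.map a.hom := by
    rw [show a.hom = m.left from ((Category.comp_id _).symm.trans (CategoryTheory.Over.w m)).symm]
    exact trans_toStage G i v m
  rw [← Functor.map_comp_assoc, ← Functor.map_comp_assoc, ← hta, Functor.map_comp, Category.assoc, Category.assoc]
  exact hm

end affine

variable {J : Type u} [SmallCategory J] [IsCofiltered J] [QuasiSeparatedSpace ↥S] (D : J ⥤ Sp S)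

set_option maxHeartbeats 1600000 in
/-- a morphism from a limit of spaces to a space locally of finite presentation comes from a stage -/
theorem exists_stage_lfp (hD : ∀ i, IsAlgSpace (D.obj i)) (hDa : ∀ (i j : J) (φ : i ⟶ j), IsAffineMor (D.map φ))
    (c : Cone D) (hc : IsLimit c) {i₁ : J} (hqc : IsQuasiCompactSp (D.obj i₁))
    (hqs : ∀ i, IsQuasiSeparatedSp (D.obj i)) (hX : IsAlgSpace X) (hY : IsAlgSpace Y) (f : X ⟶ Y)
    (hf : LocP @LocallyOfFinitePresentation f) (x : c.pt ⟶ X) (y : D.obj i₁ ⟶ Y)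
    (e : x ≫ f = c.π.app i₁ ≫ y) :
    ∃ (k : J) (φ : k ⟶ i₁) (x' : D.obj k ⟶ X), c.π.app k ≫ x' = x ∧ x' ≫ f = D.map φ ≫ y := by
  have := compactSpace_of_isQuasiCompactSp hqc
  obtain ⟨U₁, g, hU₁, hge, hgs⟩ := exists_affine_chart_of_compact (hD i₁)
  obtain ⟨W, z, G, zz, pp, L, eW, H, ra, rb, Rl, al, bl, r, cH, eR, ⟨hL⟩, ⟨hcH⟩, hW, hze, hzs, hG, hpp, hr,
    sqG, sqW, sqR, sqRl, hH, hrab, -, hRq, hHa⟩ :=
    SpDesc.exists_rel_tower D hD hDa c hc i₁ hqs g hge hgs
  have hppG : ∀ {j k : CategoryTheory.Over i₁} (m : j ⟶ k), pp j ≫ G.map m = pp k := fun {j k} m =>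
    Over.OverMorphism.ext (by
      rw [Over.comp_left, hpp, hpp, Category.assoc]
      exact congrArg (eqToHom eW.symm ≫ ·) (L.w m))
  let LO : Cone G := Cone.mk W { app := pp, naturality := fun j k m => (Category.id_comp _).trans (hppG m).symm }
  have hLO : IsLimit ((Over.forget S).mapCone LO) := hL.ofIsoLimit (Cone.ext (eqToIso eW) fun j => by
    show L.π.app j = eqToHom eW ≫ (pp j).left
    rw [hpp, eqToHom_trans_assoc, eqToHom_refl, Category.id_comp])
  let t : CategoryTheory.Over i₁ := CategoryTheory.Over.mk (𝟙 i₁)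
  obtain ⟨k, m, xk, hxk, hxkf⟩ := exists_affine_surj G LO hX hY f hf hLO (fun j => (hG j).1) hW (i := t)
    (z ≫ x) (zz t ≫ y) (by
      rw [Category.assoc, e]
      show z ≫ c.π.app t.left ≫ y = (yon S).map (pp t) ≫ zz t ≫ y
      rw [← Category.assoc z, (sqW t).w, Category.assoc])
  have hrH : ∀ {j l : CategoryTheory.Over i₁} (q : j ⟶ l), r j ≫ H.map q = r l := fun {j l} q =>
    Over.OverMorphism.ext (by
      rw [Over.comp_left, hr, hr, Category.assoc]
      exact congrArg (eqToHom eR.symm ≫ ·) (cH.w q))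
  let RO : Cone H := Cone.mk Rl { app := r, naturality := fun j l q => (Category.id_comp _).trans (hrH q).symm }
  have hRO : IsLimit ((Over.forget S).mapCone RO) := hcH.ofIsoLimit (Cone.ext (eqToIso eR) fun j => by
    show cH.π.app j = eqToHom eR ≫ (r j).left
    rw [hr, eqToHom_trans_assoc, eqToHom_refl, Category.id_comp])
  have hzw : zz k ≫ D.map m.left ≫ y = (yon S).map (G.map m) ≫ zz t ≫ y := by
    rw [← Category.assoc, (sqG m).w, Category.assoc]
  obtain ⟨l, q, hq⟩ := exists_qc_eq H RO hX hY f hf hRO (fun j => (hRq j).1) (fun φ => (hHa φ).1) (i := k)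
    ((yon S).map (ra k) ≫ xk) ((yon S).map (rb k) ≫ xk)
    (by rw [Category.assoc, Category.assoc, hxkf, ← hzw, ← Category.assoc, (sqR k).w, Category.assoc]) (by
      show (yon S).map (r k) ≫ _ = (yon S).map (r k) ≫ _
      rw [← Functor.map_comp_assoc, ← Functor.map_comp_assoc, (hrab k).1, (hrab k).2, Functor.map_comp,
        Functor.map_comp, Category.assoc, Category.assoc]
      show (yon S).map al ≫ (yon S).map (LO.π.app k) ≫ xk = (yon S).map bl ≫ (yon S).map (LO.π.app k) ≫ xk
      rw [hxk, ← Category.assoc, sqRl.w, Category.assoc])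
  let xl : (yon S).obj (G.obj l) ⟶ X := (yon S).map (G.map q) ≫ xk
  have hw : (yon S).map (ra l) ≫ xl = (yon S).map (rb l) ≫ xl := by
    simp only [xl]
    rw [← Functor.map_comp_assoc, ← Functor.map_comp_assoc, ← (hH q).1, ← (hH q).2, Functor.map_comp,
      Functor.map_comp, Category.assoc, Category.assoc]
    exact hq
  have := isLocallySurjective_of_atlas (hG l).2.1 (hG l).2.2
  obtain ⟨hcol⟩ := isColimit_of_isPullback (sqR l)
  have := isLocallySurjective_of_atlas hze hzs
  obtain ⟨hcolW⟩ := isColimit_of_isPullback sqRl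
  have hfac : zz l ≫ hcol.desc (Cofork.ofπ xl hw) = xl := hcol.fac _ WalkingParallelPair.one
  refine ⟨l.left, l.hom, hcol.desc (Cofork.ofπ xl hw), Cofork.IsColimit.hom_ext hcolW ?_,
    Cofork.IsColimit.hom_ext hcol ?_⟩
  · show z ≫ c.π.app l.left ≫ _ = z ≫ x
    rw [← Category.assoc, (sqW l).w, Category.assoc, hfac]
    simp only [xl]
    rw [← Functor.map_comp_assoc, hppG q]
    exact hxk
  · show zz l ≫ _ ≫ f = zz l ≫ D.map l.hom ≫ y
    rw [← Category.assoc, hfac]
    simp only [xl]
    rw [Category.assoc, hxkf, ← Functor.map_comp_assoc, ← Functor.map_comp,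
      show l.hom = (q ≫ m).left from ((Category.comp_id _).symm.trans (CategoryTheory.Over.w (q ≫ m))).symm,
      ← Category.assoc (zz l) (D.map _) y, (sqG (q ≫ m)).w, Category.assoc]

/-- two morphisms from a stage agreeing on the limit agree at a stage -/
theorem exists_stage_eq (hD : ∀ i, IsAlgSpace (D.obj i)) (hDa : ∀ (i j : J) (φ : i ⟶ j), IsAffineMor (D.map φ))
    (c : Cone D) (hc : IsLimit c) {i₁ : J} (hqc : IsQuasiCompactSp (D.obj i₁))
    (hqs : ∀ i, IsQuasiSeparatedSp (D.obj i)) (hX : IsAlgSpace X) (hY : IsAlgSpace Y) (f : X ⟶ Y)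
    (hf : LocP @LocallyOfFinitePresentation f) (x x' : D.obj i₁ ⟶ X) (e : x ≫ f = x' ≫ f)
    (e' : c.π.app i₁ ≫ x = c.π.app i₁ ≫ x') : ∃ (k : J) (φ : k ⟶ i₁), D.map φ ≫ x = D.map φ ≫ x' := by
  have := compactSpace_of_isQuasiCompactSp hqc
  obtain ⟨U₁, g, hU₁, hge, hgs⟩ := exists_affine_chart_of_compact (hD i₁)
  obtain ⟨W, z, G, zz, pp, L, eW, H, ra, rb, Rl, al, bl, r, cH, eR, ⟨hL⟩, -, hW, hze, hzs, hG, hpp, -,
    sqG, sqW, sqR, -, -, -, -, -, -⟩ :=
    SpDesc.exists_rel_tower D hD hDa c hc i₁ hqs g hge hgs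
  let LO : Cone G := Cone.mk W
    { app := pp
      naturality := fun j k m => (Category.id_comp _).trans (Over.OverMorphism.ext (by
        rw [Over.comp_left, hpp, hpp, Category.assoc]
        exact congrArg (eqToHom eW.symm ≫ ·) (L.w m).symm)) }
  have hLO : IsLimit ((Over.forget S).mapCone LO) := hL.ofIsoLimit (Cone.ext (eqToIso eW) fun j => by
    show L.π.app j = eqToHom eW ≫ (pp j).left
    rw [hpp, eqToHom_trans_assoc, eqToHom_refl, Category.id_comp])
  let t : CategoryTheory.Over i₁ := CategoryTheory.Over.mk (𝟙 i₁)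
  obtain ⟨k, m, hk⟩ := exists_affine_eq G LO hX hY f hf hLO (fun j => (hG j).1) hW (i := t) (zz t ≫ x) (zz t ≫ x')
    (by rw [Category.assoc, Category.assoc, e]) (by
      show (yon S).map (pp t) ≫ zz t ≫ x = (yon S).map (pp t) ≫ zz t ≫ x'
      rw [← Category.assoc, ← (sqW t).w, Category.assoc, ← Category.assoc _ (zz t) x', ← (sqW t).w, Category.assoc]
      exact congrArg (z ≫ ·) e')
  have := isLocallySurjective_of_atlas (hG k).2.1 (hG k).2.2
  obtain ⟨hcol⟩ := isColimit_of_isPullback (sqR k)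
  refine ⟨k.left, k.hom, Cofork.IsColimit.hom_ext hcol ?_⟩
  show zz k ≫ D.map k.hom ≫ x = zz k ≫ D.map k.hom ≫ x'
  rw [show k.hom = m.left from ((Category.comp_id _).symm.trans (CategoryTheory.Over.w m)).symm, ← Category.assoc,
    (sqG m).w, Category.assoc, hk, ← Category.assoc, ← (sqG m).w, Category.assoc]

end Groth.Agent.SpApprox

end
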