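import Groth.Agent.SpApprox.ImageLimMain
import Groth.Agent.SpApprox.HomLim

/-!
Morphisms between systems of scheme-theoretic images of good diagrams.
-/

set_option autoImplicit false
set_option linter.style.haveILetI false
set_option backward.isDefEq.respectTransparency false

universe u

noncomputable section

open CategoryTheory CategoryTheory.Limits AlgebraicGeometry Opposite AlgSp

namespace Groth.Agent.SpApprox

open Groth.Agent.AlgSpLib Groth.Agent.SchImg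

variable {S : Scheme.{u}}

/-- a morphism factors through a closed subspace if it does so on a schematically dominant source -/
theorem exists_factor_of_dominant {X Z Z' P : Sp S} {ξ : X ⟶ Z} (hξ : IsSchImage ξ (𝟙 Z)) (hZ : IsAlgSpace Z)
    (hP : IsAlgSpace P) (hZ' : IsAlgSpace Z') {ε : Z' ⟶ P} (hε : RepWith @IsClosedImmersion ε) (h : Z ⟶ P)
    (f : X ⟶ Z') (e : f ≫ ε = ξ ≫ h) : ∃ l : Z ⟶ Z', l ≫ ε = h := by
  have sq := IsPullback.of_hasPullback h ε
  obtain ⟨k, hk⟩ := hξ.2.2 (pullback.fst h ε) (isAlgSpace_of_isPullback_space hP hZ hZ' sq)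
    (repWith_baseChange sq.flip hε) ⟨pullback.lift ξ f e.symm, pullback.lift_fst _ _ _⟩
  exact ⟨k ≫ pullback.snd h ε, by rw [Category.assoc, ← pullback.condition, reassoc_of% hk]⟩

set_option maxHeartbeats 2000000 in
theorem exists_image_system_hom [QuasiSeparatedSpace ↥S] {I : Type u} [SmallCategory I] [IsCofiltered I]
    {D : I ⥤ Sp S} (hD : ∀ i, IsAlgSpace (D.obj i)) (hDa : ∀ (i j : I) (φ : i ⟶ j), IsAffineMor (D.map φ))
    (c : Cone D) (hc : IsLimit c) {X Y : Sp S} (hX : IsAlgSpace X) (aX : X ⟶ c.pt) (aY : Y ⟶ c.pt) (f : X ⟶ Y)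
    (hf : f ≫ aY = aX)
    {i₁ : I} {W : Sp S} (hW : IsAlgSpace W) (hWc : IsQuasiCompactSp W) (hWs : IsQuasiSeparatedSp W)
    {w : W ⟶ D.obj i₁} (bX : X ⟶ W) (hbX : bX ≫ w = aX ≫ c.π.app i₁)
    (hciX : ∀ (P : Sp S) (fst : P ⟶ c.pt) (snd : P ⟶ W), IsPullback fst snd (c.π.app i₁) w →
      ∀ k : X ⟶ P, k ≫ fst = aX → k ≫ snd = bX → RepWith @IsClosedImmersion k)
    {PX DX : Over i₁ ⥤ Sp S} {p₁ : PX ⟶ Over.forget i₁ ⋙ D} {p₂ : PX ⟶ (Functor.const (Over i₁)).obj W}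
    (hPX : ∀ j : Over i₁, IsPullback (p₁.app j) (p₂.app j) (D.map j.hom) w) {εX : DX ⟶ PX}
    (ξX : (Functor.const (Over i₁)).obj X ⟶ DX)
    (hξX : ∀ j : Over i₁, ξX.app j ≫ εX.app j ≫ p₁.app j = aX ≫ c.π.app j.left ∧ ξX.app j ≫ εX.app j ≫ p₂.app j = bX)
    (himgX : ∀ j : Over i₁, IsSchImage (ξX.app j ≫ εX.app j) (εX.app j))
    {i₂ : I} {V : Sp S} (hV : IsAlgSpace V) {v : V ⟶ D.obj i₂} (hv : LocP @LocallyOfFinitePresentation v) (bY : Y ⟶ V)
    (hbY : bY ≫ v = aY ≫ c.π.app i₂)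
    {PY DY : Over i₂ ⥤ Sp S} {q₁ : PY ⟶ Over.forget i₂ ⋙ D} {q₂ : PY ⟶ (Functor.const (Over i₂)).obj V}
    (hPY : ∀ j : Over i₂, IsPullback (q₁.app j) (q₂.app j) (D.map j.hom) v) {εY : DY ⟶ PY}
    (ξY : (Functor.const (Over i₂)).obj Y ⟶ DY)
    (hξY : ∀ j : Over i₂, ξY.app j ≫ εY.app j ≫ q₁.app j = aY ≫ c.π.app j.left ∧ ξY.app j ≫ εY.app j ≫ q₂.app j = bY)
    (hεY : ∀ j : Over i₂, RepWith @IsClosedImmersion (εY.app j)) :
    ∃ (i₀ : I) (φ₁ : i₀ ⟶ i₁) (φ₂ : i₀ ⟶ i₂) (fam : Over.map φ₁ ⋙ DX ⟶ Over.map φ₂ ⋙ DY),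
      (∀ j : Over i₀, ξX.app ((Over.map φ₁).obj j) ≫ fam.app j = f ≫ ξY.app ((Over.map φ₂).obj j)) ∧
        (∀ j : Over i₀, fam.app j ≫ εY.app ((Over.map φ₂).obj j) ≫ q₁.app ((Over.map φ₂).obj j) =
          εX.app ((Over.map φ₁).obj j) ≫ p₁.app ((Over.map φ₁).obj j)) ∧
      ∀ gam : Over.map φ₁ ⋙ DX ⟶ Over.map φ₂ ⋙ DY,
        (∀ j : Over i₀, ξX.app ((Over.map φ₁).obj j) ≫ gam.app j = f ≫ ξY.app ((Over.map φ₂).obj j)) ∧
        (∀ j : Over i₀, gam.app j ≫ εY.app ((Over.map φ₂).obj j) ≫ q₁.app ((Over.map φ₂).obj j) =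
          εX.app ((Over.map φ₁).obj j) ≫ p₁.app ((Over.map φ₁).obj j)) →
        ∃ (j₀ : I) (ψ : j₀ ⟶ i₀), ∀ j : Over j₀, fam.app ((Over.map ψ).obj j) = gam.app ((Over.map ψ).obj j) := by
  classical
  have hPX' : ∀ j, IsAlgSpace (PX.obj j) := fun j => isAlgSpace_of_isPullback_space (hD i₁) (hD j.left) hW (hPX j)
  have hPY' : ∀ j, IsAlgSpace (PY.obj j) := fun j => isAlgSpace_of_isPullback_space (hD i₂) (hD j.left) hV (hPY j)
  have hDX : ∀ j, IsAlgSpace (DX.obj j) := fun j => SchImg.isAlgSpace_of_closed (hPX' j) (himgX j).1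
  have hDY : ∀ j, IsAlgSpace (DY.obj j) := fun j => SchImg.isAlgSpace_of_closed (hPY' j) (hεY j)
  have hqq : ∀ j, IsQuasiCompactSp (DX.obj j) ∧ IsQuasiSeparatedSp (DX.obj j) := fun j =>
    SpDesc.qcqs_of_affine (hDX j) hW
      (repWith_comp (repWith_mono (fun _ _ r hr => by
        have : IsClosedImmersion r := hr
        exact (inferInstance : IsAffineHom r)) (himgX j).1)
        (repWith_baseChange (hPX j) ((isAffineMor_iff_repWith _).1 (hDa _ _ _)))) hWc hWs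
  have haff : ∀ (j k : Over i₁) (a : j ⟶ k), IsAffineMor (DX.map a) := fun j k a =>
    dx_affine hDa hD hW hPX (fun l => (himgX l).1) j k a
  obtain ⟨hlim⟩ := isLimit_image_system hD hDa c hc hW hWc hX aX bX hbX hciX hPX ξX hξX himgX
  obtain ⟨i₀', χ₁, χ₂, -⟩ := IsCofilteredOrEmpty.cone_objs i₁ i₂
  let t' : Over i₁ := Over.mk χ₁
  obtain ⟨k, m, x', hx', hx'v⟩ := exists_stage_lfp DX hDX haff (Cone.mk X ξX) hlim (i₁ := t') (hqq t').1
    (fun j => (hqq j).2) hV (hD i₂) v hv (f ≫ bY) (εX.app t' ≫ p₁.app t' ≫ D.map χ₂) (by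
      show (f ≫ bY) ≫ v = ξX.app t' ≫ _
      rw [Category.assoc, hbY, reassoc_of% hf, ← Category.assoc (εX.app t'), ← Category.assoc (ξX.app t'),
        (hξX t').1, Category.assoc]
      exact congrArg (aX ≫ ·) (c.w χ₂).symm)
  let φ₁ : k.left ⟶ i₁ := k.hom
  let φ₂ : k.left ⟶ i₂ := m.left ≫ χ₂
  let τ : ∀ j : Over k.left, (Over.map φ₁).obj j ⟶ k := fun j => Over.homMk j.hom
  have hm : DX.map m ≫ εX.app t' ≫ p₁.app t' = εX.app k ≫ p₁.app k ≫ D.map m.left := by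
    rw [← Category.assoc, εX.naturality m, Category.assoc, p₁.naturality m]
    rfl
  have hτ : ∀ j : Over k.left, DX.map (τ j) ≫ εX.app k ≫ p₁.app k =
      εX.app ((Over.map φ₁).obj j) ≫ p₁.app ((Over.map φ₁).obj j) ≫ D.map j.hom := fun j => by
    rw [← Category.assoc, εX.naturality (τ j), Category.assoc, p₁.naturality (τ j)]
    rfl
  have hcond : ∀ j : Over k.left, (εX.app ((Over.map φ₁).obj j) ≫ p₁.app ((Over.map φ₁).obj j)) ≫
      D.map ((Over.map φ₂).obj j).hom = (DX.map (τ j) ≫ x') ≫ v := fun j => by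
    rw [Category.assoc (DX.map (τ j)), hx'v, reassoc_of% hm, reassoc_of% (hτ j), Category.assoc]
    refine congrArg (fun k => εX.app _ ≫ p₁.app _ ≫ k) ?_
    exact (D.map_comp j.hom (m.left ≫ χ₂)).trans (congrArg _ (D.map_comp m.left χ₂))
  let h : ∀ j : Over k.left, DX.obj ((Over.map φ₁).obj j) ⟶ PY.obj ((Over.map φ₂).obj j) := fun j =>
    (hPY ((Over.map φ₂).obj j)).lift (εX.app _ ≫ p₁.app _) (DX.map (τ j) ≫ x') (hcond j)
  have hh₁ : ∀ j, h j ≫ q₁.app _ = εX.app _ ≫ p₁.app _ := fun j => (hPY _).lift_fst _ _ _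
  have hh₂ : ∀ j, h j ≫ q₂.app _ = DX.map (τ j) ≫ x' := fun j => (hPY _).lift_snd _ _ _
  have hh : ∀ j, (f ≫ ξY.app ((Over.map φ₂).obj j)) ≫ εY.app _ = ξX.app _ ≫ h j := fun j => by
    refine (hPY _).hom_ext ?_ ?_
    · simp only [Category.assoc]
      rw [hh₁, (hξY _).1, (hξX _).1, reassoc_of% hf]
      rfl
    · simp only [Category.assoc]
      rw [hh₂, (hξY _).2, ← Category.assoc (ξX.app _),
        show ξX.app ((Over.map φ₁).obj j) ≫ DX.map (τ j) = ξX.app k from (Cone.mk X ξX).w (τ j)]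
      exact hx'.symm
  choose l hl using fun j => exists_factor_of_dominant (isSchImage_id_of_image (himgX ((Over.map φ₁).obj j)))
    (hDX _) (hPY' _) (hDY _) (hεY ((Over.map φ₂).obj j)) (h j) _ (hh j)
  haveI : ∀ j, Mono (εY.app j) := fun j => SchImg.mono_of_closed (hεY j)
  let fam : Over.map φ₁ ⋙ DX ⟶ Over.map φ₂ ⋙ DY :=
    { app := l
      naturality := fun a b u => by
        show DX.map ((Over.map φ₁).map u) ≫ l b = l a ≫ DY.map ((Over.map φ₂).map u)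
        rw [← cancel_mono (εY.app _), Category.assoc, Category.assoc, hl, εY.naturality, reassoc_of% (hl a)]
        refine (hPY _).hom_ext ?_ ?_
        · rw [Category.assoc, Category.assoc, hh₁, q₁.naturality, reassoc_of% (hh₁ a), ← Category.assoc,
            εX.naturality, Category.assoc, p₁.naturality]
          rfl
        · rw [Category.assoc, Category.assoc, hh₂, q₂.naturality, reassoc_of% (hh₂ a), ← Category.assoc,
            ← DX.map_comp, show (Over.map φ₁).map u ≫ τ b = τ a from Over.OverMorphism.ext (Over.w u)]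
          exact congrArg (DX.map (τ a) ≫ ·) (Category.comp_id _).symm }
  refine ⟨k.left, φ₁, φ₂, fam, fun j => (cancel_mono (εY.app _)).1 ?_, fun j => ?_, fun gam hgam => ?_⟩
  · exact (Category.assoc _ _ _).trans ((congrArg _ (hl j)).trans (hh j).symm)
  · exact (reassoc_of% (hl j)) (q₁.app _) |>.trans (hh₁ j)
  let o : Over k.left := Over.mk (𝟙 k.left)
  let k' : Over i₁ := (Over.map φ₁).obj o
  have hfamX : ξX.app k' ≫ l o = f ≫ ξY.app ((Over.map φ₂).obj o) :=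
    (cancel_mono (εY.app _)).1 ((Category.assoc _ _ _).trans ((congrArg _ (hl o)).trans (hh o).symm))
  obtain ⟨e₀, q, hq⟩ := exists_stage_eq DX hDX haff (Cone.mk X ξX) hlim (i₁ := k') (hqq k').1
    (fun j => (hqq j).2) hV (hD i₂) v hv (l o ≫ εY.app _ ≫ q₂.app _) (gam.app o ≫ εY.app _ ≫ q₂.app _) (by
      have e1 : l o ≫ εY.app _ ≫ q₁.app _ = εX.app _ ≫ p₁.app _ := (reassoc_of% (hl o)) (q₁.app _) |>.trans (hh₁ o)
      have e2 := hgam.2 o
      simp only [Category.assoc]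
      rw [← (hPY _).w, reassoc_of% e1, reassoc_of% e2]) (by
      show ξX.app k' ≫ _ = ξX.app k' ≫ _
      rw [reassoc_of% hfamX]
      exact ((reassoc_of% (hgam.1 o)) _).symm)
  refine ⟨e₀.left, q.left, fun j => ?_⟩
  let jj : Over k.left := (Over.map q.left).obj j
  let u : jj ⟶ o := Over.homMk jj.hom (by exact Category.comp_id _)
  have hwq : q.left ≫ k'.hom = e₀.hom := Over.w q
  let r : (Over.map φ₁).obj jj ⟶ e₀ := Over.homMk j.hom (by
    show j.hom ≫ e₀.hom = (j.hom ≫ q.left) ≫ φ₁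
    rw [← hwq, Category.assoc]
    exact congrArg (fun k => j.hom ≫ q.left ≫ k) (Category.id_comp φ₁))
  have hr : r ≫ q = (Over.map φ₁).map u := Over.OverMorphism.ext rfl
  have key : ∀ η : Over.map φ₁ ⋙ DX ⟶ Over.map φ₂ ⋙ DY,
      η.app jj ≫ εY.app _ ≫ q₂.app _ = DX.map r ≫ DX.map q ≫ η.app o ≫ εY.app _ ≫ q₂.app _ := fun η => by
    rw [← DX.map_comp_assoc, hr]
    refine Eq.trans ?_ ((reassoc_of% (η.naturality u)) _).symm
    show η.app jj ≫ εY.app _ ≫ q₂.app _ = η.app jj ≫ DY.map ((Over.map φ₂).map u) ≫ εY.app _ ≫ q₂.app _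
    congr 1
    exact (congrArg (εY.app _ ≫ ·)
      ((q₂.naturality ((Over.map φ₂).map u)).trans (Category.comp_id _)).symm).trans
      (εY.naturality_assoc ((Over.map φ₂).map u) _).symm
  show fam.app jj = gam.app jj
  refine (cancel_mono (εY.app _)).1 ((hPY _).hom_ext ?_ ?_)
  · simp only [Category.assoc]
    exact ((reassoc_of% (hl jj)) (q₁.app _) |>.trans (hh₁ jj)).trans (hgam.2 jj).symm
  · simp only [Category.assoc]
    rw [key fam, key gam]
    exact congrArg (DX.map r ≫ ·) hq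

end Groth.Agent.SpApprox

end
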