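import Groth.Agent.SpApprox.CoverEtale
import Groth.Agent.SpDesc.SchemeStage
import Groth.Agent.EtQC.UnitIdeal
import Groth.Prelude.Def_AlgSpInf

/-!
Stratification of a qcqs space by finitely presented closed subspaces with finite étale covers over the strata.
-/

set_option autoImplicit false
set_option linter.style.haveILetI false
set_option backward.isDefEq.respectTransparency false
set_option backward.isDefEq.respectTransparency.types false

universe u

noncomputable section

open CategoryTheory CategoryTheory.Limits AlgebraicGeometry Opposite AlgSp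

namespace Groth.Agent.SpApprox

open Groth.Agent.AlgSpLib Groth.Agent.RelNorm

variable {S : Scheme.{u}}

theorem closed_finite {A B : Sp S} {z : A ⟶ B} (hz : RepWith @IsClosedImmersion z) : RepWith @IsFinite z :=
  repWith_mono (fun _ _ r hr => by
    have : IsClosedImmersion r := hr
    show IsFinite r
    infer_instance) hz

theorem closed_qcqs {A : Sp S} {X : Space S} {z : A ⟶ X.obj} (hA : IsAlgSpace A)
    (hz : RepWith @IsClosedImmersion z) (hqc : IsQuasiCompactSp X.obj) (hqs : IsQuasiSeparatedSp X.obj) :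
    IsQuasiCompactSp A ∧ IsQuasiSeparatedSp A :=
  SpDesc.qcqs_of_affine hA X.property (a := z) (repWith_mono (P := @IsClosedImmersion) (Q := @IsAffineHom)
    (fun _ _ r hr => have : IsClosedImmersion r := hr; inferInstance) hz) hqc hqs

/-- configurations restrict to closed subspaces -/
theorem exists_conf_closed {X Z : Sp S} {z : Z ⟶ X} (hz : RepWith @IsClosedImmersion z) {W W' : Over S}
    [IsAffine W.left] {π : (yon S).obj W ⟶ X} {π' : (yon S).obj W' ⟶ Z} {w : W' ⟶ W}
    (sqW : IsPullback π' ((yon S).map w) z π) (hπq : RepWith @QuasiCompact π) {p : ℕ} (c : SpQS.Conf π p) :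
    ∃ c' : SpQS.Conf π' p, c'.pts = Points.map z ⁻¹' c.pts := by
  obtain ⟨C', a', cz, sqC, hcz⟩ := exists_repWith hz ((yon S).map (c.pr 0) ≫ π)
  have hp : ∀ i, ∃ p' : C' ⟶ W', (yon S).map p' ≫ π' = a' ∧ p' ≫ w = cz ≫ c.pr i := fun i => by
    obtain ⟨p', hp'⟩ := exists_map_eq (sqW.lift a' ((yon S).map (cz ≫ c.pr i)) (by
      rw [Functor.map_comp, Category.assoc, c.comm i]
      exact sqC.w))
    exact ⟨p', by rw [hp', sqW.lift_fst], (yon S).map_injective (by rw [Functor.map_comp, hp', sqW.lift_snd])⟩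
  choose pr' hpr₁ hpr₂ using hp
  have sq0 : IsPullback cz.left (pr' 0).left (c.pr 0).left w.left := by
    refine (isPullback_yon_iff.1 ?_).flip
    exact IsPullback.of_right (by rw [hpr₁]; exact sqC) (by rw [← Functor.map_comp, ← Functor.map_comp, hpr₂]) sqW
  refine ⟨{ C := C', pr := pr', comm := fun i => by rw [hpr₁, hpr₁], ne := ?_, desc := ?_, ext := ?_,
            etale := ?_, sep := ?_, compact := ?_ }, ?_⟩
  · intro i i' h K _ k e
    refine c.ne i i' h K (k ≫ cz.left) ?_
    rw [Category.assoc, Category.assoc, ← Over.comp_left, ← Over.comp_left, ← hpr₂, ← hpr₂, Over.comp_left,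
      Over.comp_left, reassoc_of% e]
  · intro T a ha hne
    obtain ⟨l, hl⟩ := c.desc (fun i => a i ≫ w) (fun i => by
      rw [Functor.map_comp, Functor.map_comp, Category.assoc, Category.assoc, ← sqW.w, ← Category.assoc, ha i,
        Category.assoc]) fun i i' h K _ k e => by
      let K' : Over S := Over.mk (k ≫ T.hom)
      let k' : K' ⟶ T := Over.homMk k rfl
      have e₁ : k' ≫ a i ≫ w = k' ≫ a i' ≫ w := Over.OverMorphism.ext e
      have e₂ : k' ≫ a i = k' ≫ a i' := (yon S).map_injective (sqW.hom_ext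
        (by rw [Functor.map_comp, Functor.map_comp, Category.assoc, Category.assoc, ha i, ha i'])
        (by rw [← Functor.map_comp, ← Functor.map_comp, Category.assoc, Category.assoc, e₁]))
      exact hne i i' h K k (congrArg (fun m => m.left) e₂)
    obtain ⟨m, hm⟩ := exists_map_eq (sqC.lift ((yon S).map (a 0) ≫ π') ((yon S).map l) (by
      rw [Category.assoc, sqW.w, ← Functor.map_comp_assoc, ← hl, Functor.map_comp, Category.assoc]))
    refine ⟨m, fun i => (yon S).map_injective (sqW.hom_ext ?_ ?_)⟩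
    · rw [Functor.map_comp, Category.assoc, hpr₁, hm, sqC.lift_fst]
      exact (ha i).symm
    · rw [← Functor.map_comp, ← Functor.map_comp, Category.assoc, hpr₂, ← hl i, Functor.map_comp, Functor.map_comp,
        Functor.map_comp, ← Category.assoc, hm, sqC.lift_snd]
  · intro T l l' h
    refine (yon S).map_injective (sqC.hom_ext ?_ ?_)
    · rw [← hpr₁ 0, ← Functor.map_comp_assoc, ← Functor.map_comp_assoc, h 0]
    · rw [← Functor.map_comp, ← Functor.map_comp]
      refine congrArg _ (c.ext _ _ fun i => ?_)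
      rw [Category.assoc, Category.assoc, ← hpr₂ i, reassoc_of% h i]
  · exact MorphismProperty.of_isPullback (P := @Etale) sq0 c.etale
  · exact MorphismProperty.of_isPullback (P := @IsSeparated) sq0 c.sep
  · intro _
    haveI := c.compact hπq
    haveI : IsClosedImmersion cz.left := hcz
    exact QuasiCompact.compactSpace_of_compactSpace cz.left
  · ext x
    show x ∈ Set.range (Points.ofPt ((yon S).map (pr' 0) ≫ π')) ↔ _
    rw [hpr₁]
    constructor
    · rintro ⟨t, rfl⟩
      exact ⟨cz.left t, by rw [Points.map_ofPt, sqC.w]; exact (ofPt_comp cz _ t).symm⟩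
    · rintro ⟨t, ht⟩
      obtain ⟨r, h₁, -⟩ := exists_point_of_isPullback sqC x (Points.ofScheme c.C t)
        (by rw [← Points.ofPt_eq_map_ofScheme, ht])
      obtain ⟨r, rfl⟩ := (Points.schemeEquiv C').surjective r
      exact ⟨r, by rw [← h₁]; exact Points.ofPt_eq_map_ofScheme _ _⟩

/-- on a space where the stratum is open, a finite finitely presented cover that is finite étale over it -/
theorem exists_cover_stratum [QuasiSeparatedSpace ↥S] {X : Space S} (hqc : IsQuasiCompactSp X.obj)
    (hqs : IsQuasiSeparatedSp X.obj) {W : Over S} [IsAffine W.left] {π : (yon S).obj W ⟶ X.obj}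
    (hπe : RepWith @Etale π) (hπs : RepWith @Surjective π) {q : ℕ} (c : SpQS.Conf π q) (c' : SpQS.Conf π (q + 1))
    (hc' : c'.pts = ∅) (hO : IsCompact c.pts)
    (R : Space S) (r : R ⟶ X) (hr : RepWith @IsClosedImmersion r.hom) (hrr : Set.range (Points.map r.hom) = c.ptsᶜ) :
    ∃ (Y : Over S) (g : (yon S).obj Y ⟶ X.obj), IsFiniteMor g ∧ IsSurjectiveMor g ∧ IsFinitePresentationMor g ∧
      ∀ (W' : Space S) (j : W' ⟶ X), RepWith @IsOpenImmersion j.hom → Set.range (Points.map j.hom) = c.pts →
        ∀ (P : Sp S) (fst : P ⟶ (yon S).obj Y) (snd : P ⟶ W'.obj), IsPullback fst snd g j.hom →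
          IsFiniteMor snd ∧ IsEtaleMor snd := by
  classical
  obtain ⟨hA⟩ : Nonempty (IsAlgSpace X.obj) := ⟨X.property⟩
  have hqX : ∀ (T : Over S) (a : (yon S).obj T ⟶ X.obj), CompactSpace ↥T.left → RepWith @QuasiCompact a :=
    fun T a hT => (isQuasiCompactMor_iff_repWith (IsAlgSpace.yon_obj T) hA
      (Functor.relativelyRepresentable.of_diag hA.diag a)).1
      (SpQS.isQuasiCompactMor_of_qc_qs (IsAlgSpace.yon_obj T) hA a (isQuasiCompactSp_yon T) hqs)
  have hπq : RepWith @QuasiCompact π := hqX W π inferInstance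
  have hOo := c.isOpen_pts hπe
  have hd : Disjoint c.pts c'.pts := by rw [hc']; exact Set.disjoint_empty _
  obtain ⟨hOi, hOs⟩ := repWith_qc_subInc hA hqs hOo hO
  have hOA := isAlgSpace_subSheaf hA hOo
  haveI := c.compact hπq
  obtain ⟨T, ι', e, hT, hιo, hef, hee, hes, hfac⟩ :=
    exists_finite_etale_of_stratum hA hπe c c' hOo subset_rfl hd hqX inferInstance hOi
  let g : (yon S).obj T ⟶ X.obj := e ≫ subInc c.pts
  have hgq : RepWith @QuasiCompact g := hqX T g hT
  have hsep : RepWith @IsSeparated g :=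
    repWith_comp (repWith_mono (fun _ _ r (hr : IsFinite r) => (inferInstance : IsSeparated r)) hef)
      (repWith_mono (fun _ _ r (hr : IsOpenImmersion r) => (inferInstance : IsSeparated r)) (repWith_subInc hOo))
  have hqsep := repWith_mono (fun _ _ r (hr : IsSeparated r) => (inferInstance : QuasiSeparated r)) hsep
  have hcomm : ∀ i, (yon S).map (ι' ≫ c.pr i) ≫ π = g := fun i => by
    rw [Functor.map_comp, Category.assoc, c.comm i, ← hfac]
  haveI := hιo
  obtain ⟨Yb, gb, f', hn, hint, -, hsup, -⟩ := exists_normalization_of_sheets hA hπe hπs hπq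
    (fun i => ι' ≫ c.pr i) (g := g) hgq hqsep hcomm
    (fun i j h => (c.ne i j h).comp ι'.left)
    (all_sheets c c' ι' hcomm fun t h => by rw [hc'] at h; exact h)
  have sT := isPullback_of_normalization hOA hA (IsAlgSpace.yon_obj T) (IsAlgSpace.yon_obj Yb) (subInc c.pts)
    (repWith_subInc hOo) e
    ((isIntegralMor_iff_repWith _).2 (repWith_mono (fun _ _ r (hr : IsFinite r) => (inferInstance : IsIntegralHom r)) hef))
    (g := g) rfl ((isQuasiCompactMor_iff_repWith (IsAlgSpace.yon_obj T) hA hgq.1).2 hgq)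
    ((isQuasiSeparatedMor_iff_repWith (IsAlgSpace.yon_obj T) hA hsep.1).2 hqsep) hn
  -- the closed rest
  obtain ⟨hRc, hRs⟩ := closed_qcqs R.property hr hqc hqs
  obtain ⟨U, b, hbe, hbs⟩ := R.property.atlas
  obtain ⟨Ya, ga₀, hga₀, hga₀s, -⟩ := exists_integral_cover R hRc hRs b hbe hbs
  let ga := ga₀ ≫ r.hom
  have hga : RepWith @IsIntegralHom ga := repWith_comp hga₀ (repWith_mono (fun _ _ m hm => by
    have : IsClosedImmersion m := hm
    show IsIntegralHom m
    infer_instance) hr)
  let Yc : ULift.{u} Bool → Over S := fun i => if i.down then Yb else Ya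
  obtain ⟨Y₁, g₁, j₁, hg₁, hj₁o, hj₁g, hj₁cov⟩ := exists_sigma_integral hA
    (fun i : ULift.{u} Bool => Bool.rec Ya Yb i.down)
    (fun i => Bool.rec (motive := fun b => (yon S).obj (Bool.rec Ya Yb b) ⟶ X.obj) ga gb i.down) (fun i => by
      rcases i with ⟨_ | _⟩
      · exact hga
      · exact hint)
  have hg₁s : IsSurjectiveMor g₁ := isSurjectiveMor_of_ofPt_surjective fun x => by
    have hmk : ∀ (i : ULift.{u} Bool) (y : (Bool.rec Ya Yb i.down : Over S).left),
        Points.ofPt g₁ ((j₁ i).left y) = Points.ofPt (Bool.rec (motive := fun b => (yon S).obj (Bool.rec Ya Yb b) ⟶ X.obj) ga gb i.down) y :=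
      fun i y => by rw [← ofPt_comp, hj₁g]
    by_cases hx : x ∈ c.pts
    · obtain ⟨x', rfl⟩ := (range_subInc c.pts).symm.subset hx
      obtain ⟨t, rfl⟩ := ofPt_surjective hes x'
      obtain ⟨y, hy⟩ := hsup ⟨t, rfl⟩
      exact ⟨_, (hmk ⟨true⟩ y).trans (hy.trans (Points.map_ofPt _ _ _).symm)⟩
    · obtain ⟨x', rfl⟩ := hrr.ge hx
      obtain ⟨y, rfl⟩ := ofPt_surjective hga₀s x'
      exact ⟨_, (hmk ⟨false⟩ y).trans (Points.map_ofPt _ _ _).symm⟩
  have sqV := IsPullback.of_hasPullback g₁ (subInc c.pts)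
  obtain ⟨hPF, hPE⟩ := repWith_finite_etale_of_pieces (subInc c.pts) hg₁.1 hg₁ j₁ hj₁o hj₁cov (fun i => by
    rw [hj₁g i]
    rcases i with ⟨_ | _⟩
    · intro P fst snd sq
      refine repWith_finite_etale_of_isEmpty snd (repWith_baseChange sq hga).1 fun T' zz => ⟨fun t => ?_⟩
      obtain ⟨l, hl⟩ : ∃ l : T' ⟶ Ya, (yon S).map l = zz ≫ fst := exists_map_eq _
      have h1 : Points.ofPt ((yon S).map l ≫ ga) t ∈ c.pts := by
        have e' : (yon S).map l ≫ ga = (zz ≫ snd) ≫ subInc c.pts := by
          rw [hl, Category.assoc, Category.assoc]; exact congrArg (zz ≫ ·) sq.w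
        rw [e']
        exact ofPt_subInc_mem _ t
      rw [ofPt_comp] at h1
      exact hrr.le ⟨Points.ofPt ga₀ (l.left t), Points.map_ofPt _ _ _⟩ h1
    · intro P fst snd sq
      rw [← sq.isoIsPullback_hom_snd _ _ sT]
      exact ⟨(repWith_iso_comp_iff _ _).2 hef, (repWith_iso_comp_iff _ _).2 hee⟩) sqV
  let Y₁' : Space S := ⟨(yon S).obj Y₁, IsAlgSpace.yon_obj Y₁⟩
  let f : Y₁' ⟶ X := ObjectProperty.homMk g₁
  obtain ⟨I, _, hdir, hne, D, t, cc, hcc, ee, hD, hDa, ht, hcomp, hiso⟩ :=
    exists_limit_finite_iso f ((isIntegralMor_iff_repWith _).2 hg₁) hqc hqs hOA (repWith_subInc hOo) hOs sqV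
      ((isFiniteMor_iff_repWith _).2 hPF) ((locP_iff_repWith etST_lfp hOA hPE.1).2 (repWith_mono
        (fun _ _ r hr => by
          have : Etale r := hr
          show LocallyOfFinitePresentation r
          infer_instance) hPE))
  haveI := hdir
  haveI := hne
  haveI : IsCofiltered Iᵒᵖ := inferInstance
  have hDq : ∀ l, IsQuasiCompactSp (D.obj l) ∧ IsQuasiSeparatedSp (D.obj l) := fun l =>
    SpDesc.qcqs_of_affine (hD l) X.property (a := t.app l) (repWith_mono (P := @IsFinite) (Q := @IsAffineHom)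
      (fun _ _ r hr => have : IsFinite r := hr; inferInstance) ((isFiniteMor_iff_repWith _).1 (ht l).1)) hqc hqs
  obtain ⟨i₀, W₀, ⟨e₀⟩⟩ := SpDesc.exists_representable_stage D hD hDa (fun l => (hDq l).1) (fun l => (hDq l).2) cc hcc ee.symm
  have hF : RepWith @IsFinite (e₀.inv ≫ t.app i₀) :=
    (repWith_iso_comp_iff e₀.inv _).2 ((isFiniteMor_iff_repWith _).1 (ht i₀).1)
  have hlfp : RepWith @LocallyOfFinitePresentation (e₀.inv ≫ t.app i₀) := (repWith_iso_comp_iff e₀.inv _).2
    ((locP_iff_repWith etST_lfp X.property ((isFiniteMor_iff_repWith _).1 (ht i₀).1).1).1 (ht i₀).2.1)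
  refine ⟨W₀, e₀.inv ≫ t.app i₀, (isFiniteMor_iff_repWith _).2 hF, fun x => ?_,
    ⟨(locP_iff_repWith etST_lfp X.property hF.1).2 hlfp,
      (isQuasiCompactMor_iff_repWith (IsAlgSpace.yon_obj _) X.property hF.1).2 (repWith_mono (P := @IsFinite)
        (Q := @QuasiCompact) (fun _ _ r hr => have : IsFinite r := hr; inferInstance) hF),
      (isQuasiSeparatedMor_iff_repWith (IsAlgSpace.yon_obj _) X.property hF.1).2 (repWith_mono (P := @IsFinite)
        (Q := @QuasiSeparated) (fun _ _ r hr => have : IsFinite r := hr; inferInstance) hF)⟩,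
    fun W' j hj hjr P fst snd sq => ?_⟩
  · obtain ⟨y, rfl⟩ := hg₁s x
    exact ⟨Points.map (ee.inv ≫ cc.π.app i₀ ≫ e₀.hom) y, by
      rw [← Points.map_comp]
      congr 1
      rw [Category.assoc, Category.assoc, Iso.hom_inv_id_assoc, hcomp]
      rfl⟩
  · haveI : Mono j.hom := mono_of_repWith_immersion (repWith_mono (P := @IsOpenImmersion) (Q := @IsImmersion)
      (fun _ _ r hr => by
        have : IsOpenImmersion r := hr
        infer_instance) hj)
    haveI : Mono (subInc c.pts) := mono_of_repWith_immersion (repWith_mono (P := @IsOpenImmersion) (Q := @IsImmersion)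
      (fun _ _ r hr => by
        have : IsOpenImmersion r := hr
        infer_instance) (repWith_subInc hOo))
    obtain ⟨a, ha⟩ := (exists_factor_iff hOA hA (subInc c.pts) (repWith_subInc hOo) j.hom).2 (by
      rw [range_subInc, hjr])
    obtain ⟨a', ha'⟩ := (exists_factor_iff W'.property hA j.hom hj (subInc c.pts)).2 (by
      rw [range_subInc, hjr])
    let i : W'.obj ≅ subSheaf c.pts := ⟨a, a', (cancel_mono j.hom).1 (by rw [Category.assoc, ha', ha, Category.id_comp]),
      (cancel_mono (subInc c.pts)).1 (by rw [Category.assoc, ha, ha', Category.id_comp])⟩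
    have sq' : IsPullback (fst ≫ e₀.inv) (snd ≫ i.hom) (t.app i₀) (subInc c.pts) := by
      refine IsPullback.of_iso sq (Iso.refl _) e₀.symm i (Iso.refl _) ?_ ?_ ?_ ?_ <;> simp [i, ha]
    have hw : (pullback.fst g₁ (subInc c.pts) ≫ ee.inv ≫ cc.π.app i₀) ≫ t.app i₀ =
        pullback.snd g₁ (subInc c.pts) ≫ subInc c.pts := by
      rw [Category.assoc, Category.assoc, hcomp]
      exact pullback.condition
    have : IsIso (sq'.lift _ _ hw) := hiso i₀ P _ (snd ≫ i.hom) sq' _ (sq'.lift_fst _ _ _) (sq'.lift_snd _ _ _)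
    haveI := i.isIso_inv
    haveI := i.isIso_hom
    rw [show snd = (inv (sq'.lift _ _ hw) ≫ pullback.snd g₁ (subInc c.pts)) ≫ i.inv by
      rw [Iso.eq_comp_inv, IsIso.eq_inv_comp, sq'.lift_snd]]
    exact ⟨(isFiniteMor_iff_repWith _).2 ((repWith_comp_iso_iff _ _).2 ((repWith_iso_comp_iff _ _).2 hPF)),
      isEtaleMor_of_repWith' ((repWith_comp_iso_iff _ _).2 ((repWith_iso_comp_iff _ _).2 hPE))⟩

theorem lfp_of_isCutOutBy {X : Space S} (hqc : IsQuasiCompactSp X.obj) {I : IdealEt X.obj}
    (hfg : ∀ (E : EtOver X.obj) (hE : IsAffine E.obj.left.left), (I.ideal E hE).FG) {Z : Space S} {i : Z ⟶ X}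
    (hi : IsCutOutBy I i.hom) : LocP @LocallyOfFinitePresentation i.hom := by
  obtain ⟨hic, hI⟩ := hi
  haveI := compactSpace_of_isQuasiCompactSp hqc
  obtain ⟨U, π, hU, hπe, hπs⟩ := exists_affine_chart_of_compact X.property
  let E : EtOver X.obj := EtOver.mk π hπe
  have hE : IsAffine E.obj.left.left := hU
  obtain ⟨K, hK⟩ := SchImg.exists_pullIdeal hic π
  have hKI : K.ideal ⟨⊤, @isAffineOpen_top _ hU⟩ = I.ideal E hE :=
    ((congrArg (fun I' : IdealEt X.obj => I'.ideal E hE) hI).symm.trans (SchImg.idealOfRep_eq hic E hE hK)).symm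
  obtain ⟨W, w, v, sq, -, hv, -⟩ := exists_chart_closed hic hK (by rw [hKI]; exact hfg E hE)
  exact locP_of_chart etST_lfp Z.property X.property (repWith_baseChange sq.flip hπe)
    (repWith_baseChange sq.flip hπs) hπe sq.w hv

theorem exists_stratification [QuasiSeparatedSpace ↥S] (X : Space S) (hqc : IsQuasiCompactSp X.obj)
    (hqs : IsQuasiSeparatedSp X.obj) :
    ∃ (t : ℕ) (Z : Fin (t + 1) → Space S) (z : ∀ k, Z k ⟶ X),
      (∀ k, RepWith @IsClosedImmersion (z k).hom ∧ IsFinitePresentationMor (z k).hom) ∧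
      (∀ k l : Fin (t + 1), k ≤ l → Set.range (Points.map (z l).hom) ⊆ Set.range (Points.map (z k).hom)) ∧
      IsThickMor (z 0).hom ∧ IsEmpty (Points (Z (Fin.last t)).obj) ∧
      ∀ k : Fin t, ∃ (Y : Over S) (g : (yon S).obj Y ⟶ (Z k.castSucc).obj),
        IsFiniteMor g ∧ IsSurjectiveMor g ∧ IsFinitePresentationMor g ∧
        ∀ (W : Space S) (j : W ⟶ Z k.castSucc), RepWith @IsOpenImmersion j.hom →
          Set.range (Points.map (j ≫ z k.castSucc).hom) =
            Set.range (Points.map (z k.castSucc).hom) \ Set.range (Points.map (z k.succ).hom) →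
          ∀ (P : Sp S) (fst : P ⟶ (yon S).obj Y) (snd : P ⟶ W.obj), IsPullback fst snd g j.hom →
            IsFiniteMor snd ∧ IsEtaleMor snd := by
  classical
  obtain ⟨hA⟩ : Nonempty (IsAlgSpace X.obj) := ⟨X.property⟩
  haveI := compactSpace_of_isQuasiCompactSp hqc
  obtain ⟨W, π, hW, hπe, hπs⟩ := exists_affine_chart_of_compact hA
  have hqX : ∀ (T : Over S) (a : (yon S).obj T ⟶ X.obj), CompactSpace ↥T.left → RepWith @QuasiCompact a :=
    fun T a hT => (isQuasiCompactMor_iff_repWith (IsAlgSpace.yon_obj T) hA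
      (Functor.relativelyRepresentable.of_diag hA.diag a)).1
      (SpQS.isQuasiCompactMor_of_qc_qs (IsAlgSpace.yon_obj T) hA a (isQuasiCompactSp_yon T) hqs)
  have hπq : RepWith @QuasiCompact π := hqX W π inferInstance
  let cs : ∀ p, SpQS.Conf π p := fun p => (SpQS.exists_conf hA hπe p).some
  obtain ⟨n, hn⟩ := exists_pts_bound hA hπe hπs hπq hqX cs
  have hc : ∀ p, IsCompact (cs p).pts := fun p => by
    haveI := (cs p).compact hπq
    exact isCompact_range (Points.continuous_ofPt _)
  have hZ : ∀ p, ∃ (Z : Space S) (z : Z ⟶ X), RepWith @IsClosedImmersion z.hom ∧ IsFinitePresentationMor z.hom ∧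
      Set.range (Points.map z.hom) = (cs p).ptsᶜ := fun p => by
    have ho := (cs p).isOpen_pts hπe
    obtain ⟨I, -, hfg, Z, z, hz, hr⟩ := EtQC.exists_ftIdeal_compl X ⟨_, isAlgSpace_subSheaf hA ho⟩ hqc hqs
      (subInc (cs p).pts) (repWith_subInc ho) (repWith_qc_subInc hA hqs ho (hc p)).2
    refine ⟨Z, z, hz.1, ⟨lfp_of_isCutOutBy hqc hfg hz,
      (isQuasiCompactMor_iff_repWith Z.property hA hz.1.1).2 (repWith_mono (P := @IsClosedImmersion) (Q := @QuasiCompact)
        (fun _ _ r hr => have : IsClosedImmersion r := hr; inferInstance) hz.1),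
      (isQuasiSeparatedMor_iff_repWith Z.property hA hz.1.1).2 (repWith_mono (P := @IsClosedImmersion) (Q := @QuasiSeparated)
        (fun _ _ r hr => have : IsClosedImmersion r := hr; inferInstance) hz.1)⟩, ?_⟩
    rw [hr, range_subInc]
  choose Zp zp hzc hzf hzr using hZ
  have hsub : ∀ {a b}, a ≤ b → (cs b).pts ⊆ (cs a).pts := fun {a b} h => by
    induction h with
    | refl => exact subset_rfl
    | @step m _ ih => exact ((cs m).pts_mono (cs (m + 1))).trans ih
  refine ⟨n, fun k => Zp (n - k.1), fun k => zp (n - k.1), fun k => ⟨hzc _, hzf _⟩, fun k l hkl => ?_, ?_, ?_, fun k => ?_⟩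
  · rw [hzr, hzr]
    exact Set.compl_subset_compl.2 (hsub (Nat.sub_le_sub_left hkl n))
  · have h : Set.range (Points.map (zp (n - (0 : Fin (n + 1)).1)).hom) = Set.univ := by
      rw [hzr, Fin.val_zero, Nat.sub_zero, hn, Set.compl_empty]
    exact ⟨(hzc _).1, fun a b g fst snd sq => ⟨(hzc _).2 g fst snd sq,
      (repWith_surjective_of_isSurjectiveMor (hzc _).1 (fun x => h.ge (Set.mem_univ x))).2 g fst snd sq⟩⟩
  · refine ⟨fun x => ?_⟩
    have : Points.map (zp (n - (Fin.last n).1)).hom x ∈ (cs (n - (Fin.last n).1)).ptsᶜ :=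
      (hzr _).le ⟨x, rfl⟩
    have h0 : (cs (n - (Fin.last n).1)).pts = Set.univ := by
      rw [Fin.val_last, Nat.sub_self]
      exact (cs 0).pts_zero hπs
    exact this (h0.ge trivial)
  · have hk : n - k.castSucc.1 = (n - k.1 - 1) + 1 := by
      have := k.2
      simp only [Fin.val_castSucc]
      omega
    have hk' : n - k.succ.1 = n - k.1 - 1 := by simp only [Fin.val_succ]; omega
    let Z := Zp (n - k.castSucc.1)
    let z := zp (n - k.castSucc.1)
    obtain ⟨hZc, hZs⟩ := closed_qcqs Z.property (hzc _) hqc hqs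
    obtain ⟨W', π', w, sqW, hw⟩ := exists_repWith (hzc (n - k.castSucc.1)) π
    haveI : IsClosedImmersion w.left := hw
    haveI : IsAffine W'.left := isAffine_of_isAffineHom w.left
    obtain ⟨c, hcp⟩ := exists_conf_closed (hzc (n - k.castSucc.1)) sqW hπq (cs (n - k.1 - 1))
    obtain ⟨c', hc'p⟩ := exists_conf_closed (hzc (n - k.castSucc.1)) sqW hπq (cs (n - k.1 - 1 + 1))
    have hc'e : c'.pts = ∅ := Set.eq_empty_iff_forall_notMem.2 fun x hx => by
      rw [hc'p] at hx
      have : Points.map z.hom x ∈ (cs (n - k.castSucc.1)).ptsᶜ := (hzr _).le ⟨x, rfl⟩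
      have e' : (cs (n - k.castSucc.1)).pts = (cs (n - k.1 - 1 + 1)).pts := by rw [hk]
      exact this (e'.ge hx)
    have hcc : IsCompact c.pts := by
      rw [hcp]
      exact SpQS.isCompact_preimage hA (hzf _).2.1 _ ((cs _).isOpen_pts hπe) (hc _)
    have sqR := IsPullback.of_hasPullback z.hom (zp (n - k.succ.1)).hom
    let R : Space S := ⟨_, isAlgSpace_of_isPullback_space hA Z.property (Zp (n - k.succ.1)).property sqR⟩
    obtain ⟨Y, g, h1, h2, h3, h4⟩ := exists_cover_stratum hZc hZs (repWith_baseChange sqW.flip hπe)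
      (repWith_baseChange sqW.flip hπs) c c' hc'e hcc R (ObjectProperty.homMk (pullback.fst _ _))
      (repWith_baseChange sqR.flip (hzc _)) (by
        show Set.range (Points.map (pullback.fst z.hom (zp (n - k.succ.1)).hom)) = _
        rw [range_map_of_isPullback sqR.flip, hzr, hk', hcp]
        rfl)
    refine ⟨Y, g, h1, h2, h3, fun V j hj hjr P fst snd sq => h4 V j hj ?_ P fst snd sq⟩
    haveI : Mono z.hom := SchImg.mono_of_closed (hzc _)
    have hinj : Function.Injective (Points.map z.hom) := (immersion_topology hA (repWith_mono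
      (P := @IsClosedImmersion) (Q := @IsImmersion) (fun _ _ r hr => by
        have : IsClosedImmersion r := hr
        infer_instance) (hzc _))).1.injective
    apply Set.image_injective.2 hinj
    rw [← Set.range_comp, show Points.map z.hom ∘ Points.map j.hom = Points.map (j ≫ z).hom from
      funext fun x => (Points.map_comp _ _ _).symm, hjr, hcp, Set.image_preimage_eq_inter_range, hzr (n - k.succ.1),
      hk', Set.sdiff_eq, compl_compl, Set.inter_comm]

end Groth.Agent.SpApprox

end
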