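import Groth.Agent.AlgSpLib.Subspace
import Groth.Prelude.Def_AlgSp4
import Mathlib.CategoryTheory.Limits.Final
import Mathlib.CategoryTheory.Comma.Over.Basic

/-!
The pullback of a tower along a map into one of its members.
-/

set_option autoImplicit false
set_option linter.style.haveILetI false
set_option backward.isDefEq.respectTransparency false

universe u

noncomputable section

open CategoryTheory CategoryTheory.Limits AlgebraicGeometry AlgSp

namespace Groth.Agent.SpApprox

open Groth.Agent.AlgSpLib

variable {S : Scheme.{u}} {I : Type u} [SmallCategory I] [IsCofiltered I] (D : I ⥤ Sp S) {i₁ : I} {A : Sp S}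
  (a : A ⟶ D.obj i₁)

/-- members over `i₁` pulled back along `a` -/
def pullTower : Over i₁ ⥤ Sp S where
  obj l := pullback (D.map l.hom) a
  map {j k} φ := pullback.map _ _ _ _ (D.map φ.left) (𝟙 A) (𝟙 _) (by
    rw [Category.comp_id, ← D.map_comp, Over.w φ]) (by simp)
  map_id j := by apply pullback.hom_ext <;> simp
  map_comp φ ψ := by apply pullback.hom_ext <;> simp

/-- each transition is a base change -/
theorem isPullback_pullTower {j k : Over i₁} (φ : j ⟶ k) :
    IsPullback (pullback.fst (D.map j.hom) a) ((pullTower D a).map φ) (D.map φ.left) (pullback.fst (D.map k.hom) a) := by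
  have h1 : (pullTower D a).map φ ≫ pullback.snd (D.map k.hom) a = pullback.snd (D.map j.hom) a :=
    (pullback.lift_snd _ _ _).trans (Category.comp_id _)
  refine IsPullback.of_bot ?_ (pullback.lift_fst _ _ _).symm
    ((IsPullback.of_hasPullback (D.map k.hom) a))
  rw [h1, ← D.map_comp, Over.w φ]
  exact IsPullback.of_hasPullback (D.map j.hom) a

theorem repWith_pullTower {P : MorphismProperty Scheme.{u}} [P.IsStableUnderBaseChange]
    (h : ∀ (i j : I) (φ : i ⟶ j), RepWith P (D.map φ)) (j k : Over i₁) (φ : j ⟶ k) :
    RepWith P ((pullTower D a).map φ) :=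
  repWith_baseChange (isPullback_pullTower D a φ) (h _ _ φ.left)

variable (c : Cone D) {U : Sp S} {u : U ⟶ c.pt} {q : U ⟶ A}

/-- the pullback of the limit is a cone over the pulled back tower -/
def pullTowerCone (sq : IsPullback u q (c.π.app i₁) a) : Cone (pullTower D a) where
  pt := U
  π :=
  { app := fun l => pullback.lift (u ≫ c.π.app l.left) q (by rw [Category.assoc, c.w, sq.w])
    naturality := fun j k φ => by
      have h1 : (pullTower D a).map φ ≫ pullback.fst (D.map k.hom) a = pullback.fst (D.map j.hom) a ≫ D.map φ.left :=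
        pullback.lift_fst _ _ _
      have h2 : (pullTower D a).map φ ≫ pullback.snd (D.map k.hom) a = pullback.snd (D.map j.hom) a :=
        (pullback.lift_snd _ _ _).trans (Category.comp_id _)
      refine (Category.id_comp _).trans (pullback.hom_ext ?_ ?_)
      · refine (pullback.lift_fst _ _ _).trans (Eq.symm ?_)
        refine (Category.assoc _ _ _).trans ((congrArg (_ ≫ ·) h1).trans ?_)
        refine (pullback.lift_fst_assoc _ _ _ _).trans ?_
        rw [Category.assoc, c.w]
      · refine (pullback.lift_snd _ _ _).trans (Eq.symm ?_)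
        exact (Category.assoc _ _ _).trans ((congrArg (_ ≫ ·) h2).trans (pullback.lift_snd _ _ _)) }

theorem isLimit_pullTowerCone (hc : IsLimit c) (sq : IsPullback u q (c.π.app i₁) a) :
    Nonempty (IsLimit (pullTowerCone D a c sq)) := by
  let hco := (Functor.Initial.isLimitWhiskerEquiv (Over.forget i₁) c).symm hc
  let t : Over i₁ := Over.mk (𝟙 i₁)
  have hnat : ∀ (s : Cone (pullTower D a)) {j k : Over i₁} (φ : j ⟶ k),
      (s.π.app j ≫ pullback.fst (D.map j.hom) a) ≫ D.map φ.left = s.π.app k ≫ pullback.fst (D.map k.hom) a ∧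
      s.π.app j ≫ pullback.snd (D.map j.hom) a = s.π.app k ≫ pullback.snd (D.map k.hom) a := fun s j k φ => by
    rw [← s.w φ, Category.assoc, Category.assoc, Category.assoc]
    exact ⟨congrArg (s.π.app j ≫ ·) (pullback.lift_fst _ _ _).symm,
      congrArg (s.π.app j ≫ ·) ((pullback.lift_snd _ _ _).trans (Category.comp_id _)).symm⟩
  let sT : ∀ (s : Cone (pullTower D a)), Cone (Over.forget i₁ ⋙ D) := fun s =>
    { pt := s.pt
      π :=
      { app := fun l => s.π.app l ≫ pullback.fst (D.map l.hom) a
        naturality := fun j k φ => by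
          show 𝟙 s.pt ≫ _ = _ ≫ D.map φ.left
          rw [Category.id_comp, (hnat s φ).1] } }
  let m : ∀ (s : Cone (pullTower D a)), s.pt ⟶ c.pt := fun s => hco.lift (sT s)
  have hm : ∀ s l, m s ≫ c.π.app l.left = s.π.app l ≫ pullback.fst (D.map l.hom) a := fun s l => hco.fac (sT s) l
  refine ⟨{ lift := fun s => sq.lift (m s) (s.π.app t ≫ pullback.snd (D.map t.hom) a) ?_, fac := ?_, uniq := ?_ }⟩
  · have h := hm s t
    show m s ≫ c.π.app t.left = _
    exact h.trans (((Category.assoc _ _ _).trans ((congrArg (s.π.app t ≫ ·)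
      (pullback.condition (f := D.map t.hom) (g := a)).symm).trans (congrArg (s.π.app t ≫ ·)
      ((congrArg (pullback.fst (D.map t.hom) a ≫ ·) (D.map_id i₁)).trans (Category.comp_id _))))).symm)
  · intro s l
    show _ ≫ pullback.lift _ _ _ = _
    apply pullback.hom_ext
    · rw [Category.assoc, pullback.lift_fst, IsPullback.lift_fst_assoc]
      exact hm s l
    · rw [Category.assoc, pullback.lift_snd, IsPullback.lift_snd]
      exact (hnat s (Over.homMk l.hom (by simp [t]) : l ⟶ t)).2.symm
  · intro s k hk
    apply sq.hom_ext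
    · rw [IsPullback.lift_fst]
      refine hco.hom_ext fun l => ?_
      show (k ≫ u) ≫ c.π.app l.left = m s ≫ c.π.app l.left
      rw [hm s l, ← hk l]
      show _ = (k ≫ pullback.lift _ _ _) ≫ _
      rw [Category.assoc, Category.assoc, pullback.lift_fst]
    · rw [IsPullback.lift_snd, ← hk t]
      show _ = (k ≫ pullback.lift _ _ _) ≫ _
      rw [Category.assoc, pullback.lift_snd]

end Groth.Agent.SpApprox

end
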