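import Groth.Agent.SpApprox.LimInt
import Groth.Agent.SpApprox.LimFin
import Groth.Agent.SpApprox.PullTower
import Groth.Agent.RelNorm.Zmt
import Groth.Agent.RelNorm.Universal
import Groth.Agent.RelNorm.Construct
import Groth.Agent.SpDesc.EventClosed
import Groth.Agent.SpDesc.ClosedTower
import Groth.Agent.SchImg.LimOpen
import Groth.Agent.SchImg.ImmImage

/-!
Zariski main theorem with a finite, resp. finitely presented, target.
-/

set_option autoImplicit false
set_option linter.style.haveILetI false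
set_option backward.isDefEq.respectTransparency false

universe u

noncomputable section

open CategoryTheory CategoryTheory.Limits AlgebraicGeometry AlgSp

namespace Groth.Agent.SpApprox

open Groth.Agent.AlgSpLib

variable {S : Scheme.{u}} [QuasiSeparatedSpace ↥S] {X Y : Space S}

theorem qsMor_of_finite {A B : Sp S} (hA : IsAlgSpace A) (hB : IsAlgSpace B) {f : A ⟶ B} (hf : IsFiniteMor f) :
    IsQuasiSeparatedMor f ∧ IsSeparatedMor f := by
  have hF := (isFiniteMor_iff_repWith _).1 hf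
  exact ⟨(isQuasiSeparatedMor_iff_repWith hA hB hF.1).2 (repWith_mono (fun _ _ r hr => by
      have : IsFinite r := hr
      infer_instance) hF),
    (isSeparatedMor_iff_repWith hA hB hF.1).2 (repWith_mono (fun _ _ r hr => by
      have : IsFinite r := hr
      infer_instance) hF)⟩

theorem exists_zmt (f : X ⟶ Y) (hf1 : LocP (@LocallyQuasiFinite ⊓ @LocallyOfFiniteType) f.hom)
    (hf2 : AlgSp.IsQuasiCompactMor f.hom) (hf3 : IsSeparatedMor f.hom) (hY1 : IsQuasiCompactSp Y.obj)
    (hY2 : IsQuasiSeparatedSp Y.obj) :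
    ∃ (T : Space S) (j : X ⟶ T) (π : T ⟶ Y), j ≫ π = f ∧
      RepWith @IsOpenImmersion j.hom ∧ AlgSp.IsQuasiCompactMor j.hom ∧ IsFiniteMor π.hom := by
  obtain ⟨Y', ν, f', e', hY', hν, H⟩ := RelNorm.exists_smNorm X.property Y.property f.hom hf2
    (ValLib.isQuasiSeparatedMor_of_separated f.hom hf3)
  obtain ⟨hopen, hf'qc, -⟩ := RelNorm.openImmersion_normalization X.property Y.property hY' f.hom hf1 hf2 hf3
    (RelNorm.isRelNormalization_of_smNorm Y.property e' hν H)
  obtain ⟨I, _, hdir, hne, D, t, c, hc, e, h1, h2, h3, h4⟩ :=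
    exists_limit_finite (X := ⟨Y', hY'⟩) (ObjectProperty.homMk ν) hν hY1 hY2
  have hlft : LocP @LocallyOfFiniteType f.hom := fun U V a b h ha hb comm => (hf1 a b h ha hb comm).2
  have hXq : IsQuasiCompactSp X.obj := hf2 Y.property hY1 _ _ _ (IsPullback.of_horiz_isIso (fst := 𝟙 X.obj) (snd := f.hom) (f := f.hom) (g := 𝟙 Y.obj) ⟨by simp⟩)
  have hys : RepWith @IsImmersion (f' ≫ e.inv) := repWith_comp
    (repWith_mono (P := @IsOpenImmersion) (Q := @IsImmersion) (fun _ _ g hg => by
      have : IsOpenImmersion g := hg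
      infer_instance) hopen) (repWith_of_isIso _)
  have hcomp : ∀ i, (f' ≫ e.inv) ≫ c.π.app i ≫ t.app i = f.hom := fun i => by
    rw [Category.assoc, h4 i]
    exact e'
  have hqs : ∀ i, IsQuasiSeparatedSp (D.obj i) := fun i =>
    isQuasiSeparatedSp_of_mor (qsMor_of_finite (h1 i) Y.property (h3 i).1).1 hY2
  obtain ⟨i₁⟩ := IsCofiltered.nonempty (C := Iᵒᵖ)
  obtain ⟨i, hi⟩ := SpDesc.exists_eventually_immersion D h1 h2 c hc X.property hXq (f' ≫ e.inv) hys i₁ (hqs i₁)
    (SpDesc.lft_cancel (h1 i₁) X.property Y.property (g := t.app i₁) (by rw [Category.assoc, hcomp i₁]; exact hlft))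
  have hh : RepWith @IsImmersion ((f' ≫ e.inv) ≫ c.π.app i) := hi i (𝟙 i)
  have hhq : AlgSp.IsQuasiCompactMor ((f' ≫ e.inv) ≫ c.π.app i) :=
    SpQS.isQuasiCompactMor_of_qc_qs X.property (h1 i) _ hXq (hqs i)
  obtain ⟨Z, z, hZ, hz⟩ := SchImg.exists_schImage ((f' ≫ e.inv) ≫ c.π.app i) X.property (h1 i)
  obtain ⟨j, hj⟩ := hz.2.1
  have hjo := SchImg.openImmersion_toImage X.property (h1 i) hh (Or.inl hhq) hz hj
  have hZs : IsQuasiSeparatedSp Z := isQuasiSeparatedSp_of_mor
    ((isQuasiSeparatedMor_iff_repWith hZ (h1 i) hz.1.1).2 (repWith_mono (fun _ _ r hr => by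
      have : IsClosedImmersion r := hr
      infer_instance) hz.1)) (hqs i)
  refine ⟨⟨Z, hZ⟩, ObjectProperty.homMk j, ObjectProperty.homMk (z ≫ t.app i), ?_, hjo,
    SpQS.isQuasiCompactMor_of_qc_qs X.property hZ _ hXq hZs, ?_⟩
  · apply ObjectProperty.hom_ext
    show j ≫ z ≫ t.app i = f.hom
    rw [reassoc_of% hj]
    simpa only [Category.assoc] using hcomp i
  · refine (isFiniteMor_iff_repWith _).2 (repWith_comp ?_ ((isFiniteMor_iff_repWith _).1 (h3 i).1))
    exact repWith_mono (fun _ _ r hr => by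
      have : IsClosedImmersion r := hr
      show IsFinite r
      infer_instance) hz.1

theorem exists_zmt_fp (f : X ⟶ Y) (hf1 : LocP (@LocallyQuasiFinite ⊓ @LocallyOfFiniteType) f.hom)
    (hf2 : AlgSp.IsQuasiCompactMor f.hom) (hf3 : IsSeparatedMor f.hom) (hf4 : LocP @LocallyOfFinitePresentation f.hom)
    (hY1 : IsQuasiCompactSp Y.obj) (hY2 : IsQuasiSeparatedSp Y.obj) :
    ∃ (T : Space S) (j : X ⟶ T) (π : T ⟶ Y), j ≫ π = f ∧
      RepWith @IsOpenImmersion j.hom ∧ AlgSp.IsQuasiCompactMor j.hom ∧ IsFiniteMor π.hom ∧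
        IsFinitePresentationMor π.hom := by
  obtain ⟨T, j, π, ej, hj, -, hπ⟩ := exists_zmt f hf1 hf2 hf3 hY1 hY2
  obtain ⟨I, _, hdir, hne, D, t, c, hc, e, h1, h2, h3, h4⟩ := exists_limit_closed_finite π hπ hY1 hY2
  have hXq : IsQuasiCompactSp X.obj := hf2 Y.property hY1 _ _ _ (IsPullback.of_horiz_isIso (fst := 𝟙 X.obj) (snd := f.hom) (f := f.hom) (g := 𝟙 Y.obj) ⟨by simp⟩)
  have h2a : ∀ (i k : Iᵒᵖ) (φ : i ⟶ k), IsAffineMor (D.map φ) := fun i k φ =>
    (isAffineMor_iff_repWith _).2 (repWith_mono (fun _ _ r hr => by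
      have : IsClosedImmersion r := hr
      show IsAffineHom r
      infer_instance) (h2 i k φ))
  have hju : RepWith @IsOpenImmersion (j.hom ≫ e.inv) := repWith_comp hj (repWith_of_isIso _)
  obtain ⟨i, A, a, q, ha, hAq, sq⟩ :=
    SchImg.exists_qc_open_subspace_stage D h1 h2a c hc (j.hom ≫ e.inv) hju hXq
  have hA : IsAlgSpace A := isAlgSpace_of_repBySp (Representable.repBySp ha.1) (h1 i)
  obtain ⟨hlim⟩ := isLimit_pullTowerCone D a c hc sq
  let top : Over i := Over.mk (𝟙 i)
  have hobj : ∀ l, IsAlgSpace ((pullTower D a).obj l) := fun l =>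
    isAlgSpace_of_isPullback_space (h1 i) (h1 l.left) hA (IsPullback.of_hasPullback (D.map l.hom) a)
  have hfst : ∀ l : Over i, RepWith @IsOpenImmersion (pullback.fst (D.map l.hom) a) := fun l =>
    repWith_baseChange (IsPullback.of_hasPullback (D.map l.hom) a).flip ha
  have hcomp : ∀ k, (j.hom ≫ e.inv) ≫ c.π.app k ≫ t.app k = f.hom := fun k => by
    rw [Category.assoc, h4 k]
    exact congrArg (fun m => m.hom) ej
  have hpt : ∀ l : Over i, (pullTowerCone D a c sq).π.app l ≫ pullback.fst (D.map l.hom) a =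
      (j.hom ≫ e.inv) ≫ c.π.app l.left := fun l => pullback.lift_fst _ _ _
  have hg : LocP @LocallyOfFiniteType (pullback.fst (D.map top.hom) a ≫ t.app i) :=
    locP_comp etST_lft (h1 i) Y.property ((locP_iff_repWith etST_lft (h1 i) (hfst top).1).2
      (repWith_mono (fun _ _ r hr => by
        have : IsOpenImmersion r := hr
        show LocallyOfFiniteType r
        infer_instance) (hfst top)))
      ((locP_iff_repWith etST_lft Y.property ((isFiniteMor_iff_repWith _).1 (h3 i).1).1).2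
        (repWith_mono (fun _ _ r hr => by
          have : IsFinite r := hr
          show LocallyOfFiniteType r
          infer_instance) ((isFiniteMor_iff_repWith _).1 (h3 i).1)))
  have hlfp : LocP @LocallyOfFinitePresentation ((pullTowerCone D a c sq).π.app top) :=
    locP_cancel etST_lfp (Q := @LocallyOfFiniteType) (fun _ _ _ f' g' (hg : LocallyOfFiniteType g')
      (h : LocallyOfFinitePresentation (f' ≫ g')) => LimDesc.lfp_of_comp f' g') Y.property (by
      rw [← Category.assoc, hpt top, Category.assoc]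
      exact (hcomp i).symm ▸ hf4) hg
  have htopq : IsQuasiCompactSp ((pullTower D a).obj top) := by
    have hid : IsIso (pullback.snd (D.map top.hom) a) := by
      have : IsIso (D.map top.hom) := inferInstanceAs (IsIso (D.map (𝟙 i)))
      infer_instance
    have : RepWith @Surjective (inv (pullback.snd (D.map top.hom) a)) := repWith_of_isIso _
    exact isQuasiCompactSp_of_isSurjectiveMor (hobj top) _ (isSurjectiveMor_of_repWith this) hAq
  obtain ⟨l₀, hl⟩ := SpDesc.exists_isIso_closedTower (pullTower D a) hobj (repWith_pullTower D a h2)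
    (pullTowerCone D a c sq) hlim top htopq hlfp
  have := hl l₀ (𝟙 l₀)
  have hjl : RepWith @IsOpenImmersion ((j.hom ≫ e.inv) ≫ c.π.app l₀.left) := by
    rw [← hpt l₀]
    exact repWith_comp (repWith_of_isIso _) (hfst l₀)
  refine ⟨⟨D.obj l₀.left, h1 _⟩, ObjectProperty.homMk ((j.hom ≫ e.inv) ≫ c.π.app l₀.left),
    ObjectProperty.homMk (t.app l₀.left), ?_, hjl,
    SpQS.isQuasiCompactMor_of_qc_qs X.property (h1 _) _ hXq
      (isQuasiSeparatedSp_of_mor (qsMor_of_finite (h1 _) Y.property (h3 _).1).1 hY2), (h3 _).1, (h3 _).2⟩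
  apply ObjectProperty.hom_ext
  show ((j.hom ≫ e.inv) ≫ c.π.app l₀.left) ≫ t.app l₀.left = f.hom
  rw [Category.assoc, hcomp]

end Groth.Agent.SpApprox

end
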