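import Groth.Agent.SpApprox.ChowSpace
import Groth.Agent.AbsApprox.Main
import Groth.Agent.LimMore.SepScheme
import Groth.Agent.GeomPi0.Basic
import Groth.Agent.SpDesc.EventClosed
import Groth.Agent.SpChev.Basic

/-!
Chow's lemma with projective space over a separated algebraic space, through absolute approximation of a
finite scheme cover.
-/

set_option autoImplicit false
set_option linter.style.haveILetI false
set_option backward.isDefEq.respectTransparency false

universe u

noncomputable section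

open CategoryTheory CategoryTheory.Limits AlgebraicGeometry Opposite AlgSp

namespace Groth.Agent.SpApprox

open Groth.Agent.AlgSpLib

variable {S : Scheme.{u}}

/-- the terminal scheme -/
abbrev Zbase : Scheme.{u} := Spec (CommRingCat.of (ULift.{u} ℤ))

/-- the structure map to the terminal scheme -/
abbrev toZ (T : Scheme.{u}) : T ⟶ Zbase.{u} := specULiftZIsTerminal.from T

/-- a scheme over the terminal scheme pulled back to `S` -/
abbrev bcZ (S : Scheme.{u}) (D : Scheme.{u}) : Over S := Over.mk (pullback.snd (toZ D) (toZ S))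

/-- the map induced on pullbacks to `S` -/
def bcMap {D D' : Scheme.{u}} (h : D' ⟶ D) : bcZ S D' ⟶ bcZ S D :=
  Over.homMk (pullback.map _ _ _ _ h (𝟙 S) (𝟙 _) (specULiftZIsTerminal.hom_ext _ _) (by simp)) (by simp)

theorem isPullback_bcMap {D D' : Scheme.{u}} (h : D' ⟶ D) :
    IsPullback (pullback.fst (toZ D') (toZ S)) (bcMap (S := S) h).left h (pullback.fst (toZ D) (toZ S)) := by
  refine IsPullback.of_bot ?_ (pullback.lift_fst _ _ _).symm (IsPullback.of_hasPullback (toZ D) (toZ S))
  rw [show (bcMap (S := S) h).left ≫ pullback.snd (toZ D) (toZ S) = pullback.snd (toZ D') (toZ S) from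
    (pullback.lift_snd _ _ _).trans (Category.comp_id _), show h ≫ toZ D = toZ D' from specULiftZIsTerminal.hom_ext _ _]
  exact IsPullback.of_hasPullback (toZ D') (toZ S)

/-- the section of the pullback over a scheme mapping to `D` -/
def bcLift {D : Scheme.{u}} {T : Over S} (h : T.left ⟶ D) : T ⟶ bcZ S D :=
  Over.homMk (pullback.lift h T.hom (specULiftZIsTerminal.hom_ext _ _)) (pullback.lift_snd _ _ _)

theorem bcLift_fst {D : Scheme.{u}} {T : Over S} (h : T.left ⟶ D) :
    (bcLift h).left ≫ pullback.fst (toZ D) (toZ S) = h := pullback.lift_fst _ _ _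

theorem bc_ext {D : Scheme.{u}} {T : Over S} {a b : T ⟶ bcZ S D}
    (h : a.left ≫ pullback.fst (toZ D) (toZ S) = b.left ≫ pullback.fst (toZ D) (toZ S)) : a = b :=
  Over.OverMorphism.ext (pullback.hom_ext h ((Over.w a).trans (Over.w b).symm))

/-- the tower pulled back to `S` -/
def bcTower {I : Type u} [SmallCategory I] (D : I ⥤ Scheme.{u}) : I ⥤ Over S where
  obj i := bcZ S (D.obj i)
  map φ := bcMap (D.map φ)
  map_id i := bc_ext (by simp [bcMap])
  map_comp φ ψ := bc_ext (by simp [bcMap])

theorem isLimit_bcTower {I : Type u} [SmallCategory I] [IsConnected I] (D : I ⥤ Scheme.{u}) (c : Cone D)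
    (hc : IsLimit c) :
    Nonempty (IsLimit (Cone.mk (F := bcTower (S := S) D) (bcZ S c.pt)
      { app := fun i => bcMap (c.π.app i), naturality := fun i j φ => bc_ext (by simp [bcTower, bcMap]) })) := by
  have hfst : ∀ {E E' : Scheme.{u}} (h : E' ⟶ E), (bcMap (S := S) h).left ≫ pullback.fst (toZ E) (toZ S) =
      pullback.fst (toZ E') (toZ S) ≫ h := fun h => (isPullback_bcMap h).w.symm
  let base : ∀ s : Cone (bcTower (S := S) D), Cone D := fun s =>
    { pt := s.pt.left
      π :=
      { app := fun i => (s.π.app i).left ≫ pullback.fst (toZ (D.obj i)) (toZ S)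
        naturality := fun i j φ => by
          show 𝟙 _ ≫ (s.π.app j).left ≫ _ = ((s.π.app i).left ≫ _) ≫ D.map φ
          rw [Category.id_comp, ← s.w φ, Over.comp_left, Category.assoc, Category.assoc]
          exact congrArg ((s.π.app i).left ≫ ·) (hfst (D.map φ)) } }
  refine ⟨{ lift := fun s => bcLift (hc.lift (base s)), fac := fun s i => bc_ext ?_, uniq := fun s m hm => bc_ext ?_ }⟩
  · rw [Over.comp_left, Category.assoc]
    erw [hfst (c.π.app i)]
    rw [← Category.assoc, bcLift_fst, hc.fac]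
  · rw [bcLift_fst]
    refine hc.hom_ext fun i => ?_
    rw [hc.fac, Category.assoc]
    show _ = (s.π.app i).left ≫ _
    rw [← hm i, Over.comp_left, Category.assoc]
    erw [hfst (c.π.app i)]
    rfl

theorem isLimit_prod_mapCone {C : Type*} [Category C] [HasBinaryProducts C] {J : Type*} [Category J]
    [CategoryTheory.IsConnected J] (X : C) {K : J ⥤ C} (c : Cone K) (l : IsLimit c) :
    Nonempty (IsLimit ((Limits.prod.functor.obj X).mapCone c)) := by
  let base : ∀ s : Cone (K ⋙ Limits.prod.functor.obj X), Cone K := fun s =>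
    { pt := s.pt
      π :=
      { app := fun j => s.π.app j ≫ Limits.prod.snd
        naturality := fun j k φ => by
          show 𝟙 _ ≫ s.π.app k ≫ _ = (s.π.app j ≫ _) ≫ K.map φ
          rw [Category.id_comp, ← s.w φ, Category.assoc, Category.assoc]
          exact congrArg (s.π.app j ≫ ·) (Limits.prod.map_snd _ _) } }
  have hf : ∀ (s : Cone (K ⋙ Limits.prod.functor.obj X)) j k, s.π.app j ≫ Limits.prod.fst = s.π.app k ≫ Limits.prod.fst :=
    fun s j k => constant_of_preserves_morphisms (fun j => s.π.app j ≫ (Limits.prod.fst : X ⨯ K.obj j ⟶ X))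
      (fun j k φ => by
        show s.π.app j ≫ _ = s.π.app k ≫ _
        rw [← s.w φ, Category.assoc]
        exact congrArg (s.π.app j ≫ ·) ((Limits.prod.map_fst (𝟙 X) (K.map φ)).trans (Category.comp_id _)).symm) j k
  refine ⟨{ lift := fun s => Limits.prod.lift (s.π.app (Classical.arbitrary J) ≫ Limits.prod.fst) (l.lift (base s))
            fac := fun s j => ?_, uniq := fun s m hm => ?_ }⟩
  · show Limits.prod.lift _ _ ≫ Limits.prod.map (𝟙 X) (c.π.app j) = _
    rw [Limits.prod.lift_map, Category.comp_id, l.fac]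
    refine Limits.prod.hom_ext ?_ ?_
    · rw [Limits.prod.lift_fst]; exact hf s _ j
    · rw [Limits.prod.lift_snd]
  · refine Limits.prod.hom_ext ?_ ?_
    · rw [Limits.prod.lift_fst, ← hm (Classical.arbitrary J), Category.assoc]
      exact congrArg (m ≫ ·) ((Limits.prod.map_fst (𝟙 X) (c.π.app _)).trans (Category.comp_id _)).symm
    · rw [Limits.prod.lift_snd]
      refine l.uniq (base s) _ fun j => ?_
      show (m ≫ Limits.prod.snd) ≫ c.π.app j = s.π.app j ≫ Limits.prod.snd
      rw [← hm j, Category.assoc, Category.assoc]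
      exact congrArg (m ≫ ·) (Limits.prod.map_snd (𝟙 X) (c.π.app j)).symm

/-- a qc separated scheme over `S` mapping by a morphism of finite type to a separated space is immersed into
the product with a separated scheme of finite type over the integers -/
theorem exists_immersion_ft [S.IsSeparated] {Y : Sp S} (hY : IsAlgSpace Y) (hYs : IsSeparatedSp Y) {T : Over S}
    [CompactSpace T.left] [IsSeparated T.hom] (y : (yon S).obj T ⟶ Y) (hy : LocP @LocallyOfFiniteType y) :
    ∃ (D : Scheme.{u}) (_ : CompactSpace D) (_ : IsSeparated (toZ D)) (_ : LocallyOfFiniteType (toZ D)) (u : T.left ⟶ D),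
      RepWith @IsImmersion (Limits.prod.lift y ((yon S).map (bcLift u))) := by
  haveI : IsSeparated (toZ T.left) := by
    haveI : IsSeparated (toZ S) := inferInstance
    rw [specULiftZIsTerminal.hom_ext (toZ T.left) (T.hom ≫ toZ S)]
    infer_instance
  haveI : QuasiSeparatedSpace T.left := quasiSeparatedSpace_of_quasiSeparated T.hom
  obtain ⟨I, _, hdir, hne, D, π, hl, hDa, hD, -⟩ := AbsApprox.hasApprox T.left
  haveI := hdir
  haveI := hne
  haveI : IsCofiltered Iᵒᵖ := inferInstance
  haveI : ∀ i, CompactSpace (D.obj i) := fun i => (hD i).1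
  haveI : ∀ i, QuasiSeparatedSpace (D.obj i) := fun i => AbsApprox.quasiSeparatedSpace_of_lft (hD i).2
  haveI : ∀ {i j} (f : i ⟶ j), IsAffineHom (D.map f) := fun {i j} f => hDa i j f
  obtain ⟨i₀⟩ := IsCofiltered.nonempty (C := Iᵒᵖ)
  haveI : IsSeparated ((Cone.mk T.left π).π.app i₀ ≫ toZ (D.obj i₀)) := by
    rw [specULiftZIsTerminal.hom_ext ((Cone.mk T.left π).π.app i₀ ≫ toZ (D.obj i₀)) (toZ T.left)]
    infer_instance
  obtain ⟨i₁, hsep⟩ := LimMore.exists_isSeparated_over D (fun i => toZ (D.obj i))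
    (fun f => specULiftZIsTerminal.hom_ext _ _) _ hl i₀
  haveI : CategoryTheory.IsConnected Iᵒᵖ := IsCofiltered.isConnected _
  obtain ⟨hlS⟩ := isLimit_bcTower (S := S) D _ hl
  obtain ⟨hlP⟩ := isLimit_prod_mapCone Y _ (isLimitOfPreserves (yon S) hlS)
  let E := bcTower (S := S) D ⋙ yon S ⋙ Limits.prod.functor.obj Y
  have hE : ∀ i, IsAlgSpace (E.obj i) := fun i => GeomPi0.isAlgSpace_prod hY _
  have hEa : ∀ (i j : Iᵒᵖ) (φ : i ⟶ j), IsAffineMor (E.map φ) := fun i j φ => (isAffineMor_iff_repWith _).2 (by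
    refine repWith_baseChange (GeomPi0.isPullback_prod_map Y ((bcTower (S := S) D).map φ)).flip ?_
    refine (repWith_yon_iff _).2 ?_
    exact MorphismProperty.of_isPullback (P := @IsAffineHom) (isPullback_bcMap (D.map φ)) (hDa i j φ))
  let δ : T ⟶ bcZ S T.left := bcLift (𝟙 _)
  have hδ : RepWith @IsImmersion ((yon S).map δ) := (repWith_yon_iff δ).2 (by
    haveI : IsImmersion (δ.left ≫ pullback.fst (toZ T.left) (toZ S)) := by rw [bcLift_fst]; infer_instance
    exact IsImmersion.of_comp δ.left (pullback.fst (toZ T.left) (toZ S)))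
  have hsY : IsSeparatedMor (Limits.prod.snd : Y ⨯ (yon S).obj (bcZ S T.left) ⟶ _) :=
    isSeparatedMor_baseChange (GeomPi0.isPullback_prod Y (bcZ S T.left)) ((SpChev.isSeparatedSp_iff_mor _).1 hYs)
  have hy0 : RepWith @IsImmersion (Limits.prod.lift y ((yon S).map δ)) :=
    Groth.Agent.AlgSpLib.repWith_of_comp _ _ Limits.prod.snd (Limits.prod.lift_snd _ _) hδ
      (repWith_mono (P := @IsClosedImmersion) (Q := @IsImmersion) (fun _ _ r hr => by
        have : IsClosedImmersion r := hr
        infer_instance) hsY)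
  have hqc : IsQuasiCompactSp ((yon S).obj T) := isQuasiCompactSp_yon T
  have hqsE : IsQuasiSeparatedSp (E.obj i₁) := by
    haveI : IsSeparated (toZ (D.obj i₁)) := hsep i₁ (𝟙 _)
    haveI : IsSeparated (bcZ S (D.obj i₁)).hom := inferInstanceAs (IsSeparated (pullback.snd (toZ (D.obj i₁)) (toZ S)))
    refine isQuasiSeparatedSp_of_mor (f := (Limits.prod.snd : E.obj i₁ ⟶ (yon S).obj (bcZ S (D.obj i₁)))) ?_ ?_
    · exact ValLib.isQuasiSeparatedMor_of_separated _
        (isSeparatedMor_baseChange (GeomPi0.isPullback_prod Y _) ((SpChev.isSeparatedSp_iff_mor _).1 hYs))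
    · exact (repWith_diag_yon_iff @QuasiCompact _).2 (inferInstanceAs (QuasiCompact (pullback.diagonal (bcZ S (D.obj i₁)).hom)))
  have hfac : ∀ i, Limits.prod.lift y ((yon S).map δ) ≫ Limits.prod.map (𝟙 Y) ((yon S).map (bcMap (π.app i))) =
      Limits.prod.lift y ((yon S).map (bcLift (π.app i))) := fun i => by
    rw [Limits.prod.lift_map, Category.comp_id, ← Functor.map_comp]
    congr 2
    refine bc_ext ?_
    rw [Over.comp_left, Category.assoc, ← (isPullback_bcMap (π.app i)).w, ← Category.assoc, bcLift_fst, bcLift_fst,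
      Category.id_comp]
  have hlft : LocP @LocallyOfFiniteType (Limits.prod.lift y ((yon S).map δ) ≫
      Limits.prod.map (𝟙 Y) ((yon S).map (bcMap (π.app i₁)))) := by
    rw [hfac]
    refine SpDesc.lft_cancel (hE i₁) (IsAlgSpace.yon_obj T) hY
      (g := (Limits.prod.fst : Y ⨯ (yon S).obj (bcZ S (D.obj i₁)) ⟶ Y)) ?_
    show LocP _ (Limits.prod.lift y ((yon S).map (bcLift (π.app i₁))) ≫
      (Limits.prod.fst : Y ⨯ (yon S).obj (bcZ S (D.obj i₁)) ⟶ Y))
    rw [Limits.prod.lift_fst]
    exact hy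
  obtain ⟨i₂, h₂⟩ := SpDesc.exists_eventually_immersion E hE hEa _ hlP (IsAlgSpace.yon_obj T) hqc
    (Limits.prod.lift y ((yon S).map δ)) hy0 i₁ hqsE hlft
  obtain ⟨i, a₁, a₂, -⟩ := IsCofilteredOrEmpty.cone_objs i₁ i₂
  refine ⟨D.obj i, inferInstance, hsep i a₁, (hD i).2, π.app i, ?_⟩
  rw [← hfac i]
  exact h₂ i a₂

/-- base change of the immersion along a map to the approximation -/
theorem isPullback_prod_lift {Y : Sp S} {T : Over S} (y : (yon S).obj T ⟶ Y) {D D' : Scheme.{u}} (u : T.left ⟶ D)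
    (e : D' ⟶ D) :
    IsPullback ((yon S).map (Over.homMk (pullback.fst u e) rfl : Over.mk (pullback.fst u e ≫ T.hom) ⟶ T))
      (Limits.prod.lift ((yon S).map (Over.homMk (pullback.fst u e) rfl : Over.mk (pullback.fst u e ≫ T.hom) ⟶ T) ≫ y)
        ((yon S).map (bcLift (T := Over.mk (pullback.fst u e ≫ T.hom)) (pullback.snd u e))))
      (Limits.prod.lift y ((yon S).map (bcLift u))) (Limits.prod.map (𝟙 Y) ((yon S).map (bcMap e))) := by
  have w : ((yon S).map (Over.homMk (pullback.fst u e) rfl : Over.mk (pullback.fst u e ≫ T.hom) ⟶ T)) ≫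
      Limits.prod.lift y ((yon S).map (bcLift u)) =
      Limits.prod.lift ((yon S).map (Over.homMk (pullback.fst u e) rfl : Over.mk (pullback.fst u e ≫ T.hom) ⟶ T) ≫ y)
        ((yon S).map (bcLift (T := Over.mk (pullback.fst u e ≫ T.hom)) (pullback.snd u e))) ≫
      Limits.prod.map (𝟙 Y) ((yon S).map (bcMap e)) := by
    rw [Limits.prod.comp_lift, Limits.prod.lift_map, Category.comp_id, ← Functor.map_comp, ← Functor.map_comp]
    congr 2
    refine bc_ext ?_
    rw [Over.comp_left, Over.comp_left, Category.assoc, Category.assoc, bcLift_fst, ← (isPullback_bcMap e).w,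
      ← Category.assoc, bcLift_fst]
    exact pullback.condition
  refine isPullback_of_points w fun W a b h => ?_
  obtain ⟨a', rfl⟩ := exists_map_eq a
  obtain ⟨β, hβ⟩ := exists_map_eq (b ≫ Limits.prod.snd)
  have h1 := congrArg (· ≫ Limits.prod.fst) h
  have h2 := congrArg (· ≫ Limits.prod.snd) h
  simp only [Category.assoc, Limits.prod.lift_fst, Limits.prod.map_fst, Category.comp_id] at h1
  simp only [Category.assoc, Limits.prod.lift_snd, Limits.prod.map_snd] at h2
  rw [← Category.assoc, ← hβ, ← Functor.map_comp, ← Functor.map_comp] at h2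
  have h3 : a'.left ≫ u = (β.left ≫ pullback.fst (toZ D') (toZ S)) ≫ e := by
    have := congrArg (fun m => m.left ≫ pullback.fst (toZ D) (toZ S)) ((yon S).map_injective h2)
    simpa [bcLift_fst, (isPullback_bcMap e).w] using this
  let l : W ⟶ Over.mk (pullback.fst u e ≫ T.hom) := Over.homMk (pullback.lift a'.left _ h3) (by
    show pullback.lift _ _ _ ≫ pullback.fst u e ≫ T.hom = W.hom
    rw [pullback.lift_fst_assoc, Over.w a'])
  have hl1 : l ≫ (Over.homMk (pullback.fst u e) rfl : Over.mk (pullback.fst u e ≫ T.hom) ⟶ T) = a' :=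
    Over.OverMorphism.ext (pullback.lift_fst _ _ _)
  refine ⟨(yon S).map l, ⟨by rw [← Functor.map_comp, hl1], ?_⟩, fun l' hl' => ?_⟩
  · apply Limits.prod.hom_ext
    · rw [Category.assoc, Limits.prod.lift_fst, ← Category.assoc, ← Functor.map_comp, hl1, h1]
    · rw [Category.assoc, Limits.prod.lift_snd, ← Functor.map_comp, ← hβ]
      refine congrArg _ (bc_ext ?_)
      rw [Over.comp_left, Category.assoc, bcLift_fst]
      exact pullback.lift_snd _ _ _
  · obtain ⟨l', rfl⟩ := exists_map_eq l'
    refine congrArg _ (Over.OverMorphism.ext (pullback.hom_ext ?_ ?_))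
    · have := congrArg (fun m => m.left) ((yon S).map_injective (((yon S).map_comp _ _).trans hl'.1))
      exact this.trans (pullback.lift_fst _ _ _).symm
    · have := congrArg (· ≫ Limits.prod.snd) hl'.2
      simp only [Category.assoc, Limits.prod.lift_snd, ← hβ, ← Functor.map_comp] at this
      have := congrArg (fun m => m.left ≫ pullback.fst (toZ D') (toZ S)) ((yon S).map_injective this)
      simp only [Over.comp_left, Category.assoc, bcLift_fst] at this
      exact this.trans (pullback.lift_snd _ _ _).symm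

theorem exists_chow_projective [S.IsSeparated] {X Y : Space S} (f : X ⟶ Y) (hY1 : IsQuasiCompactSp Y.obj)
    (hY2 : IsSeparatedSp Y.obj) (hf1 : IsSeparatedMor f.hom) (hf2 : IsFiniteTypeMor f.hom) :
    ∃ (n : ℕ) (X' : Space S) (a : X' ⟶ X)
      (b : X'.obj ⟶ (yon S).obj (Over.mk (CohB1.ProjSpaceOver.toBase n S)) ⨯ Y.obj),
      b ≫ Limits.prod.snd = (a ≫ f).hom ∧
        IsProperMor a.hom ∧ IsSurjectiveMor a.hom ∧ RepWith @IsImmersion b := by
  have hXs : IsSeparatedSp X.obj := (SpChev.isSeparatedSp_iff_mor (f.hom ≫ SpQS.baseStr Y.obj)).2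
    (isSeparatedMor_comp hf1 ((SpChev.isSeparatedSp_iff_mor _).1 hY2))
  have hXqs : IsQuasiSeparatedSp X.obj := (SpQS.isQuasiSeparatedSp_iff_mor (SpQS.baseStr _)).2
    (ValLib.isQuasiSeparatedMor_of_separated _ ((SpChev.isSeparatedSp_iff_mor _).1 hXs))
  have hXqc : IsQuasiCompactSp X.obj := hf2.2 Y.property hY1 _ _ _
    (IsPullback.of_horiz_isIso (fst := 𝟙 X.obj) (snd := f.hom) (f := f.hom) (g := 𝟙 Y.obj) ⟨by simp⟩)
  obtain ⟨U, π₀, hπ, hπs⟩ := X.property.atlas
  obtain ⟨T, g, hg, hgs, -, -⟩ := exists_cover_fp X hXqc hXqs U π₀ hπ hπs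
  have hgP := finMor_props (IsAlgSpace.yon_obj T) X.property ((isFiniteMor_iff_repWith _).1 hg)
  haveI : CompactSpace T.left := SpDesc.compactSpace_of_sp (qcqs_sch ((isFiniteMor_iff_repWith _).1 hg) hXqc hXqs).1
  haveI : IsSeparated T.hom := by
    have : IsSeparatedSp ((yon S).obj T) := (SpChev.isSeparatedSp_iff_mor (g ≫ SpQS.baseStr X.obj)).2
      (isSeparatedMor_comp hgP.1 ((SpChev.isSeparatedSp_iff_mor _).1 hXs))
    exact ⟨(repWith_diag_yon_iff @IsClosedImmersion T).1 this⟩
  obtain ⟨D, _, _, _, u, hu⟩ := exists_immersion_ft Y.property hY2 (g ≫ f.hom)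
    (locP_comp etST_lft X.property Y.property hgP.2.1.1 hf2.1)
  haveI : QuasiSeparatedSpace D := AbsApprox.quasiSeparatedSpace_of_lft inferInstance
  obtain ⟨m, D', e, jD, hjD, hjDf, he, hes⟩ := Chow.exists_chow_single (toZ D)
  haveI := he
  haveI := hes
  haveI := hjD
  let T' : Over S := Over.mk (pullback.fst u e ≫ T.hom)
  let p₁ : T' ⟶ T := Over.homMk (pullback.fst u e) rfl
  have hp₁P : RepWith @IsProper ((yon S).map p₁) := (repWith_yon_iff p₁).2
    (inferInstanceAs (IsProper (pullback.fst u e)))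
  have hφ : RepWith @IsImmersion (Limits.prod.lift ((yon S).map p₁ ≫ g ≫ f.hom)
      ((yon S).map (bcLift (T := T') (pullback.snd u e)))) := repWith_baseChange (isPullback_prod_lift (g ≫ f.hom) u e) hu
  let jP : D' ⟶ CohB1.ProjSpace m (ULift.{u} ℤ) := jD ≫ pullback.fst _ _
  haveI : IsImmersion (pullback.fst (CohB1.ProjSpace.toSpec m (ULift.{u} ℤ)) (toZ (Zbase.{u}))) := by
    rw [show toZ (Zbase.{u}) = 𝟙 _ from specULiftZIsTerminal.hom_ext _ _]
    infer_instance
  haveI : IsImmersion jP := inferInstanceAs (IsImmersion (jD ≫ pullback.fst _ _))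
  let η : bcZ S D' ⟶ Over.mk (CohB1.ProjSpaceOver.toBase m S) := Over.homMk
    (pullback.map _ _ _ _ jP (𝟙 S) (𝟙 _) (specULiftZIsTerminal.hom_ext _ _) (by simp)) (pullback.lift_snd _ _ _ |>.trans (Category.comp_id _))
  haveI : IsImmersion η.left := by
    have hsq : IsPullback η.left (pullback.fst (toZ D') (toZ S))
        (pullback.fst (CohB1.ProjSpace.toSpec m (ULift.{u} ℤ)) (specULiftZIsTerminal.from S)) jP := by
      refine (IsPullback.of_bot ?_ (pullback.lift_fst _ _ _).symm (IsPullback.of_hasPullback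
        (CohB1.ProjSpace.toSpec m (ULift.{u} ℤ)) (specULiftZIsTerminal.from S))).flip
      rw [pullback.lift_snd, Category.comp_id,
        show jP ≫ CohB1.ProjSpace.toSpec m (ULift.{u} ℤ) = toZ D' from specULiftZIsTerminal.hom_ext _ _]
      exact IsPullback.of_hasPullback (toZ D') (toZ S)
    exact MorphismProperty.of_isPullback (P := @IsImmersion) hsq.flip inferInstance
  have hη : RepWith @IsImmersion (Limits.prod.map (𝟙 Y.obj) ((yon S).map η)) :=
    repWith_baseChange (GeomPi0.isPullback_prod_map Y.obj η).flip ((repWith_yon_iff η).2 inferInstance)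
  refine ⟨m, ⟨_, IsAlgSpace.yon_obj T'⟩, ObjectProperty.homMk ((yon S).map p₁ ≫ g),
    (Limits.prod.lift ((yon S).map p₁ ≫ g ≫ f.hom) ((yon S).map (bcLift (T := T') (pullback.snd u e))) ≫
      Limits.prod.map (𝟙 Y.obj) ((yon S).map η)) ≫ (Limits.prod.braiding _ _).hom, ?_, ?_, ?_, ?_⟩
  · show _ = ((yon S).map p₁ ≫ g) ≫ f.hom
    simp
  · exact isProperMor_comp (IsAlgSpace.yon_obj T) X.property
      ((isProperMor_iff_repWith (IsAlgSpace.yon_obj T') (IsAlgSpace.yon_obj T) hp₁P.1).2 hp₁P) hgP
  · refine surjectiveMor_comp (fun y => ?_) hgs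
    obtain ⟨y', rfl⟩ := (Points.schemeHomeo T).surjective y
    obtain ⟨t, rfl⟩ := (pullback.fst u e).surjective y'
    exact ⟨Points.schemeHomeo T' t, Points.map_yon_map_apply p₁ t⟩
  · exact repWith_comp (repWith_comp hφ hη) (repWith_of_isIso _)

end Groth.Agent.SpApprox

end
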