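import Groth.Agent.SpApprox.CoverFP
import Groth.Agent.ZarConn.ProperFT
import Groth.Agent.AlgSpLib.DiagCrit
import Groth.Agent.AlgSpLib.ProperRange
import Groth.Agent.AlgSpLib.ProperCrit
import Groth.Agent.SpChev.TwoPieces
import Groth.Agent.Chow.Union
import Groth.Agent.SchImg.Dense
import Groth.Agent.SchImg.ImmImage
import Groth.Prelude.Def_RelProj

/-!
Chow's lemma and lifting of proper open and closed parts over henselian pairs, through a finite scheme cover.
-/

set_option autoImplicit false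
set_option linter.style.haveILetI false
set_option backward.isDefEq.respectTransparency false

universe u

noncomputable section

open CategoryTheory CategoryTheory.Limits AlgebraicGeometry AlgSp

namespace Groth.Agent.SpApprox

open Groth.Agent.AlgSpLib

variable {S : Scheme.{u}}

theorem isUnivClosedMor_of_surjective_comp {Q W B : Sp S} {l : Q ⟶ W} (hl : IsSurjectiveMor l) {q : W ⟶ B}
    (h : IsUnivClosedMor (l ≫ q)) : IsUnivClosedMor q := by
  intro Z P hZ g fst snd sq C hC
  have sq' := IsPullback.of_hasPullback l fst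
  have hs : IsSurjectiveMor (pullback.snd l fst) := isSurjectiveMor_baseChange sq' hl
  have e : Points.map snd '' C = Points.map (pullback.snd l fst ≫ snd) '' (Points.map (pullback.snd l fst) ⁻¹' C) := by
    ext z
    constructor
    · rintro ⟨x, hx, rfl⟩
      obtain ⟨y, rfl⟩ := hs x
      exact ⟨y, hx, Points.map_comp _ _ _⟩
    · rintro ⟨y, hy, rfl⟩
      exact ⟨_, hy, (Points.map_comp _ _ _).symm⟩
  rw [e]
  exact h hZ g _ _ (sq'.paste_vert sq) _ (hC.preimage (Points.continuous_map _))

/-- a finite surjective scheme cover of a separated space of finite type over an affine base -/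
theorem exists_sch_cover [IsAffine S] (X : Space S) (p : X.obj ⟶ (yon S).obj (Over.mk (𝟙 S)))
    (hsep : IsSeparatedMor p) (hft : IsFiniteTypeMor p) :
    ∃ (Y : Over S) (g : (yon S).obj Y ⟶ X.obj), RepWith @IsFinite g ∧ IsSurjectiveMor g ∧
      IsSeparated Y.hom ∧ LocallyOfFiniteType Y.hom ∧ QuasiCompact Y.hom := by
  have hqs : IsQuasiSeparatedSp X.obj :=
    (SpQS.isQuasiSeparatedSp_iff_mor p).2 (ValLib.isQuasiSeparatedMor_of_separated p hsep)
  have hqc : IsQuasiCompactSp X.obj := hft.2 (IsAlgSpace.yon_obj (Over.mk (𝟙 S)))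
    (haveI : CompactSpace ↥(Over.mk (𝟙 S)).left := inferInstanceAs (CompactSpace ↥S)
     isQuasiCompactSp_yon (Over.mk (𝟙 S))) _ _ _
    (IsPullback.of_horiz_isIso (fst := 𝟙 X.obj) (snd := p) (f := p) (g := 𝟙 _) ⟨by simp⟩)
  obtain ⟨U, π, hπ, hπs⟩ := X.property.atlas
  obtain ⟨Y, g, hg, hgs, -, -⟩ := exists_cover_fp X hqc hqs U π hπ hπs
  have hgR := (isFiniteMor_iff_repWith _).1 hg
  obtain ⟨m, hm⟩ := exists_map_eq (g ≫ p)
  have hmh : m.left = Y.hom := by
    exact (Category.comp_id _).symm.trans (Over.w m)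
  have hR : Representable ((yon S).map m) :=
    Functor.relativelyRepresentable.of_diag (IsAlgSpace.yon_obj (Over.mk (𝟙 S))).diag _
  have hT := IsAlgSpace.yon_obj (S := S) (Over.mk (𝟙 S))
  refine ⟨Y, g, hgR, hgs, ?_, ?_, ?_⟩ <;> rw [← hmh]
  · refine (repWith_yon_iff (P := @IsSeparated) m).1 ((isSeparatedMor_iff_repWith (IsAlgSpace.yon_obj Y) hT hR).1 ?_)
    rw [hm]
    exact isSeparatedMor_comp ((isSeparatedMor_iff_repWith (IsAlgSpace.yon_obj Y) X.property hgR.1).2
      (repWith_mono (fun _ _ r hr => by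
        have : IsFinite r := hr
        infer_instance) hgR)) hsep
  · refine (repWith_yon_iff (P := @LocallyOfFiniteType) m).1 ((locP_iff_repWith etST_lft hT hR).1 ?_)
    rw [hm]
    exact locP_comp etST_lft X.property hT ((locP_iff_repWith etST_lft X.property hgR.1).2
      (repWith_mono (fun _ _ r hr => by
        have : IsFinite r := hr
        show LocallyOfFiniteType r
        infer_instance) hgR)) hft.1
  · refine (repWith_yon_iff (P := @QuasiCompact) m).1 ((isQuasiCompactMor_iff_repWith (IsAlgSpace.yon_obj Y) hT hR).1 ?_)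
    rw [hm]
    exact isQuasiCompactMor_comp X.property hT ((isQuasiCompactMor_iff_repWith (IsAlgSpace.yon_obj Y) X.property hgR.1).2
      (repWith_mono (fun _ _ r hr => by
        have : IsFinite r := hr
        infer_instance) hgR)) hft.2

theorem exists_chow_affine [IsAffine S] (X : Space S) (p : X.obj ⟶ (yon S).obj (Over.mk (𝟙 S)))
    (hsep : IsSeparatedMor p) (hft : IsFiniteTypeMor p) :
    ∃ (T : Over S) (g : (yon S).obj T ⟶ X.obj),
      RelProj.IsHQuasiProjective T.hom ∧ IsProperMor g ∧ IsSurjectiveMor g := by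
  obtain ⟨Y, g, hg, hgs, hYs, hYl, hYq⟩ := exists_sch_cover X p hsep hft
  haveI := hYs
  haveI := hYl
  haveI := hYq
  haveI : CompactSpace Y.left := QuasiCompact.compactSpace_of_compactSpace Y.hom
  haveI : QuasiSeparatedSpace Y.left := quasiSeparatedSpace_of_quasiSeparated Y.hom
  obtain ⟨n, X', π, j, hj, hjf, hπ, hπs⟩ := Chow.exists_chow_single Y.hom
  haveI := hπ
  haveI := hπs
  let T : Over S := Over.mk (π ≫ Y.hom)
  let πo : T ⟶ Y := Over.homMk π rfl
  haveI : IsProper (CohB1.ProjSpaceOver.toBase n S) := Chow.isProper_toBase n _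
  haveI : QuasiCompact (j ≫ CohB1.ProjSpaceOver.toBase n S) := by rw [hjf]; infer_instance
  haveI : QuasiCompact j := QuasiCompact.of_comp j (CohB1.ProjSpaceOver.toBase n S)
  refine ⟨T, (yon S).map πo ≫ g, ⟨n, j, hj, inferInstance, hjf⟩, ?_, fun x => ?_⟩
  · refine isProperMor_comp (IsAlgSpace.yon_obj Y) X.property ?_ ?_
    · have h : RepWith @IsProper ((yon S).map πo) := (repWith_yon_iff πo).2 hπ
      exact (isProperMor_iff_repWith (IsAlgSpace.yon_obj T) (IsAlgSpace.yon_obj Y) h.1).2 h
    · exact (isProperMor_iff_repWith (IsAlgSpace.yon_obj Y) X.property hg.1).2 (repWith_mono (fun _ _ r hr => by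
        have : IsFinite r := hr
        show IsProper r
        infer_instance) hg)
  · obtain ⟨y, rfl⟩ := hgs x
    obtain ⟨y', rfl⟩ := (Points.schemeHomeo Y).surjective y
    obtain ⟨t, rfl⟩ := π.surjective y'
    exact ⟨Points.schemeHomeo T t, by
      rw [Points.map_comp, show π t = πo.left t from rfl, ← Points.map_yon_map_apply]⟩

/-- a proper open and closed part over the closed fibre of a henselian pair lifts -/
theorem exists_clopen_space (A : Type u) [CommRing A] (I : Ideal A) [HenselianRing A I]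
    {X X0 Y : Space (Spec (CommRingCat.of A))}
    (s : X.obj ⟶ (yon (Spec (CommRingCat.of A))).obj (Over.mk (𝟙 _)))
    (hs1 : IsSeparatedMor s) (hs2 : IsFiniteTypeMor s) (i0 : X0 ⟶ X)
    (s0 : X0.obj ⟶ (yon (Spec (CommRingCat.of A))).obj
      (Over.mk (Spec.map (CommRingCat.ofHom (Ideal.Quotient.mk I)))))
    (hX0 : IsPullback i0.hom s0 s ((yon (Spec (CommRingCat.of A))).map
      (Over.homMk (Spec.map (CommRingCat.ofHom (Ideal.Quotient.mk I))) (Category.comp_id _) :
        Over.mk (Spec.map (CommRingCat.ofHom (Ideal.Quotient.mk I))) ⟶ Over.mk (𝟙 _))))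
    (jY : Y ⟶ X0) (hY1 : RepWith @IsOpenImmersion jY.hom) (hY2 : RepWith @IsClosedImmersion jY.hom)
    (hY3 : IsProperMor (jY.hom ≫ s0)) :
    ∃ (W : Space (Spec (CommRingCat.of A))) (w : W ⟶ X) (k : Y ⟶ W),
      RepWith @IsOpenImmersion w.hom ∧ RepWith @IsClosedImmersion w.hom ∧
        IsProperMor (w.hom ≫ s) ∧ IsPullback k.hom jY.hom w.hom i0.hom := by
  let B := Spec (CommRingCat.of A)
  let c : Spec (CommRingCat.of (A ⧸ I)) ⟶ B := Spec.map (CommRingCat.ofHom (Ideal.Quotient.mk I))
  let co : Over.mk c ⟶ Over.mk (𝟙 B) := Over.homMk c (Category.comp_id _)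
  haveI : IsClosedImmersion c := IsClosedImmersion.spec_of_surjective _ Ideal.Quotient.mk_surjective
  have hcR : RepWith @IsClosedImmersion ((yon B).map co) := (repWith_yon_iff co).2 (inferInstanceAs (IsClosedImmersion c))
  have hi0 : RepWith @IsClosedImmersion i0.hom := repWith_baseChange hX0.flip hcR
  have hi0Y : RepWith @IsClosedImmersion (jY.hom ≫ i0.hom) := repWith_comp hY2 hi0
  obtain ⟨Y₁, g, hg, hgs, hYs, hYl, hYq⟩ := exists_sch_cover X s hs1 hs2
  haveI := hYs
  haveI := hYl
  haveI := hYq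
  have hT := IsAlgSpace.yon_obj (S := B) (Over.mk (𝟙 B))
  have hgP : IsProperMor g := (isProperMor_iff_repWith (IsAlgSpace.yon_obj Y₁) X.property hg.1).2
    (repWith_mono (fun _ _ r hr => by
      have : IsFinite r := hr
      show IsProper r
      infer_instance) hg)
  have hgcl : IsClosedMap (Points.map g) := hgP.2.2 X.property (𝟙 _) (𝟙 _) g (IsPullback.id_horiz g)
  have hofPt : ∀ y, Points.ofPt g y = Points.map g (Points.schemeHomeo Y₁ y) := fun y =>
    Points.ofPt_eq_map_ofScheme g y
  have hgcl' : ∀ C : Set Y₁.left, IsClosed C → IsClosed (Points.ofPt g '' C) := fun C hC => by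
    rw [show Points.ofPt g '' C = Points.map g '' (Points.schemeHomeo Y₁ '' C) by
      rw [Set.image_image]; exact Set.image_congr fun y _ => hofPt y]
    exact hgcl _ ((Points.schemeHomeo Y₁).isClosedMap _ hC)
  obtain ⟨Q, qy, q, sqQ, hq⟩ := exists_repWith hi0Y g
  haveI : IsClosedImmersion q.left := hq
  have hqF : RepWith @IsFinite qy := repWith_baseChange sqQ.flip hg
  have hQP : IsProperMor (qy ≫ (jY.hom ≫ s0) ≫ (yon B).map co) :=
    isProperMor_comp Y.property hT ((isProperMor_iff_repWith (IsAlgSpace.yon_obj Q) Y.property hqF.1).2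
      (repWith_mono (fun _ _ r hr => by
        have : IsFinite r := hr
        show IsProper r
        infer_instance) hqF))
      (isProperMor_comp (IsAlgSpace.yon_obj (Over.mk c)) hT hY3 (isProperMor_of_closedImmersion (IsAlgSpace.yon_obj (Over.mk c)) hT hcR))
  haveI : IsProper (q.left ≫ Y₁.hom) := by
    obtain ⟨m, hm⟩ := exists_map_eq (qy ≫ (jY.hom ≫ s0) ≫ (yon B).map co)
    have hmh : m.left = q.left ≫ Y₁.hom := by
      exact ((Category.comp_id _).symm.trans (Over.w m)).trans (Over.w q).symm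
    rw [← hmh]
    have hR : Representable ((yon B).map m) := Functor.relativelyRepresentable.of_diag hT.diag _
    exact (repWith_yon_iff (P := @IsProper) m).1 ((isProperMor_iff_repWith (IsAlgSpace.yon_obj Q) hT hR).1 (hm ▸ hQP))
  have hi0i : Function.Injective (Points.map i0.hom) := (immersion_topology X.property (repWith_mono
    (P := @IsClosedImmersion) (Q := @IsImmersion) (fun _ _ r hr => by
      have : IsClosedImmersion r := hr
      infer_instance) hi0)).1.injective
  let C₀ : Set (Points X.obj) := Points.map i0.hom '' (Set.range (Points.map jY.hom))ᶜ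
  have hYo : IsOpen (Set.range (Points.map jY.hom)) := by
    rw [Points.isOpen_iff]
    intro T h
    obtain ⟨O, fst, sq⟩ := SchImg.exists_open_pullback hY1 h
    rw [show Points.ofPt h ⁻¹' Set.range (Points.map jY.hom) = (O : Set T.left) from
      Set.ext fun t => (SchImg.mem_open_iff sq t).symm]
    exact O.2
  have hC₀ : IsClosed C₀ := SpChev.isClosedMap_map_of_closed X.property hi0 _ hYo.isClosed_compl
  have hfib : ∀ y : Y₁.left, I ≤ (Y₁.hom y).asIdeal ↔ Points.ofPt g y ∈ Set.range (Points.map i0.hom) := fun y => by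
    rw [range_map_of_isPullback hX0.flip]
    rw [Set.mem_preimage]
    obtain ⟨m, hm⟩ := exists_map_eq (g ≫ s)
    have hmh : m.left = Y₁.hom := by
      exact (Category.comp_id _).symm.trans (Over.w m)
    rw [hofPt, ← Points.map_comp, ← hm, Points.map_yon_map_apply, ← hmh]
    have hr : Set.range c = {x : B | I ≤ x.asIdeal} := by
      show Set.range (PrimeSpectrum.comap (Ideal.Quotient.mk I)) = _
      rw [_root_.range_comap_of_surjective _ _ Ideal.Quotient.mk_surjective, Ideal.mk_ker]
      ext x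
      exact Iff.rfl
    refine ⟨fun h => ?_, fun ⟨z, hz⟩ => ?_⟩
    · obtain ⟨z, hz⟩ := hr.ge h
      exact ⟨Points.schemeHomeo (Over.mk c) z, (Points.map_yon_map_apply co z).trans (congrArg _ hz)⟩
    · obtain ⟨z, rfl⟩ := (Points.schemeHomeo (Over.mk c)).surjective z
      rw [Points.map_yon_map_apply] at hz
      exact hr.le ⟨z, (Points.schemeHomeo _).injective hz⟩
  have hrq : Set.range q.left = Points.ofPt g ⁻¹' Set.range (Points.map (jY.hom ≫ i0.hom)) :=
    Set.ext fun y => SchImg.mem_range_iff_of_isPullback sqQ y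
  have hsplit : ∀ x, x ∈ Set.range (Points.map i0.hom) ↔ x ∈ Set.range (Points.map (jY.hom ≫ i0.hom)) ∨ x ∈ C₀ := fun x => by
    constructor
    · rintro ⟨z, rfl⟩
      by_cases hz : z ∈ Set.range (Points.map jY.hom)
      · obtain ⟨a, rfl⟩ := hz
        exact Or.inl ⟨a, Points.map_comp _ _ _⟩
      · exact Or.inr ⟨z, hz, rfl⟩
    · rintro (⟨a, rfl⟩ | ⟨z, -, rfl⟩)
      · exact ⟨Points.map jY.hom a, (Points.map_comp _ _ _).symm⟩
      · exact ⟨z, rfl⟩
  have hd₀ : Disjoint (Set.range (Points.map (jY.hom ≫ i0.hom))) C₀ := Set.disjoint_left.2 fun x ⟨a, ha⟩ ⟨z, hz, hzx⟩ =>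
    hz ⟨a, hi0i (by rw [hzx, ← ha, Points.map_comp])⟩
  obtain ⟨W', hW'c, hW'p, hW'q, hW'2⟩ := ZarConn.exists_clopen_lift_proper I Y₁.hom q.left
    (Points.ofPt g ⁻¹' C₀) (hC₀.preimage (Points.continuous_ofPt g)) (by rw [hrq]; exact hd₀.preimage _)
    (fun y => by rw [hfib, hsplit, hrq]; rfl)
  haveI := hW'p
  let T : Set (Points X.obj) := Points.ofPt g '' (W' : Set Y₁.left)
  let T' : Set (Points X.obj) := Points.ofPt g '' (W' : Set Y₁.left)ᶜ
  have hTc : IsClosed T := hgcl' _ hW'c
  have hT'c : IsClosed T' := hgcl' _ W'.2.isClosed_compl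
  have hgy : Function.Surjective (Points.ofPt g) := fun x => by
    obtain ⟨z, rfl⟩ := hgs x
    obtain ⟨y, rfl⟩ := (Points.schemeHomeo Y₁).surjective z
    exact ⟨y, hofPt y⟩
  have hTd : Disjoint T T' := Set.disjoint_left.2 fun x hx hx' => by
    obtain ⟨y, hy, rfl⟩ := hx
    obtain ⟨w, hw, hwI⟩ := ZarConn.exists_mem_over_ideal (W'.ι ≫ Y₁.hom) (HenselianRing.jac (I := I))
      (W'.ι ⁻¹' (Points.ofPt g ⁻¹' T')) ((hT'c.preimage (Points.continuous_ofPt g)).preimage W'.ι.continuous)
      ⟨⟨y, hy⟩, hx'⟩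
    rw [Scheme.Hom.comp_apply, hfib] at hwI
    obtain ⟨y', hy', he⟩ := hw
    rcases (hsplit _).1 hwI with h | h
    · exact hy' (hW'q y' (hrq.ge (show Points.ofPt g y' ∈ _ from he ▸ h)))
    · exact hW'2 _ h w.2
  have hTo : IsOpen T := by
    have : T = T'ᶜ := by
      ext x
      refine ⟨fun h => Set.disjoint_left.1 hTd h, fun h => ?_⟩
      obtain ⟨y, rfl⟩ := hgy x
      exact ⟨y, by_contra fun hy => h ⟨y, hy, rfl⟩, rfl⟩
    rw [this]
    exact hT'c.isOpen_compl
  have hTi : RepWith @IsOpenImmersion (subInc T) := repWith_subInc hTo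
  have hTI : RepWith @IsImmersion (subInc T) := repWith_mono (P := @IsOpenImmersion) (Q := @IsImmersion)
    (fun _ _ r hr => by
      have : IsOpenImmersion r := hr
      infer_instance) hTi
  have hTcl : RepWith @IsClosedImmersion (subInc T) :=
    (repWith_isClosedImmersion_iff X.property hTI).2 (by rw [range_subInc]; exact hTc)
  have hWa := isAlgSpace_subSheaf X.property hTo
  have hYT : Set.range (Points.map (jY.hom ≫ i0.hom)) ⊆ T := fun x hx => by
    obtain ⟨y, rfl⟩ := hgy x
    exact ⟨y, hW'q y (hrq.ge hx), rfl⟩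
  obtain ⟨k, hk⟩ := exists_factor_subInc (W := T) (jY.hom ≫ i0.hom) fun x => hYT ⟨x, rfl⟩
  haveI : Mono (subInc T) := mono_of_repWith_immersion hTI
  refine ⟨⟨subSheaf T, hWa⟩, ObjectProperty.homMk (subInc T), ObjectProperty.homMk k, hTi, hTcl, ?_, ?_⟩
  · have hclP := isProperMor_of_closedImmersion hWa X.property hTcl
    refine ⟨isSeparatedMor_comp hclP.1 hs1, ⟨locP_comp etST_lft X.property hT hclP.2.1.1 hs2.1,
      isQuasiCompactMor_comp X.property hT hclP.2.1.2 hs2.2⟩, ?_⟩
    let W'' : Over B := Over.mk (W'.ι ≫ Y₁.hom)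
    let ι' : W'' ⟶ Y₁ := Over.homMk W'.ι rfl
    obtain ⟨l, hl⟩ := exists_factor_subInc (W := T) ((yon B).map ι' ≫ g) fun z => by
      obtain ⟨w, rfl⟩ := (Points.schemeHomeo W'').surjective z
      rw [Points.map_comp, Points.map_yon_map_apply, ← hofPt]
      exact ⟨_, w.2, rfl⟩
    have hls : IsSurjectiveMor l := fun z => by
      obtain ⟨y, hy, he⟩ : Points.map (subInc T) z ∈ T := map_subInc_mem z
      refine ⟨Points.schemeHomeo W'' ⟨y, hy⟩, (immersion_topology X.property hTI).1.injective ?_⟩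
      rw [← Points.map_comp, hl, Points.map_comp, Points.map_yon_map_apply, ← hofPt]
      exact he
    refine isUnivClosedMor_of_surjective_comp hls ?_
    obtain ⟨m, hm⟩ := exists_map_eq (l ≫ subInc T ≫ s)
    show IsUnivClosedMor (l ≫ subInc T ≫ s)
    rw [← hm]
    have hmh : m.left = W'.ι ≫ Y₁.hom := by
      exact (Category.comp_id _).symm.trans (Over.w m)
    have hR : RepWith @UniversallyClosed ((yon B).map m) := (repWith_yon_iff m).2 (by rw [hmh]; infer_instance)
    exact (isUnivClosedMor_iff_repWith hR.1).2 hR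
  · refine isPullback_of_points hk fun Z a b e => ?_
    obtain ⟨b', hb'⟩ := (exists_factor_iff Y.property X0.property jY.hom hY1 b).2 (by
      rintro _ ⟨z, rfl⟩
      by_contra hcon
      obtain ⟨y, hy, he⟩ : Points.map (subInc T) (Points.map a z) ∈ T := map_subInc_mem _
      have he' : Points.ofPt g y = Points.map i0.hom (Points.map b z) := by
        rw [he, ← Points.map_comp, ← Points.map_comp]
        exact congrArg (fun r => Points.map r z) e
      exact hW'2 y ⟨_, hcon, he'.symm⟩ hy)
    haveI : Mono jY.hom := mono_of_repWith_immersion (repWith_mono (P := @IsOpenImmersion) (Q := @IsImmersion)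
      (fun _ _ r hr => by
        have : IsOpenImmersion r := hr
        infer_instance) hY1)
    refine ⟨b', ⟨?_, hb'⟩, fun b'' hb'' => (cancel_mono jY.hom).1 (hb''.2.trans hb'.symm)⟩
    show b' ≫ k = a
    rw [← cancel_mono (subInc T), Category.assoc, hk, reassoc_of% hb']
    exact e.symm

end Groth.Agent.SpApprox

end
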