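import Groth.Agent.SpApprox.AbsKer
import Groth.Agent.SpApprox.HomLim
import Groth.Agent.AlgSpLib.LocP
import Groth.Agent.LimDesc.FPCancel
import Groth.Agent.AbsApprox.Basic
import Groth.Agent.AbsApprox.Immersion
import Groth.Agent.SpDesc.EventClosed

/-!
Spaces of finite type over the terminal scheme.
-/

set_option autoImplicit false
set_option linter.style.haveILetI false
set_option backward.isDefEq.respectTransparency false

universe u

noncomputable section

open CategoryTheory CategoryTheory.Limits AlgebraicGeometry Opposite AlgSp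

namespace Groth.Agent.SpApprox

open Groth.Agent.AlgSpLib

variable {S : Scheme.{u}}

/-- a scheme as a scheme over the terminal one -/
def overT (hS : IsTerminal S) : Scheme.{u} ⥤ Over S where
  obj T := Over.mk (hS.from T)
  map f := Over.homMk f (hS.hom_ext _ _)

theorem isLocallyNoetherian_terminal (hS : IsTerminal S) : IsLocallyNoetherian S := by
  haveI : IsNoetherianRing (ULift.{u} ℤ) := isNoetherianRing_of_ringEquiv ℤ ULift.ringEquiv.symm
  exact LocallyOfFiniteType.isLocallyNoetherian
    (hS.uniqueUpToIso specULiftZIsTerminal.{u}).hom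

theorem quasiSeparatedSpace_terminal (hS : IsTerminal S) : QuasiSeparatedSpace ↥S :=
  haveI := isLocallyNoetherian_terminal hS
  inferInstance

theorem lft_overT (hS : IsTerminal S) {T : Scheme.{u}}
    (h : LocallyOfFiniteType (specULiftZIsTerminal.from T)) : LocallyOfFiniteType ((overT hS).obj T).hom := by
  show LocallyOfFiniteType (hS.from T)
  rw [show hS.from T = specULiftZIsTerminal.from T ≫ (hS.uniqueUpToIso specULiftZIsTerminal.{u}).inv from
    hS.hom_ext _ _]
  infer_instance

/-- locally of finite type over a noetherian base is of finite presentation -/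
theorem lfp_base [IsLocallyNoetherian S] {F : Sp S} {f : F ⟶ (yon S).obj (Over.mk (𝟙 S))}
    (hf : LocP @LocallyOfFiniteType f) : LocP @LocallyOfFinitePresentation f := by
  intro U V a b h ha hb comm
  haveI : LocallyOfFiniteType h.left := hf a b h ha hb comm
  obtain ⟨b', rfl⟩ := exists_map_eq b
  haveI : Etale b'.left := (repWith_yon_iff b').1 hb
  haveI : IsLocallyNoetherian (Over.mk (𝟙 S) : Over S).left := ‹IsLocallyNoetherian S›
  haveI : IsLocallyNoetherian V.left := LocallyOfFiniteType.isLocallyNoetherian b'.left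
  exact AbsApprox.lfp_of_lft_noetherian h.left

theorem locP_yon {P : MorphismProperty Scheme.{u}} {U V : Over S} {f : U ⟶ V}
    (h : LocP P ((yon S).map f)) : P f.left :=
  h (𝟙 _) (𝟙 _) f (repWith_id _ U) (repWith_id _ V) (by rw [Category.id_comp, Category.comp_id])

theorem lfp_cancel {X Y Z : Sp S} (hZ : IsAlgSpace Z) {f : X ⟶ Y} {g : Y ⟶ Z}
    (h : LocP @LocallyOfFinitePresentation (f ≫ g)) (hg : LocP @LocallyOfFiniteType g) :
    LocP @LocallyOfFinitePresentation f :=
  locP_cancel etST_lfp (Q := @LocallyOfFiniteType) (fun _ _ _ f' g' (h1 : LocallyOfFiniteType g')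
    (h2 : LocallyOfFinitePresentation (f' ≫ g')) => LimDesc.lfp_of_comp f' g') hZ h hg

theorem lfp_of_etale {X Y : Sp S} (hY : IsAlgSpace Y) {f : X ⟶ Y} (hf : IsEtaleMor f) :
    LocP @LocallyOfFinitePresentation f := fun U V a b h ha hb comm => by
  have : Etale h.left := (isEtaleMor_iff_locP hY).1 hf a b h ha hb comm
  infer_instance

theorem lft_of_lfp {X Y : Sp S} {f : X ⟶ Y} (hf : LocP @LocallyOfFinitePresentation f) :
    LocP @LocallyOfFiniteType f := fun U V a b h ha hb comm => by
  have : LocallyOfFinitePresentation h.left := hf a b h ha hb comm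
  infer_instance

theorem isEtaleMor_baseChange {X Y X' Y' : Sp S} (hX : IsAlgSpace X) (hY : IsAlgSpace Y) (hY' : IsAlgSpace Y')
    {f : X ⟶ Y} {g : Y' ⟶ Y} {q : X' ⟶ X} {p : X' ⟶ Y'} (sq : IsPullback q p f g) (h : IsEtaleMor f) :
    IsEtaleMor p :=
  (isEtaleMor_iff_locP hY').2 (locP_baseChange etST_etale hX hY
    (isAlgSpace_of_isPullback_space hY hX hY' sq) hY' sq ((isEtaleMor_iff_locP hY).1 h))

theorem isSeparatedMor_of_affine {X Y : Sp S} (hX : IsAlgSpace X) (hY : IsAlgSpace Y) {f : X ⟶ Y}
    (hf : RepWith @IsAffineHom f) : IsSeparatedMor f :=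
  (isSeparatedMor_iff_repWith hX hY hf.1).2 (repWith_mono (fun _ _ r hr => by
    have : IsAffineHom r := hr
    infer_instance) hf)

end Groth.Agent.SpApprox

end
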