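import Groth.Prelude.Def_AlgSp
import Mathlib.AlgebraicGeometry.Sites.Fpqc
import Groth.Prelude.Def_BigSite2
import Mathlib.AlgebraicGeometry.GammaSpecAdjunction
import Mathlib.Algebra.Polynomial.Eval.Defs

/-!
Global functions glue for the fppf topology over a base.
-/

set_option autoImplicit false
set_option backward.isDefEq.respectTransparency false

universe u

noncomputable section

open CategoryTheory CategoryTheory.Limits AlgebraicGeometry Opposite AlgSp

namespace Groth.Agent.SpApprox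

/-- the affine line over the integers -/
abbrev line : Scheme.{u} := Spec (CommRingCat.of (Polynomial (ULift.{u} ℤ)))

/-- functions are maps to the line -/
def toLine {Z : Scheme.{u}} (s : Γ(Z, ⊤)) : Z ⟶ line.{u} :=
  Z.toSpecΓ ≫ Spec.map (CommRingCat.ofHom (Polynomial.eval₂RingHom
    ((Int.castRingHom Γ(Z, ⊤)).comp (ULift.ringEquiv.{0, u} : ULift.{u} ℤ ≃+* ℤ).toRingHom) s))

/-- the coordinate -/
def coord : Γ(line.{u}, ⊤) := (Scheme.ΓSpecIso (CommRingCat.of (Polynomial (ULift.{u} ℤ)))).inv Polynomial.X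

theorem toLine_coord {Z : Scheme.{u}} (s : Γ(Z, ⊤)) : (toLine s).appTop.hom coord.{u} = s := by
  simp [toLine, coord, Scheme.Hom.comp_appTop]

theorem toLine_injective {Z : Scheme.{u}} {f g : Z ⟶ line.{u}} (h : f.appTop.hom coord.{u} = g.appTop.hom coord.{u}) :
    f = g := by
  apply ext_to_Spec
  refine CommRingCat.hom_ext (Polynomial.ringHom_ext' (RingHom.ext fun z => ?_) ?_)
  · exact RingHom.congr_fun (Subsingleton.elim
      (((f.appTop.hom.comp (Scheme.ΓSpecIso _).inv.hom).comp Polynomial.C).comp (ULift.ringEquiv.{0, u} : ULift.{u} ℤ ≃+* ℤ).symm.toRingHom)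
      (((g.appTop.hom.comp (Scheme.ΓSpecIso _).inv.hom).comp Polynomial.C).comp (ULift.ringEquiv.{0, u} : ULift.{u} ℤ ≃+* ℤ).symm.toRingHom))
      z.down
  · simpa [coord] using h

theorem toLine_comp {Z Z' : Scheme.{u}} (k : Z' ⟶ Z) (s : Γ(Z, ⊤)) : k ≫ toLine s = toLine (k.appTop.hom s) :=
  toLine_injective (by rw [Scheme.Hom.comp_appTop, CommRingCat.comp_apply, toLine_coord, toLine_coord])

variable {S : Scheme.{u}}

/-- functions agreeing on a covering sieve agree -/
theorem gamma_ext {W : Over S} {R : Sieve W} (hR : R ∈ AlgSp.J S W) {s t : Γ(W.left, ⊤)}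
    (h : ∀ ⦃V : Over S⦄ (f : V ⟶ W), R f → f.left.appTop.hom s = f.left.appTop.hom t) : s = t := by
  have hsh : Presieve.IsSheafFor (yoneda.obj line.{u}) ((Sieve.overEquiv W R).arrows) :=
    GrothendieckTopology.Subcanonical.isSheaf_of_isRepresentable (J := Scheme.fppfTopology) _ _ ((GrothendieckTopology.mem_over_iff _ R).1 hR)
  have e : toLine s = toLine t := hsh.isSeparatedFor.ext fun Z g hg => by
    show g ≫ toLine s = g ≫ toLine t
    rw [toLine_comp, toLine_comp]
    exact congrArg toLine (h (Over.homMk g rfl : Over.mk (g ≫ W.hom) ⟶ W) ((Sieve.overEquiv_iff R g).1 hg))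
  rw [← toLine_coord s, e, toLine_coord]

/-- functions glue -/
theorem gamma_glue {W : Over S} {R : Sieve W} (hR : R ∈ AlgSp.J S W)
    (x : ∀ ⦃V : Over S⦄ (f : V ⟶ W), R f → Γ(V.left, ⊤))
    (hx : ∀ ⦃V V' : Over S⦄ (f : V ⟶ W) (c : V' ⟶ V) (hf : R f),
      x (c ≫ f) (R.downward_closed hf c) = c.left.appTop.hom (x f hf)) :
    ∃ s : Γ(W.left, ⊤), ∀ ⦃V : Over S⦄ (f : V ⟶ W) (hf : R f), f.left.appTop.hom s = x f hf := by
  have hsh : Presieve.IsSheafFor (yoneda.obj line.{u}) ((Sieve.overEquiv W R).arrows) :=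
    GrothendieckTopology.Subcanonical.isSheaf_of_isRepresentable (J := Scheme.fppfTopology) _ _ ((GrothendieckTopology.mem_over_iff _ R).1 hR)
  let fam : Presieve.FamilyOfElements (yoneda.obj line.{u}) ((Sieve.overEquiv W R).arrows) := fun Z g hg =>
    toLine (x (Over.homMk g rfl : Over.mk (g ≫ W.hom) ⟶ W) ((Sieve.overEquiv_iff R g).1 hg))
  have hfam : fam.Compatible := by
    rw [Presieve.compatible_iff_sieveCompatible]
    intro Z Z' g c hg
    show fam (c ≫ g) ((Sieve.overEquiv W R).downward_closed hg c) = c ≫ fam g hg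
    let c' : Over.mk ((c ≫ g) ≫ W.hom) ⟶ Over.mk (g ≫ W.hom) := Over.homMk c (Category.assoc _ _ _).symm
    show toLine _ = c ≫ toLine _
    rw [toLine_comp]
    refine congrArg toLine (Eq.trans ?_ (hx (Over.homMk g rfl : Over.mk (g ≫ W.hom) ⟶ W) c' _))
    congr 1
  obtain ⟨s, hs, -⟩ := hsh fam hfam
  refine ⟨s.appTop.hom coord.{u}, fun V f hf => ?_⟩
  have hf' : Sieve.overEquiv W R f.left := (Sieve.overEquiv_iff R f.left).2 (by
    have e : (Over.homMk f.left rfl : Over.mk (f.left ≫ W.hom) ⟶ W) = (Over.homMk (𝟙 _) (by simp) : Over.mk (f.left ≫ W.hom) ⟶ V) ≫ f := by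
      ext1; simp
    rw [e]
    exact R.downward_closed hf _)
  have hcongr : ∀ {V' : Over S} {g g' : V' ⟶ W} (eq : g = g') (h : R g) (h' : R g'), x g h = x g' h' := by
    rintro _ _ _ rfl _ _; rfl
  let c : Over.mk (f.left ≫ W.hom) ⟶ V := Over.homMk (𝟙 _) (by simp)
  have e : (Over.homMk f.left rfl : Over.mk (f.left ≫ W.hom) ⟶ W) = c ≫ f := by
    ext1; simp [c]
  have h0 := congrArg (fun m : V.left ⟶ line.{u} => m.appTop.hom coord.{u}) (hs f.left hf')
  refine (show f.left.appTop.hom (s.appTop.hom coord.{u}) = _ from h0).trans ?_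
  refine (toLine_coord _).trans ((hcongr e _ (R.downward_closed hf c)).trans ((hx f c hf).trans ?_))
  simp [c]

end Groth.Agent.SpApprox
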