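import Groth.Agent.SpApprox.AbsBase
import Groth.Agent.SpApprox.GammaGlue
import Groth.Agent.EtGlue.Main
import Groth.Agent.ElemSq.Step
import Groth.Agent.AlgSpLib.QSChart
import Groth.Agent.AlgSpLib.CoverDesc

/-!
Tools for the glueing step of absolute noetherian approximation of spaces.
-/

set_option autoImplicit false
set_option linter.style.haveILetI false
set_option backward.isDefEq.respectTransparency false

universe u

noncomputable section

open CategoryTheory CategoryTheory.Limits AlgebraicGeometry Opposite AlgSp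

namespace Groth.Agent.SpApprox

open Groth.Agent.AlgSpLib

variable {S : Scheme.{u}}

/-- functions vanish on a flat covering family only if they vanish -/
theorem gamma_injective_flat {ι : Type u} {Z : Scheme.{u}} {Zi : ι → Scheme.{u}} (g : ∀ i, Zi i ⟶ Z)
    [∀ i, Flat (g i)] (hs : ∀ z, ∃ i, z ∈ Set.range (g i)) {s t : Γ(Z, ⊤)}
    (h : ∀ i, (g i).appTop.hom s = (g i).appTop.hom t) : s = t := by
  haveI : Flat (Sigma.desc g) := IsZariskiLocalAtSource.sigmaDesc (P := @Flat) fun i => inferInstance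
  haveI : Surjective (Sigma.desc g) := ⟨fun z => by
    obtain ⟨i, w, hw⟩ := hs z
    exact ⟨Sigma.ι Zi i w, by rw [← Scheme.Hom.comp_apply, Sigma.ι_desc]; exact hw⟩⟩
  haveI := Flat.epi_of_flat_of_surjective (Sigma.desc g)
  have e : toLine s = toLine t := by
    rw [← cancel_epi (Sigma.desc g)]
    refine Sigma.hom_ext _ _ fun i => ?_
    rw [Sigma.ι_desc_assoc, Sigma.ι_desc_assoc, toLine_comp, toLine_comp, h i]
  rw [← toLine_coord s, e, toLine_coord]

theorem isFppfCover_baseChange {ι : Type u} {Y Y' : Sp S} {Yi Zi : ι → Sp S} {g : ∀ i, Yi i ⟶ Y} (hY : IsAlgSpace Y)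
    (hYi : ∀ i, IsAlgSpace (Yi i)) (hY' : IsAlgSpace Y') (hg : IsFppfCover Yi g) (c : Y' ⟶ Y)
    {p : ∀ i, Zi i ⟶ Y'} {q : ∀ i, Zi i ⟶ Yi i} (sq : ∀ i, IsPullback (q i) (p i) (g i) c) :
    IsFppfCover Zi p := by
  have hZ : ∀ i, IsAlgSpace (Zi i) := fun i => isAlgSpace_of_isPullback_space hY (hYi i) hY' (sq i)
  refine ⟨fun i => ⟨locP_baseChange etST_flat (hYi i) hY (hZ i) hY' (sq i) (hg.1 i).1,
    locP_baseChange etST_lfp (hYi i) hY (hZ i) hY' (sq i) (hg.1 i).2⟩, fun y => ?_⟩
  obtain ⟨i, x, hx⟩ := hg.2 (Points.map c y)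
  obtain ⟨z, -, hz⟩ := exists_point_of_isPullback (sq i) x y hx
  exact ⟨i, z, hz⟩

/-- being an isomorphism is local on the target for fppf covers -/
theorem isIso_of_fppfCover {ι : Type u} {W L : Sp S} {Li Wi : ι → Sp S} {g : ∀ i, Li i ⟶ L} (hL : IsAlgSpace L)
    (hLi : ∀ i, IsAlgSpace (Li i)) (hg : IsFppfCover Li g) (ψ : W ⟶ L) {a : ∀ i, Wi i ⟶ W} {b : ∀ i, Wi i ⟶ Li i}
    (sq : ∀ i, IsPullback (b i) (a i) (g i) ψ) [∀ i, IsIso (b i)] : IsIso ψ := by
  haveI : Epi ψ := ⟨fun x y h => hom_ext_of_fppfCover hL hLi hg fun i => by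
    rw [← cancel_epi (b i), reassoc_of% (sq i).w, reassoc_of% (sq i).w, h]⟩
  haveI : Mono ψ := mono_of_points ψ fun U x y h => by
    let c := x ≫ ψ
    refine hom_ext_of_fppfCover (IsAlgSpace.yon_obj U)
      (fun i => isAlgSpace_of_isPullback_space hL (hLi i) (IsAlgSpace.yon_obj U) (IsPullback.of_hasPullback (g i) c))
      (isFppfCover_baseChange hL hLi (IsAlgSpace.yon_obj U) hg c (fun i => IsPullback.of_hasPullback (g i) c))
      fun i => ?_
    have e1 : pullback.fst (g i) c ≫ g i = (pullback.snd (g i) c ≫ x) ≫ ψ := by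
      rw [pullback.condition, Category.assoc]
    have e2 : pullback.fst (g i) c ≫ g i = (pullback.snd (g i) c ≫ y) ≫ ψ := by
      rw [pullback.condition, Category.assoc]
      exact congrArg _ h
    rw [← (sq i).lift_snd _ _ e1, ← (sq i).lift_snd _ _ e2]
    refine congrArg (· ≫ a i) ((cancel_mono (b i)).1 ?_)
    rw [(sq i).lift_fst, (sq i).lift_fst]
  exact isIso_of_mono_of_epi ψ

/-- a space covered by two quasi-compact quasi-separated pieces with quasi-compact overlaps -/
theorem qcqs_of_two [QuasiSeparatedSpace ↥S] {U V W : Sp S} (hU : IsAlgSpace U) (hV : IsAlgSpace V) (hW : IsAlgSpace W)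
    (j : U ⟶ W) (f : V ⟶ W) (hje : IsEtaleMor j) (hfe : IsEtaleMor f)
    (hcov : ∀ w : Points W, w ∈ Set.range (Points.map j) ∨ w ∈ Set.range (Points.map f))
    (hUq : IsQuasiCompactSp U) (hUs : IsQuasiSeparatedSp U) (hVq : IsQuasiCompactSp V) (hVs : IsQuasiSeparatedSp V)
    (hUU : IsQuasiCompactSp (pullback j j)) (hUV : IsQuasiCompactSp (pullback j f))
    (hVV : IsQuasiCompactSp (pullback f f)) :
    IsQuasiCompactSp W ∧ IsQuasiSeparatedSp W := by
  haveI := compactSpace_of_isQuasiCompactSp hUq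
  haveI := compactSpace_of_isQuasiCompactSp hVq
  refine ⟨?_, ?_⟩
  · haveI : CompactSpace (Points W) := ⟨by
      rw [show (Set.univ : Set (Points W)) = Set.range (Points.map j) ∪ Set.range (Points.map f) from
        (Set.eq_univ_of_forall hcov).symm]
      exact (isCompact_range (Points.continuous_map j)).union (isCompact_range (Points.continuous_map f))⟩
    exact isQuasiCompactSp_of_compactSpace hW
  obtain ⟨A₀, a₀, hA₀, ha₀, ha₀s⟩ := exists_affine_chart_of_compact hU
  obtain ⟨A₁, a₁, hA₁, ha₁, ha₁s⟩ := exists_affine_chart_of_compact hV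
  let A : ULift.{u} Bool → Over S := fun b => bif b.down then A₀ else A₁
  let Y : ULift.{u} Bool → Sp S := fun b => bif b.down then U else V
  let q : ∀ b, Y b ⟶ W := fun b => match b with
    | ⟨true⟩ => j
    | ⟨false⟩ => f
  let al : ∀ b, (yon S).obj (A b) ⟶ Y b := fun b => match b with
    | ⟨true⟩ => a₀
    | ⟨false⟩ => a₁
  have hY : ∀ b, IsAlgSpace (Y b) := fun b => match b with
    | ⟨true⟩ => hU
    | ⟨false⟩ => hV
  have hYs : ∀ b, IsQuasiSeparatedSp (Y b) := fun b => match b with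
    | ⟨true⟩ => hUs
    | ⟨false⟩ => hVs
  have hA : ∀ b, IsAffine (A b).left := fun b => match b with
    | ⟨true⟩ => hA₀
    | ⟨false⟩ => hA₁
  have hqe : ∀ b, RepWith @Etale (al b ≫ q b) := fun b => match b with
    | ⟨true⟩ => hje _ ha₀
    | ⟨false⟩ => hfe _ ha₁
  have hqq : ∀ b b', IsQuasiCompactSp (pullback (q b) (q b')) := by
    rintro ⟨_ | _⟩ ⟨_ | _⟩
    · exact hVV
    · exact isQuasiCompactSp_of_isSurjectiveMor (isAlgSpace_of_isPullback_space hW hV hU (IsPullback.of_hasPullback f j))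
        (pullbackSymmetry j f).hom (isSurjectiveMor_of_repWith (repWith_of_isIso _)) hUV
    · exact hUV
    · exact hUU
  haveI : ∀ b, IsAffine ((fun b => (A b).left) b) := hA
  let T : Over S := Over.mk (Sigma.desc fun b => (A b).hom)
  haveI : IsAffine T.left := inferInstanceAs (IsAffine (∐ fun b => (A b).left))
  let inj : ∀ b, A b ⟶ T := fun b => Over.homMk (Sigma.ι (fun b => (A b).left) b) (Sigma.ι_desc (fun b => (A b).hom) b)
  obtain ⟨colT⟩ := Bootstrap.nonempty_isColimit_yon_sigma (fun b => (A b).hom)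
  let π : (yon S).obj T ⟶ W := colT.desc (Cofan.mk W fun b => al b ≫ q b)
  have hπ : ∀ b, (yon S).map (inj b) ≫ π = al b ≫ q b := fun b => colT.fac (Cofan.mk W fun b => al b ≫ q b) ⟨b⟩
  have hsurj : ∀ t : T.left, ∃ b x, (inj b).left x = t := fun t => by
    obtain ⟨x, hx⟩ := (sigmaOpenCover (fun b => (A b).left)).covers t
    exact ⟨_, x, hx⟩
  have hπe : RepWith @Etale π := by
    have h : IsEtaleMor π := EtGlue.etale_cofan_desc colT (fun b => IsAlgSpace.yon_obj _) hW π fun b => by
      show IsEtaleMor ((yon S).map (inj b) ≫ π)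
      rw [hπ]
      exact isEtaleMor_of_repWith' (hqe b)
    have := h (𝟙 _) (repWith_id _ T)
    rwa [Category.id_comp] at this
  have hπs : RepWith @Surjective π := by
    refine repWith_surjective_of_isSurjectiveMor hπe.1 fun w => ?_
    obtain ⟨b, y, hy⟩ : ∃ b y, Points.map (q b) y = w := by
      rcases hcov w with ⟨y, hy⟩ | ⟨y, hy⟩
      · exact ⟨⟨true⟩, y, hy⟩
      · exact ⟨⟨false⟩, y, hy⟩
    obtain ⟨x, rfl⟩ := (match b with
      | ⟨true⟩ => isSurjectiveMor_of_repWith ha₀s
      | ⟨false⟩ => isSurjectiveMor_of_repWith ha₁s : Function.Surjective (Points.map (al b))) y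
    exact ⟨Points.map ((yon S).map (inj b)) x, by rw [← Points.map_comp, hπ, Points.map_comp, hy]⟩
  obtain ⟨R, t, s, sq⟩ := exists_pullback hW.diag π π
  haveI : CompactSpace (Points ((yon S).obj R)) := by
    let Q : ULift.{u} Bool × ULift.{u} Bool → Sp S := fun p => pullback (al p.1 ≫ q p.1) (al p.2 ≫ q p.2)
    have hQc : ∀ p, IsQuasiCompactSp (Q p) := fun p => by
      haveI := hA p.1
      haveI := hA p.2
      let K := pullback (q p.1) (q p.2)
      have hK : IsAlgSpace K := isAlgSpace_of_isPullback_space hW (hY _) (hY _) (IsPullback.of_hasPullback _ _)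
      have hKs : IsQuasiSeparatedSp K := isQuasiSeparatedSp_of_mor (isQuasiSeparatedMor_baseChange
        (IsPullback.of_hasPullback (q p.1) (q p.2)) (SpQS.isQuasiSeparatedMor_of_sp _ (hYs p.1))) (hYs p.2)
      let P₁ := pullback (al p.1) (pullback.fst (q p.1) (q p.2))
      obtain ⟨h1, h1'⟩ := SpQS.qcqs_of_isPullback (IsAlgSpace.yon_obj _) (hY p.1) hK
        (IsPullback.of_hasPullback (al p.1) (pullback.fst (q p.1) (q p.2))) (isQuasiCompactSp_yon _)
        (ElemSq.isQuasiSeparatedSp_yon (hA p.1)) (hYs p.1) (hqq _ _) hKs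
      let k : P₁ ⟶ Y p.2 := pullback.snd _ _ ≫ pullback.snd (q p.1) (q p.2)
      obtain ⟨h2, -⟩ := SpQS.qcqs_of_isPullback
        (isAlgSpace_of_isPullback_space (hY p.1) (IsAlgSpace.yon_obj _) hK (IsPullback.of_hasPullback _ _))
        (hY p.2) (IsAlgSpace.yon_obj _) (IsPullback.of_hasPullback k (al p.2)) h1 h1' (hYs p.2)
        (isQuasiCompactSp_yon _) (ElemSq.isQuasiSeparatedSp_yon (hA p.2))
      have big : IsPullback (pullback.fst k (al p.2) ≫ pullback.fst _ _) (pullback.snd k (al p.2))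
          (al p.1 ≫ q p.1) (al p.2 ≫ q p.2) := by
        have b1 : IsPullback (pullback.fst (al p.1) (pullback.fst (q p.1) (q p.2))) k (al p.1 ≫ q p.1) (q p.2) :=
          ((IsPullback.of_hasPullback _ _).flip.paste_horiz (IsPullback.of_hasPullback (q p.1) (q p.2)).flip).flip
        exact (IsPullback.of_hasPullback k (al p.2)).paste_horiz b1
      refine isQuasiCompactSp_of_isSurjectiveMor (isAlgSpace_of_isPullback_space hW (IsAlgSpace.yon_obj _)
        (IsAlgSpace.yon_obj _) (IsPullback.of_hasPullback _ _)) big.isoPullback.hom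
        (isSurjectiveMor_of_repWith (repWith_of_isIso _)) h2
    let l : ∀ p, Q p ⟶ (yon S).obj R := fun p =>
      sq.lift (pullback.fst _ _ ≫ (yon S).map (inj p.1)) (pullback.snd _ _ ≫ (yon S).map (inj p.2))
        (by rw [Category.assoc, Category.assoc, hπ, hπ, pullback.condition])
    refine ⟨?_⟩
    have hu : (Set.univ : Set (Points ((yon S).obj R))) = ⋃ p, Set.range (Points.map (l p)) := by
      refine (Set.eq_univ_of_forall fun r => ?_).symm
      obtain ⟨Z, z, x, rfl⟩ := exists_ofPt r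
      obtain ⟨z', rfl⟩ := exists_map_eq z
      obtain ⟨b, y, hy⟩ := hsurj ((z' ≫ t).left x)
      obtain ⟨b', y', hy'⟩ := hsurj ((z' ≫ s).left x)
      have hm : ∀ (k : ULift.{u} Bool), IsOpenImmersion (inj k).left := fun k =>
        inferInstanceAs (IsOpenImmersion (Sigma.ι (fun b => (A b).left) k))
      haveI := hm b
      haveI := hm b'
      let O := (z' ≫ t).left ⁻¹ᵁ (inj b).left.opensRange ⊓ (z' ≫ s).left ⁻¹ᵁ (inj b').left.opensRange
      let Zo : Over S := Over.mk (O.ι ≫ Z.hom)
      let m : Zo ⟶ Z := Over.homMk O.ι rfl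
      let ab : ∀ (k : ULift.{u} Bool) (c : Z ⟶ T), Set.range (O.ι ≫ c.left) ⊆ Set.range (inj k).left →
          { r : Zo ⟶ A k // r ≫ inj k = m ≫ c } := fun k c hc =>
        haveI := hm k
        ⟨Over.homMk (IsOpenImmersion.lift (inj k).left (O.ι ≫ c.left) hc) (by
          show IsOpenImmersion.lift _ _ _ ≫ (A k).hom = O.ι ≫ Z.hom
          rw [← Over.w (inj k), IsOpenImmersion.lift_fac_assoc, Category.assoc, Over.w c]),
          Over.OverMorphism.ext (IsOpenImmersion.lift_fac _ _ _)⟩
      obtain ⟨ra, hra⟩ := ab b (z' ≫ t) (by rintro _ ⟨w, rfl⟩; exact w.2.1)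
      obtain ⟨rb, hrb⟩ := ab b' (z' ≫ s) (by rintro _ ⟨w, rfl⟩; exact w.2.2)
      let ξ : (yon S).obj Zo ⟶ Q (b, b') := pullback.lift ((yon S).map ra) ((yon S).map rb) (by
        rw [← hπ, ← hπ, ← Category.assoc, ← Category.assoc, ← Functor.map_comp, ← Functor.map_comp, hra, hrb,
          Functor.map_comp, Functor.map_comp, Functor.map_comp, Functor.map_comp, Category.assoc, Category.assoc,
          Category.assoc, Category.assoc, sq.w])
      have hξ : ξ ≫ l (b, b') = (yon S).map (m ≫ z') := by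
        apply sq.hom_ext
        · rw [Category.assoc, sq.lift_fst, pullback.lift_fst_assoc, ← Functor.map_comp, hra, ← Functor.map_comp,
            Category.assoc]
        · rw [Category.assoc, sq.lift_snd, pullback.lift_snd_assoc, ← Functor.map_comp, hrb, ← Functor.map_comp,
            Category.assoc]
      have hxO : x ∈ O := ⟨⟨y, hy⟩, ⟨y', hy'⟩⟩
      refine Set.mem_iUnion.2 ⟨(b, b'), Points.ofPt ξ ⟨x, hxO⟩, ?_⟩
      rw [Points.map_ofPt, hξ, Functor.map_comp, ofPt_comp]
      rfl
    rw [hu]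
    exact isCompact_iUnion fun p => by
      haveI := compactSpace_of_isQuasiCompactSp (hQc p)
      exact isCompact_range (Points.continuous_map _)
  haveI : CompactSpace R.left := (Points.schemeHomeo R).symm.compactSpace
  haveI : QuasiCompact t.left := HasAffineProperty.iff_of_isAffine.mpr ‹CompactSpace R.left›
  exact isQuasiSeparatedSp_of_chart hW hπe hπs sq

end Groth.Agent.SpApprox

end
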