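import Groth.Agent.AbsApprox.PairLim

/-!
A closed subscheme of finite presentation of a limit is cut out by the scheme-theoretic image at a stage.
-/

set_option autoImplicit false
set_option linter.style.haveILetI false
set_option backward.isDefEq.respectTransparency false

universe u

noncomputable section

open CategoryTheory CategoryTheory.Limits AlgebraicGeometry Opposite

namespace Groth.Agent.SpApprox

open Scheme.IdealSheafData in
theorem exists_stage_ker_comap {J : Type u} [SmallCategory J] [IsCofiltered J] (Q : J ⥤ Scheme.{u}) (c : Cone Q)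
    (hc : IsLimit c) [∀ {i j : J} (f : i ⟶ j), IsAffineHom (Q.map f)] [∀ j, CompactSpace (Q.obj j)]
    [∀ j, QuasiSeparatedSpace (Q.obj j)] {W : Scheme.{u}} (z : W ⟶ c.pt) [IsClosedImmersion z]
    [LocallyOfFinitePresentation z] :
    ∃ j : J, (z ≫ c.π.app j).ker.comap (c.π.app j) = z.ker := by
  classical
  haveI : ∀ j, IsAffineHom (c.π.app j) := fun j => isAffineHom_π_app Q c hc j
  let I : ∀ j, (Q.obj j).IdealSheafData := fun j => (z ≫ c.π.app j).ker
  let K : ∀ j, c.pt.IdealSheafData := fun j => (I j).comap (c.π.app j)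
  have hle : ∀ j, K j ≤ z.ker := fun j => le_map_iff_comap_le.1 (by rw [map_ker])
  have hmono : ∀ {j k : J} (f : k ⟶ j), K j ≤ K k := fun {j k} f => by
    show (I j).comap (c.π.app j) ≤ (I k).comap (c.π.app k)
    rw [← c.w f, comap_comp]
    refine Scheme.IdealSheafData.comap_mono _ (le_map_iff_comap_le.1 ?_)
    show I j ≤ (z ≫ c.π.app k).ker.map (Q.map f)
    rw [map_ker, Category.assoc, c.w]
  obtain ⟨j₀⟩ := IsCofiltered.nonempty (C := J)
  -- one section over an affine open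
  have hone : ∀ (O : (Q.obj j₀).affineOpens)
      (s : Γ(c.pt, c.π.app j₀ ⁻¹ᵁ O.1)), s ∈ z.ker.ideal ⟨_, O.2.preimage (c.π.app j₀)⟩ →
      ∃ j, s ∈ (K j).ideal ⟨_, O.2.preimage (c.π.app j₀)⟩ := by
    intro O s hs
    have haff : ∀ k : CategoryTheory.Over j₀, IsAffine ((opensDiagram Q j₀ O.1).obj k) :=
      fun k => O.2.preimage (Q.map k.hom)
    have : ∀ {k l : CategoryTheory.Over j₀} (f : k ⟶ l), IsAffineHom ((opensDiagram Q j₀ O.1).map f) :=
      fun {k l} f => inferInstance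
    obtain ⟨k, t, ht⟩ := exists_appTop_π_eq_of_isLimit _ _ (isLimitOpensCone Q c hc j₀ O.1)
      ((c.π.app j₀ ⁻¹ᵁ O.1).topIso.inv.hom s)
    let U : (Q.obj k.left).affineOpens := ⟨Q.map k.hom ⁻¹ᵁ O.1, O.2.preimage (Q.map k.hom)⟩
    have hU : c.π.app k.left ⁻¹ᵁ U.1 = c.π.app j₀ ⁻¹ᵁ O.1 := by
      rw [← Scheme.Hom.comp_preimage, c.w]
    let r : Γ(Q.obj k.left, U.1) := U.1.topIso.hom.hom t
    have hr : (c.π.app k.left).appLE U.1 (c.π.app j₀ ⁻¹ᵁ O.1) hU.ge r = s := by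
      have h2 := congrArg (c.π.app j₀ ⁻¹ᵁ O.1).topIso.hom.hom ht
      rw [Iso.inv_hom_id_apply] at h2
      rw [h2]
      show _ = (c.π.app j₀ ⁻¹ᵁ O.1).topIso.hom.hom (((c.π.app k.left).resLE U.1 _ hU.ge).appTop.hom t)
      rw [← CommRingCat.comp_apply, ← CommRingCat.comp_apply]
      refine congrArg (fun φ => (CommRingCat.Hom.hom φ) t) ?_
      simp only [Scheme.Opens.topIso_hom, Scheme.Hom.resLE_appLE, Scheme.Hom.appTop, Scheme.Hom.app_eq_appLE]
      simp
    have key : ∀ (V : c.pt.affineOpens) (h : V.1 = c.π.app k.left ⁻¹ᵁ U.1),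
        (c.π.app k.left).appLE U.1 V.1 h.le r ∈ z.ker.ideal V →
        (c.π.app k.left).appLE U.1 V.1 h.le r ∈ (K k.left).ideal V := by
      rintro ⟨V, hV⟩ (rfl : V = _) hmem
      rw [← Scheme.Hom.app_eq_appLE] at hmem ⊢
      have h1 : r ∈ (I k.left).ideal U := by
        show r ∈ (z ≫ c.π.app k.left).ker.ideal U
        rw [Scheme.Hom.ker_apply, RingHom.mem_ker, Scheme.Hom.comp_app, CommRingCat.hom_comp, RingHom.comp_apply]
        rw [Scheme.Hom.ker_apply, RingHom.mem_ker] at hmem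
        exact hmem
      have h2 : (I k.left).ideal U ≤ ((K k.left).map (c.π.app k.left)).ideal U :=
        (Scheme.IdealSheafData.le_map_comap (f := c.π.app k.left) (J := I k.left)) U
      have h3 := h2 h1
      rw [ideal_map_of_isAffineHom] at h3
      exact h3
    refine ⟨k.left, ?_⟩
    rw [← hr]
    exact key ⟨_, O.2.preimage (c.π.app j₀)⟩ hU.symm (by rw [hr]; exact hs)
  -- finitely many
  have hfin : ∀ (O : (Q.obj j₀).affineOpens), ∃ j, z.ker.ideal ⟨_, O.2.preimage (c.π.app j₀)⟩ ≤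
      (K j).ideal ⟨_, O.2.preimage (c.π.app j₀)⟩ := fun O => by
    obtain ⟨G, hG⟩ := AbsApprox.fg_ker_ideal_of_lfp z ⟨_, O.2.preimage (c.π.app j₀)⟩
    have hmem : ∀ s ∈ G, ∃ j, s ∈ (K j).ideal ⟨_, O.2.preimage (c.π.app j₀)⟩ :=
      fun s hs => hone O s (hG ▸ Ideal.subset_span hs)
    choose js hjs using hmem
    obtain ⟨j, hj⟩ := IsCofiltered.inf_objs_exists (insert j₀ (Finset.image (fun s : {x // x ∈ G} => js s.1 s.2) G.attach))
    refine ⟨j, hG ▸ Ideal.span_le.2 fun s hs => ?_⟩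
    exact hmono (hj (Finset.mem_insert_of_mem (Finset.mem_image.2 ⟨⟨s, hs⟩, Finset.mem_attach _ _, rfl⟩))).some
      _ (hjs s hs)
  choose jO hjO using hfin
  obtain ⟨T, hT⟩ := (isCompact_univ (X := Q.obj j₀)).elim_finite_subcover
    (fun O : (Q.obj j₀).affineOpens => (O.1 : Set (Q.obj j₀))) (fun O => O.1.2) (fun x _ => by
      obtain ⟨_, ⟨O, hO, rfl⟩, hx, -⟩ := (Q.obj j₀).isBasis_affineOpens.exists_subset_of_mem_open (Set.mem_univ x) isOpen_univ
      exact Set.mem_iUnion.2 ⟨⟨O, hO⟩, hx⟩)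
  obtain ⟨j, hj⟩ := IsCofiltered.inf_objs_exists (insert j₀ (T.image jO))
  refine ⟨j, Scheme.IdealSheafData.ext_of_iSup_eq_top
    (fun O : T => ⟨_, O.1.2.preimage (c.π.app j₀)⟩) ?_ fun O => le_antisymm (hle j _)
      ((hjO O.1).trans (hmono (hj (Finset.mem_insert_of_mem (Finset.mem_image_of_mem jO O.2))).some _))⟩
  refine top_le_iff.1 fun x _ => ?_
  obtain ⟨O, hO, hxO⟩ := Set.mem_iUnion₂.1 (hT (Set.mem_univ (c.π.app j₀ x)))
  exact TopologicalSpace.Opens.mem_iSup.2 ⟨⟨O, hO⟩, hxO⟩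

end Groth.Agent.SpApprox

end
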