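import Groth.Agent.SpApprox.AbsBase
import Groth.Agent.SpApprox.Tower
import Groth.Agent.SpDesc.BaseChange
import Groth.Agent.AbsApprox.Main
import Groth.Agent.S10013
import Groth.Agent.S10020
import Groth.Agent.EtGlue.Main

/-!
A qc separated etale scheme over a limit of spaces of finite type over the integers comes from a stage.
-/

set_option autoImplicit false
set_option linter.style.haveILetI false
set_option backward.isDefEq.respectTransparency false

universe u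

noncomputable section

open CategoryTheory CategoryTheory.Limits AlgebraicGeometry Opposite AlgSp

namespace Groth.Agent.SpApprox

open Groth.Agent.AlgSpLib

variable {S : Scheme.{u}} (hS : IsTerminal S)

include hS in
set_option maxHeartbeats 4000000 in
theorem exists_etale_model {J : Type u} [SmallCategory J] [IsCofiltered J] (D : J ⥤ Sp S)
    (hD : ∀ j, IsAlgSpace (D.obj j)) (hDa : ∀ (i j : J) (φ : i ⟶ j), IsAffineMor (D.map φ))
    (hDq : ∀ j, IsQuasiCompactSp (D.obj j)) (hDs : ∀ j, IsQuasiSeparatedSp (D.obj j))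
    (hDl : ∀ j, LocP @LocallyOfFiniteType (SpQS.baseStr (D.obj j))) (c : Cone D) (hc : IsLimit c)
    (W : Over S) [CompactSpace W.left] [QuasiSeparatedSpace W.left] (g : (yon S).obj W ⟶ c.pt)
    (hg : IsEtaleMor g) (hgs : IsSeparatedMor g) :
    ∃ (i₀ : J) (T : Over S) (t : (yon S).obj T ⟶ D.obj i₀) (w : W ⟶ T), CompactSpace T.left ∧
      LocallyOfFiniteType T.hom ∧ IsEtaleMor t ∧ IsSeparatedMor t ∧
      IsPullback g ((yon S).map w) (c.π.app i₀) t := by
  classical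
  haveI := quasiSeparatedSpace_terminal hS
  haveI := isLocallyNoetherian_terminal hS
  have hbase : IsAlgSpace ((yon S).obj (Over.mk (𝟙 S))) := IsAlgSpace.yon_obj _
  have hV : IsAlgSpace c.pt := SchImg.isAlgSpace_lim D hD hDa c hc
  obtain ⟨i₁⟩ := IsCofiltered.nonempty (C := J)
  have hp : RepWith @IsAffineHom (c.π.app i₁) := (isAffineMor_iff_repWith _).1 (SchImg.repWith_affine_lim D hDa c hc i₁)
  obtain ⟨hVq, hVs⟩ := SpDesc.qcqs_of_affine hV (hD i₁) hp (hDq i₁) (hDs i₁)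
  have hgl : LocP @LocallyOfFinitePresentation g := lfp_of_etale hV hg
  -- approximations of the scheme
  obtain ⟨Iw, _, hdir, hne, Dw, πw, hlW, hDwa, hDw, -⟩ := AbsApprox.hasApprox W.left
  haveI := hdir
  haveI := hne
  haveI : IsCofiltered Iwᵒᵖ := inferInstance
  haveI : IsConnected Iwᵒᵖ := IsCofiltered.isConnected _
  let G : Iwᵒᵖ ⥤ Over S := Dw ⋙ overT hS
  let LW : Cone G := Cone.mk W
    { app := fun b => Over.homMk (πw.app b) (hS.hom_ext _ _)
      naturality := fun b b' f => Over.OverMorphism.ext (πw.naturality f) }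
  have hLW : IsLimit LW := isLimitOfReflects (Over.forget S)
    (hlW.ofIsoLimit (Cone.ext (Iso.refl _) (fun b => (Category.id_comp _).symm)) :
      IsLimit ((Over.forget S).mapCone LW))
  have hGY := isLimitOfPreserves (yon S) hLW
  have hGc : ∀ b, CompactSpace (G.obj b).left := fun b => (hDw b).1
  have hGl : ∀ b, LocallyOfFiniteType (G.obj b).hom := fun b => lft_overT hS (hDw b).2
  have hGq : ∀ b, IsQuasiSeparatedSp ((yon S).obj (G.obj b)) := fun b => by
    haveI : QuasiSeparatedSpace (G.obj b).left := AbsApprox.quasiSeparatedSpace_of_lft (hDw b).2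
    exact (AlgSp.repWith_diag_yon_iff @QuasiCompact (G.obj b)).2
      (inferInstanceAs (QuasiCompact (pullback.diagonal (G.obj b).hom)))
  have hGa : ∀ (b b' : Iwᵒᵖ) (f : b ⟶ b'), IsAffineMor ((G ⋙ yon S).map f) := fun b b' f =>
    (isAffineMor_iff_repWith _).2 ((repWith_yon_iff _).2 (hDwa b b' f))
  haveI : ∀ b, CompactSpace (G.obj b).left := hGc
  obtain ⟨b₀⟩ := IsCofiltered.nonempty (C := Iwᵒᵖ)
  obtain ⟨b, -, xb, hxb, -⟩ := exists_stage_lfp (G ⋙ yon S) (fun b => IsAlgSpace.yon_obj _) hGa _ hGY (i₁ := b₀)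
    (isQuasiCompactSp_yon (G.obj b₀)) hGq (hD i₁) hbase (SpQS.baseStr (D.obj i₁)) (lfp_base (hDl i₁))
    (g ≫ c.π.app i₁) (SpQS.baseStr _) (SpQS.isTerminalBase.hom_ext _ _)
  obtain ⟨E, cE, αE, βE, αL, βL, ⟨hcE⟩, hE, hEa, sqE, sqEL, -, hEπ⟩ :=
    SpDesc.exists_bc_tower (G ⋙ yon S) (fun b => IsAlgSpace.yon_obj _) hGa _ hGY b (isQuasiCompactSp_yon (G.obj b))
      (hGq b) (hD i₁) hV (hDs i₁) hVq hVs xb (c.π.app i₁)
  let zE : (yon S).obj W ⟶ cE.pt := sqEL.lift (𝟙 _) g (by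
    rw [Category.id_comp]; exact hxb)
  have hαL : IsSeparatedMor αL := isSeparatedMor_baseChange sqEL.flip (isSeparatedMor_of_affine hV (hD i₁) hp)
  have hzE : RepWith @IsClosedImmersion zE := Groth.Agent.AlgSpLib.repWith_of_comp zE (𝟙 _) αL
    (sqEL.lift_fst _ _ _) (repWith_of_isIso _) hαL
  let o : CategoryTheory.Over b := CategoryTheory.Over.mk (𝟙 b)
  have hzβ : ∀ l, (zE ≫ cE.π.app l) ≫ βE l = g := fun l => by
    rw [Category.assoc, (hEπ l).2]
    exact sqEL.lift_snd _ _ _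
  obtain ⟨l, hl⟩ := SpDesc.exists_eventually_closed E (fun l => (hE l).1) hEa cE hcE (IsAlgSpace.yon_obj W) zE hzE o
    (hE o).2.1 (SpDesc.lft_cancel (hE o).1 (IsAlgSpace.yon_obj W) hV (g := βE o) (by
      rw [hzβ]; exact lft_of_lfp hgl))
  have hzl : RepWith @IsClosedImmersion (zE ≫ cE.π.app l) := hl l (𝟙 l)
  let xl : (yon S).obj (G.obj l.left) ⟶ D.obj i₁ := (G ⋙ yon S).map l.hom ≫ xb
  obtain ⟨P₀, fstP, sndP, sqP, -⟩ := exists_repWith hp xl
  let eE : (yon S).obj P₀ ≅ E.obj l := sqP.isoIsPullback _ _ (sqE l).flip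
  obtain ⟨zP, hzP⟩ := exists_map_eq ((zE ≫ cE.π.app l) ≫ eE.inv)
  have hzPc : IsClosedImmersion zP.left := (repWith_yon_iff (P := @IsClosedImmersion) zP).1 (by
    rw [hzP]; exact (repWith_comp_iso_iff _ eE.inv).2 hzl)
  have hzPg : (yon S).map zP ≫ fstP = g := by
    rw [hzP, Category.assoc, IsPullback.isoIsPullback_inv_fst]
    exact hzβ l
  -- the tower below the closed subscheme
  haveI := hGl l.left
  haveI : QuasiSeparatedSpace (G.obj l.left).left := AbsApprox.quasiSeparatedSpace_of_lft (hDw l.left).2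
  obtain ⟨F, cF, αF, βF, αFL, βFL, ⟨hcF⟩, hF, hFa, sqF, sqFL, -, hFπ⟩ :=
    SpDesc.exists_bc_tower D hD hDa c hc i₁ (hDq i₁) (hDs i₁) (hD i₁) (IsAlgSpace.yon_obj (G.obj l.left)) (hDs i₁)
      (isQuasiCompactSp_yon (G.obj l.left)) (hGq l.left) (𝟙 _) xl
  let o₁ : CategoryTheory.Over i₁ := CategoryTheory.Over.mk (𝟙 i₁)
  haveI : IsIso (D.map o₁.hom ≫ 𝟙 (D.obj i₁)) := by
    show IsIso (D.map (𝟙 i₁) ≫ 𝟙 _)
    infer_instance
  haveI : IsIso (βF o₁) := (sqF o₁).isIso_snd_of_isIso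
  have sqP' : IsPullback fstP ((yon S).map sndP) (c.π.app i₁ ≫ 𝟙 _) xl := by rwa [Category.comp_id]
  let eT : (yon S).obj P₀ ≅ cF.pt := sqP'.isoIsPullback _ _ sqFL
  have heT : eT.hom ≫ αFL = fstP := IsPullback.isoIsPullback_hom_fst _ _ _ _
  obtain ⟨Q, η, π, hπ, pp, hpp, hppη, hQa⟩ := exists_sch_tower F (fun m m' φ => (isAffineMor_iff_repWith _).1 (hFa m m' φ))
    cF hcF o₁ (asIso (βF o₁)) eT
  let ηm : ∀ m, (yon S).obj (Q.obj m) ≅ F.obj m.left := fun m => η.app m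
  have hQc : ∀ m, CompactSpace (Q.obj m).left := fun m =>
    SpDesc.compactSpace_of_sp (SpDesc.qc_of_iso (IsAlgSpace.yon_obj _) (hF m.left).1 (ηm m) (hF m.left).2.1)
  have hQs : ∀ m, QuasiSeparatedSpace (Q.obj m).left := fun m =>
    SpDesc.quasiSeparatedSpace_of_sp (SpDesc.qs_of_iso (ηm m) (hF m.left).2.2)
  have hQl : ∀ m, LocallyOfFiniteType (Q.obj m).hom := fun m => by
    have h1 : LocP @LocallyOfFiniteType (D.map m.left.hom ≫ 𝟙 (D.obj i₁)) := by
      rw [Category.comp_id]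
      refine SpDesc.lft_cancel (hD i₁) (hD _) hbase (g := SpQS.baseStr (D.obj i₁)) ?_
      rw [SpQS.isTerminalBase.hom_ext (D.map m.left.hom ≫ SpQS.baseStr _) (SpQS.baseStr _)]
      exact hDl _
    have h2 : LocP @LocallyOfFiniteType (βF m.left) :=
      locP_baseChange etST_lft (hD _) (hD i₁) (hF m.left).1 (IsAlgSpace.yon_obj _) (sqF m.left) h1
    obtain ⟨r, hr⟩ := exists_map_eq ((ηm m).hom ≫ βF m.left)
    have h3 : LocP @LocallyOfFiniteType ((yon S).map r) := by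
      rw [hr]
      refine locP_comp etST_lft (hF m.left).1 (IsAlgSpace.yon_obj _) (lft_of_lfp (lfp_of_etale (hF m.left).1 ?_)) h2
      exact EtGlue.etale_iso _
    haveI : LocallyOfFiniteType r.left := locP_yon h3
    rw [← Over.w r]
    infer_instance
  haveI : ∀ m, CompactSpace ((Q ⋙ Over.forget S).obj m) := hQc
  haveI : ∀ m, QuasiSeparatedSpace ((Q ⋙ Over.forget S).obj m) := hQs
  haveI : ∀ {m m'} (f : m ⟶ m'), IsAffineHom ((Q ⋙ Over.forget S).map f) := fun f => hQa f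
  haveI := hzPc
  haveI : LocallyOfFinitePresentation zP.left := locP_yon (lfp_cancel hV (g := fstP) (hzPg ▸ hgl) (by
    refine locP_baseChange etST_lft (IsAlgSpace.yon_obj _) (hD i₁) (IsAlgSpace.yon_obj _) hV sqP.flip ?_
    refine SpDesc.lft_cancel (hD i₁) (IsAlgSpace.yon_obj _) hbase (g := SpQS.baseStr (D.obj i₁)) ?_
    obtain ⟨q, hq⟩ := exists_map_eq (xl ≫ SpQS.baseStr (D.obj i₁))
    rw [← hq]
    intro U V a b h ha hb comm
    obtain ⟨a', rfl⟩ := exists_map_eq a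
    obtain ⟨b', rfl⟩ := exists_map_eq b
    haveI : Etale a'.left := (repWith_yon_iff a').1 ha
    haveI : Etale b'.left := (repWith_yon_iff b').1 hb
    have e : a' ≫ q = h ≫ b' := (yon S).map_injective (by rw [Functor.map_comp, Functor.map_comp]; exact comm)
    haveI : LocallyOfFiniteType q.left := by
      have : LocallyOfFiniteType (q.left ≫ (Over.mk (𝟙 S)).hom) := by rw [Over.w q]; exact hGl l.left
      exact locallyOfFiniteType_of_comp q.left (Over.mk (𝟙 S)).hom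
    haveI : LocallyOfFiniteType (h.left ≫ b'.left) := by
      rw [← Over.comp_left, ← e, Over.comp_left]
      infer_instance
    exact locallyOfFiniteType_of_comp h.left b'.left))
  obtain ⟨m, hm⟩ := exists_stage_ker_comap (Q ⋙ Over.forget S) (Cone.mk P₀.left π) hπ zP.left
  let I : (Q.obj m).left.IdealSheafData := (zP.left ≫ π.app m).ker
  let T₀ : Over S := Over.mk (I.subschemeι ≫ (Q.obj m).hom)
  let ιT : T₀ ⟶ Q.obj m := Over.homMk I.subschemeι rfl
  let wl : W.left ⟶ I.subscheme :=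
    IsClosedImmersion.lift I.subschemeι (zP.left ≫ π.app m) (by rw [Scheme.IdealSheafData.ker_subschemeι])
  have hwl : wl ≫ I.subschemeι = zP.left ≫ π.app m := IsClosedImmersion.lift_fac _ _ _
  let w₀ : W ⟶ T₀ := Over.homMk wl (by
    show wl ≫ I.subschemeι ≫ _ = _
    rw [reassoc_of% hwl, ← hpp, Over.w, Over.w])
  have sq₀ : IsPullback ((yon S).map zP) ((yon S).map w₀) ((yon S).map (pp m)) ((yon S).map ιT) := by
    refine isPullback_yon_iff.2 ?_
    rw [hpp]
    refine isPullback_of_isClosedImmersion zP.left I.subschemeι wl (π.app m) hwl.symm ?_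
    rw [Scheme.IdealSheafData.ker_subschemeι]
    exact hm
  let j : J := m.left.left
  let t₀ : (yon S).obj T₀ ⟶ D.obj j := (yon S).map ιT ≫ (ηm m).hom ≫ αF m.left
  have sqW : IsPullback g ((yon S).map w₀) (c.π.app j) t₀ := by
    have hη : IsPullback eT.hom ((yon S).map (pp m)) (cF.π.app m.left) (ηm m).hom :=
      IsPullback.of_horiz_isIso ⟨(hppη m).symm⟩
    have h2 : IsPullback (eT.hom ≫ αFL) ((yon S).map (pp m)) (c.π.app j) ((ηm m).hom ≫ αF m.left) :=
      hη.paste_horiz (hFπ m.left).1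
    have h3 := sq₀.paste_horiz h2
    rwa [heT, hzPg] at h3
  haveI : LocallyOfFiniteType T₀.hom := by
    haveI := hQl m
    exact inferInstanceAs (LocallyOfFiniteType (I.subschemeι ≫ (Q.obj m).hom))
  haveI : IsLocallyNoetherian T₀.left := LocallyOfFiniteType.isLocallyNoetherian T₀.hom
  haveI : CompactSpace T₀.left := by
    haveI := hQc m
    exact QuasiCompact.compactSpace_of_compactSpace I.subschemeι
  have hTs : IsQuasiSeparatedSp ((yon S).obj T₀) := (AlgSp.repWith_diag_yon_iff @QuasiCompact T₀).2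
    (inferInstanceAs (QuasiCompact (pullback.diagonal T₀.hom)))
  have htl : LocP @LocallyOfFinitePresentation t₀ := by
    refine lfp_cancel hbase (g := SpQS.baseStr (D.obj j)) (lfp_base ?_) (hDl j)
    obtain ⟨q, hq⟩ := exists_map_eq (t₀ ≫ SpQS.baseStr (D.obj j))
    rw [← hq]
    intro U V a b h ha hb comm
    obtain ⟨a', rfl⟩ := exists_map_eq a
    obtain ⟨b', rfl⟩ := exists_map_eq b
    haveI : Etale a'.left := (repWith_yon_iff a').1 ha
    haveI : Etale b'.left := (repWith_yon_iff b').1 hb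
    have e : a' ≫ q = h ≫ b' := (yon S).map_injective (by rw [Functor.map_comp, Functor.map_comp]; exact comm)
    haveI : LocallyOfFiniteType q.left := by
      have : LocallyOfFiniteType (q.left ≫ (Over.mk (𝟙 S)).hom) := by rw [Over.w q]; infer_instance
      exact locallyOfFiniteType_of_comp q.left (Over.mk (𝟙 S)).hom
    haveI : LocallyOfFiniteType (h.left ≫ b'.left) := by
      rw [← Over.comp_left, ← e, Over.comp_left]
      infer_instance
    exact locallyOfFiniteType_of_comp h.left b'.left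
  obtain ⟨i₂, φ₂, h₂⟩ := S10013.result S D hD hDa c hc j (hDq j) (hDs j) ⟨_, IsAlgSpace.yon_obj T₀⟩ ⟨_, hD j⟩ t₀
    (𝟙 _) (isQuasiCompactSp_yon T₀) hTs (hDq j) (hDs j) _ _ g (c.π.app j) (𝟙 _)
    (IsPullback.of_vert_isIso ⟨by simp⟩) ((yon S).map w₀) sqW.flip hg htl
  obtain ⟨i₃, φ₃, h₃⟩ := S10020.result S D hD hDa c hc j (hDq j) (hDs j) ⟨_, IsAlgSpace.yon_obj T₀⟩ ⟨_, hD j⟩ t₀
    (𝟙 _) (isQuasiCompactSp_yon T₀) hTs (hDq j) (hDs j) _ _ g (c.π.app j) (𝟙 _)
    (IsPullback.of_vert_isIso ⟨by simp⟩) ((yon S).map w₀) sqW.flip hgs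
  obtain ⟨i₀, ψ₂, ψ₃, hψ⟩ := IsCofiltered.cospan φ₂ φ₃
  let φ : i₀ ⟶ j := ψ₂ ≫ φ₂
  have hstage : ∀ (i : J) (φi : i ⟶ j), ∃ (T : Over S) (t : (yon S).obj T ⟶ D.obj i) (q : T ⟶ T₀),
      IsPullback t ((yon S).map q) (D.map φi) t₀ ∧ IsAffineHom q.left := fun i φi => by
    obtain ⟨T, t, q, sq, hq⟩ := exists_repWith ((isAffineMor_iff_repWith _).1 (hDa i j φi)) t₀
    exact ⟨T, t, q, sq, hq⟩
  obtain ⟨T, t, q, sqT, hqa⟩ := hstage i₀ φ
  haveI := hqa
  obtain ⟨w, hw⟩ := exists_map_eq (sqT.lift (g ≫ c.π.app i₀) ((yon S).map w₀) (by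
    rw [Category.assoc, c.w φ, sqW.w]))
  have hwt : (yon S).map w ≫ t = g ≫ c.π.app i₀ := by rw [hw, sqT.lift_fst]
  have hwq : (yon S).map w ≫ (yon S).map q = (yon S).map w₀ := by rw [hw, sqT.lift_snd]
  refine ⟨i₀, T, t, w, QuasiCompact.compactSpace_of_compactSpace q.left, ?_, ?_, ?_,
    IsPullback.of_bot (by rw [hwq, c.w φ]; exact sqW) hwt.symm sqT⟩
  · have h1 : LocP @LocallyOfFiniteType (D.map φ) := by
      refine SpDesc.lft_cancel (hD j) (hD _) hbase (g := SpQS.baseStr (D.obj j)) ?_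
      rw [SpQS.isTerminalBase.hom_ext (D.map φ ≫ SpQS.baseStr _) (SpQS.baseStr _)]
      exact hDl _
    haveI : LocallyOfFiniteType q.left :=
      locP_yon (locP_baseChange etST_lft (hD _) (hD j) (IsAlgSpace.yon_obj _) (IsAlgSpace.yon_obj _) sqT h1)
    rw [← Over.w q]
    infer_instance
  · obtain ⟨T₂, t₂, q₂, sq₂, -⟩ := hstage i₂ φ₂
    have het := h₂ _ _ t₂ (D.map φ₂) (𝟙 _) (IsPullback.of_vert_isIso ⟨by simp⟩) ((yon S).map q₂) sq₂.flip
    refine isEtaleMor_baseChange (IsAlgSpace.yon_obj _) (hD i₂) (hD i₀)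
      (g := D.map ψ₂) (q := sq₂.lift (t ≫ D.map ψ₂) ((yon S).map q) (by rw [Category.assoc, ← D.map_comp, sqT.w])) ?_ het
    refine (IsPullback.of_bot ?_ ((sq₂.lift_fst _ _ _).symm) sq₂).flip
    rw [sq₂.lift_snd, ← D.map_comp]
    exact sqT
  · obtain ⟨T₃, t₃, q₃, sq₃, -⟩ := hstage i₃ φ₃
    have hse := h₃ _ _ t₃ (D.map φ₃) (𝟙 _) (IsPullback.of_vert_isIso ⟨by simp⟩) ((yon S).map q₃) sq₃.flip
    refine isSeparatedMor_baseChange
      (g := D.map ψ₃) (q := sq₃.lift (t ≫ D.map ψ₃) ((yon S).map q) (by rw [Category.assoc, ← D.map_comp, ← hψ]; exact sqT.w)) ?_ hse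
    refine (IsPullback.of_bot ?_ ((sq₃.lift_fst _ _ _).symm) sq₃).flip
    rw [sq₃.lift_snd, ← D.map_comp, ← hψ]
    exact sqT

end Groth.Agent.SpApprox

end
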