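import Groth.Agent.SpApprox.AbsModel
import Groth.Agent.AbsApprox.Step

/-!
Stages for one glueing step: an open of an affine scheme that is etale over an approximated space.
-/

set_option autoImplicit false
set_option linter.style.haveILetI false
set_option backward.isDefEq.respectTransparency false

universe u

noncomputable section

open CategoryTheory CategoryTheory.Limits AlgebraicGeometry Opposite AlgSp

open Groth.Agent.LimModel (FgSub fgDiagram fgCone fgIsLimit)

namespace Groth.Agent.SpApprox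

open Groth.Agent.AlgSpLib

variable {S : Scheme.{u}}

/-- schematic dominance, tested on etale schemes over the target -/
def Dom {V D : Sp S} (p : V ⟶ D) : Prop :=
  ∀ ⦃E : Over S⦄ (e : (yon S).obj E ⟶ D), RepWith @Etale e → ∀ ⦃P : Over S⦄ (a : (yon S).obj P ⟶ V) (b : P ⟶ E),
    IsPullback a ((yon S).map b) p e → Function.Injective b.left.appTop.hom

theorem std_of_dom {V D : Sp S} {p : V ⟶ D} (hdom : Dom p) (hp : RepWith @IsAffineHom p) {T W : Over S}
    {t : (yon S).obj T ⟶ D} (ht : RepWith @Etale t) {g : (yon S).obj W ⟶ V} {w : W ⟶ T}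
    (sq : IsPullback g ((yon S).map w) p t) : IsSchemeTheoreticallyDominant w.left := by
  haveI : IsAffineHom w.left := (repWith_yon_iff w).1 (repWith_baseChange sq hp)
  refine AbsApprox.std_of_cover _ fun y => ?_
  obtain ⟨O, hO, hyO, -⟩ := exists_isAffineOpen_mem_and_subset (U := (⊤ : T.left.Opens)) (x := y) trivial
  let E : Over S := Over.mk (O.ι ≫ T.hom)
  let m : E ⟶ T := Over.homMk O.ι rfl
  let P : Over S := Over.mk ((w.left ⁻¹ᵁ O).ι ≫ W.hom)
  let mP : P ⟶ W := Over.homMk (w.left ⁻¹ᵁ O).ι rfl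
  let b : P ⟶ E := Over.homMk (w.left ∣_ O) (by
    show (w.left ∣_ O) ≫ O.ι ≫ T.hom = (w.left ⁻¹ᵁ O).ι ≫ W.hom
    rw [morphismRestrict_ι_assoc, Over.w w])
  have h1 : IsPullback ((yon S).map mP) ((yon S).map b) ((yon S).map w) ((yon S).map m) :=
    isPullback_yon_iff.2 (isPullback_morphismRestrict w.left O).flip
  have hinj := hdom ((yon S).map m ≫ t)
    (repWith_comp ((repWith_yon_iff m).2 (inferInstanceAs (Etale O.ι))) ht) _ b (h1.paste_horiz sq)
  refine ⟨⟨O, hO⟩, hyO, ?_⟩
  show Function.Injective (w.left.app O)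
  have e : w.left.app O ≫ (w.left ⁻¹ᵁ O).topIso.inv = O.topIso.inv ≫ (w.left ∣_ O).appTop := by
    simp [Scheme.Opens.topIso_inv, Scheme.Hom.appTop, Scheme.Hom.app_eq_appLE, morphismRestrict_appLE]
  intro a c hac
  apply O.topIso.symm.commRingCatIsoToRingEquiv.injective
  apply hinj
  show (O.topIso.inv ≫ (w.left ∣_ O).appTop).hom a = (O.topIso.inv ≫ (w.left ∣_ O).appTop).hom c
  rw [← e]
  exact congrArg (w.left ⁻¹ᵁ O).topIso.inv.hom hac

variable (hS : IsTerminal S)

include hS in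
theorem lft_from {T : Over S} (h : LocallyOfFiniteType T.hom) :
    LocallyOfFiniteType (Limits.IsTerminal.from specULiftZIsTerminal T.left) := by
  rw [show specULiftZIsTerminal.from T.left = T.hom ≫ (hS.uniqueUpToIso specULiftZIsTerminal.{u}).hom from
    specULiftZIsTerminal.hom_ext _ _]
  infer_instance

include hS in
theorem hom_ext_left {T T' : Over S} {f g : T ⟶ T'} (h : f.left = g.left) : f = g := Over.OverMorphism.ext h

/-- the affine tower over the base -/
def affTower (A : Type u) [CommRing A] : (FgSub A)ᵒᵖ ⥤ Over S := fgDiagram A ⋙ overT hS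

set_option maxHeartbeats 4000000 in
theorem exists_stages {I : Type u} [Preorder I] [IsDirected I (fun a b => a ≤ b)] [Nonempty I]
    (D : Iᵒᵖ ⥤ Sp S) (hD : ∀ i, IsAlgSpace (D.obj i)) (hDa : ∀ (i j : Iᵒᵖ) (φ : i ⟶ j), IsAffineMor (D.map φ))
    (hDq : ∀ i, IsQuasiCompactSp (D.obj i)) (hDs : ∀ i, IsQuasiSeparatedSp (D.obj i))
    (hDl : ∀ i, LocP @LocallyOfFiniteType (SpQS.baseStr (D.obj i))) (c : Cone D) (hc : IsLimit c)
    (hdom : ∀ i, Dom (c.π.app i)) (A : Type u) [CommRing A] (W : Over S) [CompactSpace W.left]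
    (o : W.left ⟶ Spec (CommRingCat.of A)) [IsOpenImmersion o]
    (g : (yon S).obj W ⟶ c.pt) (hg : IsEtaleMor g) (hgs : IsSeparatedMor g) :
    ∃ (J : Type u) (_ : Preorder J) (_ : IsDirected J (fun a b => a ≤ b)) (_ : Nonempty J)
      (toI : J →o I) (toB : J →o FgSub A) (_ : toI.monotone.functor.op.Initial)
      (_ : toB.monotone.functor.op.Initial) (DT : Jᵒᵖ ⥤ Over S)
      (θ : DT ⟶ toB.monotone.functor.op ⋙ affTower hS A)
      (τ : DT ⋙ yon S ⟶ toI.monotone.functor.op ⋙ D) (w : ∀ p, W ⟶ DT.obj p),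
      (∀ p, IsOpenImmersion (θ.app p).left ∧ IsEtaleMor (τ.app p) ∧ IsSeparatedMor (τ.app p) ∧
        CompactSpace (DT.obj p).left ∧ LocallyOfFiniteType (DT.obj p).hom) ∧
      (∀ {p q : Jᵒᵖ} (φ : p ⟶ q),
        IsPullback (θ.app p).left (DT.map φ).left ((fgDiagram A).map (toB.monotone.functor.op.map φ)) (θ.app q).left ∧
        IsPullback (τ.app p) ((yon S).map (DT.map φ)) (D.map (toI.monotone.functor.op.map φ)) (τ.app q)) ∧
      (∀ p, IsPullback o (w p).left ((fgCone A).π.app (op (toB p.unop))) (θ.app p).left ∧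
        IsPullback g ((yon S).map (w p)) (c.π.app (op (toI p.unop))) (τ.app p)) := by
  classical
  haveI := quasiSeparatedSpace_terminal hS
  haveI := isLocallyNoetherian_terminal hS
  haveI : QuasiSeparatedSpace W.left := quasiSeparatedSpace_of_quasiSeparated o
  haveI : IsCofiltered Iᵒᵖ := isCofiltered_op_of_isFiltered _
  obtain ⟨⟨i₀⟩, T, t, w₀, hTc, hTl, hte, hts, sqW⟩ :=
    exists_etale_model hS D hD hDa hDq hDs hDl c hc W g hg hgs
  -- restrict to the indices above `i₀`
  let I' : Type u := {i : I // i₀ ≤ i}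
  haveI : Nonempty I' := ⟨⟨i₀, le_rfl⟩⟩
  haveI : IsDirected I' (fun a b => a ≤ b) := ⟨fun a b => by
    obtain ⟨k, hk, hk'⟩ := exists_ge_ge a.1 b.1
    exact ⟨⟨k, a.2.trans hk⟩, hk, hk'⟩⟩
  let F : I' →o I := ⟨Subtype.val, fun _ _ h => h⟩
  haveI : F.monotone.functor.op.Initial := AbsApprox.final_of_cofinal F fun i => by
    obtain ⟨k, hk, hk'⟩ := exists_ge_ge i i₀
    exact ⟨⟨k, hk'⟩, hk⟩
  let D' : I'ᵒᵖ ⥤ Sp S := F.monotone.functor.op ⋙ D
  let bot : ∀ i : I'ᵒᵖ, op (F i.unop) ⟶ op i₀ := fun i => (homOfLE i.unop.2).op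
  have hbot : ∀ {i k : I'ᵒᵖ} (φ : i ⟶ k), D'.map φ ≫ D.map (bot k) = D.map (bot i) := fun {i k} φ => by
    rw [Functor.comp_map, ← D.map_comp, Subsingleton.elim (F.monotone.functor.op.map φ ≫ bot k) (bot i)]
  -- the tower
  have hTw : ∀ i : I'ᵒᵖ, ∃ (V : Over S) (a : (yon S).obj V ⟶ D'.obj i) (b : V ⟶ T),
      IsPullback a ((yon S).map b) (D.map (bot i)) t ∧ IsAffineHom b.left := fun i =>
    exists_repWith ((isAffineMor_iff_repWith _).1 (hDa _ _ (bot i))) t
  choose Tw a b hsq hb using hTw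
  let Tf : I'ᵒᵖ ⥤ Over S :=
    { obj := Tw
      map := fun {i k} φ => (yon S).preimage ((hsq k).lift (a i ≫ D'.map φ) ((yon S).map (b i)) (by
        rw [Category.assoc, hbot φ, (hsq i).w]))
      map_id := fun i => (yon S).map_injective ((hsq i).hom_ext (by simp) (by simp))
      map_comp := fun {i k l} φ ψ => (yon S).map_injective ((hsq l).hom_ext (by simp) (by simp)) }
  have hTfa : ∀ {i k : I'ᵒᵖ} (φ : i ⟶ k), (yon S).map (Tf.map φ) ≫ a k = a i ≫ D'.map φ := fun φ => by simp [Tf]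
  have hTfb : ∀ {i k : I'ᵒᵖ} (φ : i ⟶ k), Tf.map φ ≫ b k = b i := fun φ => (yon S).map_injective (by simp [Tf])
  have sqT : ∀ {i k : I'ᵒᵖ} (φ : i ⟶ k), IsPullback (a i) ((yon S).map (Tf.map φ)) (D'.map φ) (a k) := fun {i k} φ =>
    IsPullback.of_bot (by rw [← Functor.map_comp, hTfb φ, hbot φ]; exact hsq i) (hTfa φ).symm (hsq k)
  let wT : ∀ i : I'ᵒᵖ, W ⟶ Tw i := fun i => (yon S).preimage ((hsq i).lift (g ≫ c.π.app (op (F i.unop)))
    ((yon S).map w₀) (by rw [Category.assoc, c.w]; exact sqW.w))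
  have hwTa : ∀ i, (yon S).map (wT i) ≫ a i = g ≫ c.π.app (op (F i.unop)) := fun i => by simp [wT]
  have hwTb : ∀ i, wT i ≫ b i = w₀ := fun i => (yon S).map_injective (by simp [wT])
  have sqWT : ∀ i, IsPullback g ((yon S).map (wT i)) (c.π.app (op (F i.unop))) (a i) := fun i =>
    IsPullback.of_bot (by rw [← Functor.map_comp, hwTb i, c.w]; exact sqW) (hwTa i).symm (hsq i)
  have hwTn : ∀ {i k : I'ᵒᵖ} (φ : i ⟶ k), wT i ≫ Tf.map φ = wT k := fun {i k} φ =>
    (yon S).map_injective ((hsq k).hom_ext (by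
      rw [Functor.map_comp, Category.assoc, hTfa φ, reassoc_of% (hwTa i), hwTa k]
      exact congrArg (g ≫ ·) (c.w (F.monotone.functor.op.map φ))) (by
      rw [← Functor.map_comp, ← Functor.map_comp, Category.assoc, hTfb φ, hwTb, hwTb]))
  have hae : ∀ i, IsEtaleMor (a i) := fun i =>
    isEtaleMor_baseChange (IsAlgSpace.yon_obj T) (hD _) (hD _) (hsq i).flip hte
  have has : ∀ i, IsSeparatedMor (a i) := fun i => isSeparatedMor_baseChange (hsq i).flip hts
  have har : ∀ i, RepWith @Etale (a i) := fun i => by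
    have := hae i (𝟙 _) (repWith_id _ _)
    rwa [Category.id_comp] at this
  have hTwl : ∀ i, LocallyOfFiniteType (Tw i).hom := fun i => by
    obtain ⟨r, hr⟩ := exists_map_eq (a i ≫ SpQS.baseStr (D'.obj i))
    have h3 : LocP @LocallyOfFiniteType ((yon S).map r) := by
      rw [hr]
      exact locP_comp etST_lft (hD _) (IsAlgSpace.yon_obj _) (lft_of_lfp (lfp_of_etale (hD _) (hae i))) (hDl _)
    haveI : LocallyOfFiniteType r.left := locP_yon h3
    have h4 : LocallyOfFiniteType r.left := locP_yon h3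
    have e : r.left = (Tw i).hom := (Category.comp_id r.left).symm.trans (Over.w r)
    exact e ▸ h4
  have hTwc : ∀ i, CompactSpace (Tw i).left := fun i => by
    haveI := hb i
    exact QuasiCompact.compactSpace_of_compactSpace (b i).left
  let π' : (Functor.const I'ᵒᵖ).obj W.left ⟶ Tf ⋙ Over.forget S :=
    { app := fun i => (wT i).left
      naturality := fun i k φ => by
        show 𝟙 _ ≫ (wT k).left = (wT i).left ≫ (Tf.map φ).left
        rw [Category.id_comp, ← Over.comp_left, hwTn φ] }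
  let c' := c.whisker F.monotone.functor.op
  let hc' : IsLimit c' := (Functor.Initial.isLimitWhiskerEquiv F.monotone.functor.op c).symm hc
  let ib : I'ᵒᵖ := op ⟨i₀, le_rfl⟩
  have hlimT : IsLimit (Cone.mk W.left π') := by
    let X : Cone (Tf ⋙ Over.forget S) → Over S := fun s => (overT hS).obj s.pt
    let comp : ∀ (s : Cone (Tf ⋙ Over.forget S)) (i : I'ᵒᵖ), X s ⟶ Tw i := fun s i =>
      Over.homMk (s.π.app i) (hS.hom_ext _ _)
    have hcomp : ∀ s {i k : I'ᵒᵖ} (φ : i ⟶ k), comp s i ≫ Tf.map φ = comp s k := fun s {i k} φ =>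
      Over.OverMorphism.ext (s.w φ)
    let sD : ∀ s, Cone D' := fun s =>
      { pt := (yon S).obj (X s)
        π :=
          { app := fun i => (yon S).map (comp s i) ≫ a i
            naturality := fun i k φ => by
              show 𝟙 _ ≫ _ = _
              rw [Category.id_comp, Category.assoc, ← hTfa φ, ← Functor.map_comp_assoc, hcomp s φ] } }
    let ls : ∀ s, (yon S).obj (X s) ⟶ c.pt := fun s => hc'.lift (sD s)
    have hls : ∀ s i, ls s ≫ c.π.app (op (F i.unop)) = (yon S).map (comp s i) ≫ a i := fun s i => hc'.fac (sD s) i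
    let L : ∀ s, X s ⟶ W := fun s => (yon S).preimage (sqW.lift (ls s) ((yon S).map (comp s ib ≫ b ib)) (by
      rw [Functor.map_comp, Category.assoc, ← (hsq ib).w, ← Category.assoc, ← hls s ib, Category.assoc, c.w]))
    have hLg : ∀ s, (yon S).map (L s) ≫ g = ls s := fun s => by simp [L]
    have hLw : ∀ s, L s ≫ w₀ = comp s ib ≫ b ib := fun s => (yon S).map_injective (by simp [L])
    have hLT : ∀ s i, L s ≫ wT i = comp s i := fun s i => (yon S).map_injective ((hsq i).hom_ext (by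
      rw [Functor.map_comp, Category.assoc, hwTa, ← Category.assoc, hLg, hls]) (by
      rw [← Functor.map_comp, ← Functor.map_comp, Category.assoc, hwTb, hLw]
      refine congrArg (yon S).map ?_
      obtain ⟨k, hk, hk'⟩ := exists_ge_ge (i.unop : I') ib.unop
      let φ₁ : op k ⟶ i := (homOfLE hk).op
      let φ₂ : op k ⟶ ib := (homOfLE hk').op
      rw [← hcomp s φ₁, ← hcomp s φ₂, Category.assoc, Category.assoc, hTfb, hTfb]))
    refine ⟨fun s => (L s).left, fun s i => congrArg (fun f => f.left) (hLT s i), fun s m hm => ?_⟩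
    let m' : X s ⟶ W := Over.homMk m (hS.hom_ext _ _)
    refine congrArg (fun f => f.left) ((yon S).map_injective (sqW.hom_ext ?_ ?_) : m' = L s)
    · rw [hLg]
      refine hc'.hom_ext fun i => ?_
      show ((yon S).map m' ≫ g) ≫ c.π.app (op (F i.unop)) = ls s ≫ c.π.app (op (F i.unop))
      rw [hls, Category.assoc, ← hwTa i, ← Functor.map_comp_assoc,
        show m' ≫ wT i = comp s i from Over.OverMorphism.ext (hm i)]
    · rw [← Functor.map_comp, ← Functor.map_comp, hLw, ← hwTb ib, ← Category.assoc,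
        show m' ≫ wT ib = comp s ib from Over.OverMorphism.ext (hm ib)]
  -- the step data
  let Wop : (Spec (CommRingCat.of A)).Opens := o.opensRange
  obtain ⟨s, hs⟩ := AbsApprox.exists_finset_eq_iSup Wop (isCompact_range o.continuous)
  let d : AbsApprox.StepData.{u} :=
    { I := I'
      D := Tf ⋙ Over.forget S
      U := W.left
      π := π'
      isLim := hlimT
      aff := fun i k φ => by
        exact (repWith_yon_iff _).1 (repWith_baseChange (sqT φ) ((isAffineMor_iff_repWith _).1 (hDa _ _ _)))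
      ft := fun i => ⟨hTwc i, lft_from hS (hTwl i)⟩
      std := fun i => std_of_dom (hdom _) ((isAffineMor_iff_repWith _).1
        (SchImg.repWith_affine_lim D hDa c hc _)) (har i) (sqWT i)
      i₀ := ⟨i₀, le_rfl⟩
      le := fun i => i.2
      W₀ := ⊤
      compactW₀ := by
        exact @isCompact_univ _ _ (hTwc ib)
      A := A
      W := Wop
      s := s
      hs := hs
      jU := o.isoOpensRange.inv
      preimage := by
        exact (Scheme.Hom.surjective o.isoOpensRange.inv).range_eq.symm }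
  haveI := d.directed_J
  haveI := d.nonempty_J
  haveI := d.initial_toI
  haveI := d.initial_toB
  have hWo : ∀ i, IsIso (d.Wo i).ι := fun i => by
    exact isIso_of_isOpenImmersion_of_opensRange_eq_top _ (Scheme.Opens.opensRange_ι _)
  let DT : (d.J)ᵒᵖ ⥤ Over S := d.toI.monotone.functor.op ⋙ Tf
  haveI : ∀ p : (d.J)ᵒᵖ, IsIso (d.Wo (op (d.toI p.unop))).ι := fun p => hWo _
  let θl : ∀ p : (d.J)ᵒᵖ, (DT.obj p).left ⟶ Spec (CommRingCat.of (d.toB p.unop).1) := fun p =>
    inv (d.Wo (op (d.toI p.unop))).ι ≫ d.θ p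
  have hθn : ∀ {p q : (d.J)ᵒᵖ} (φ : p ⟶ q), (DT.map φ).left ≫ θl q = θl p ≫ d.DV.map φ := fun {p q} φ => by
    show d.D.map (d.toI.monotone.functor.op.map φ) ≫ inv (d.Wo (op (d.toI q.unop))).ι ≫ d.θ q = (inv (d.Wo (op (d.toI p.unop))).ι ≫ d.θ p) ≫ d.DV.map φ
    rw [← cancel_epi (d.Wo (op (d.toI p.unop))).ι, Category.assoc, IsIso.hom_inv_id_assoc]
    refine Eq.trans ?_ (d.g.naturality φ)
    have hn := d.ιW.naturality (d.toI.monotone.functor.op.map φ)
    show ((d.Wo (op (d.toI p.unop))).ι ≫ d.D.map (d.toI.monotone.functor.op.map φ) ≫ inv (d.Wo (op (d.toI q.unop))).ι ≫ d.θ q) = d.DW.map (d.toI.monotone.functor.op.map φ) ≫ d.θ q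
    exact (Category.assoc _ _ _).symm.trans ((congrArg (· ≫ inv (d.Wo (op (d.toI q.unop))).ι ≫ d.θ q) hn.symm).trans
      ((Category.assoc _ _ _).trans (congrArg _ (IsIso.hom_inv_id_assoc (d.Wo (op (d.toI q.unop))).ι _))))
  let θ : DT ⟶ d.toB.monotone.functor.op ⋙ affTower hS A :=
    { app := fun p => Over.homMk (θl p) (hS.hom_ext _ _)
      naturality := fun p q φ => Over.OverMorphism.ext (hθn φ) }
  let τ : DT ⋙ yon S ⟶ (F.comp d.toI).monotone.functor.op ⋙ D :=
    { app := fun p => a (op (d.toI p.unop))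
      naturality := fun p q φ => hTfa (d.toI.monotone.functor.op.map φ) }
  have hθo : ∀ p, IsOpenImmersion (θl p) := fun p =>
    inferInstanceAs (IsOpenImmersion (inv (d.Wo (op (d.toI p.unop))).ι ≫ d.θ p))
  have hθr : ∀ p, Set.range (θl p) = d.WB (d.toB p.unop) := fun p => by
    rw [← d.range_θ p]
    refine Set.Subset.antisymm ?_ ?_
    · rintro _ ⟨x, rfl⟩
      exact ⟨inv (d.Wo (op (d.toI p.unop))).ι x, (Scheme.Hom.comp_apply _ _ _).symm⟩
    · rintro _ ⟨x, rfl⟩
      refine ⟨(d.Wo (op (d.toI p.unop))).ι x, ?_⟩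
      exact (Scheme.Hom.comp_apply _ _ _).symm.trans
        (congrArg (fun f : _ ⟶ Spec (CommRingCat.of (d.toB p.unop).1) => f x)
          (IsIso.hom_inv_id_assoc (d.Wo (op (d.toI p.unop))).ι (d.θ p)))
  have hwθ : ∀ p, (wT (op (d.toI p.unop))).left ≫ θl p = o ≫ d.q (d.toB p.unop) := fun p => by
    rw [← cancel_epi d.jU]
    have h1 := d.pW_θ p
    have h2 := d.pW_ι (op (d.toI p.unop))
    refine Eq.trans ?_ ((h1.trans (congrArg (· ≫ d.q (d.toB p.unop)) (show d.W.ι = d.jU ≫ o from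
      (o.isoOpensRange_inv_comp).symm))).trans (Category.assoc _ _ _))
    show d.jU ≫ d.π.app (op (d.toI p.unop)) ≫ inv (d.Wo (op (d.toI p.unop))).ι ≫ d.θ p = _
    rw [← reassoc_of% h2]
    exact congrArg _ (IsIso.hom_inv_id_assoc _ _)
  refine ⟨d.J, inferInstance, inferInstance, inferInstance, F.comp d.toI, d.toB,
    AbsApprox.final_of_cofinal _ fun i => ?_, inferInstance, DT, θ, τ, fun p => wT (op (d.toI p.unop)),
    fun p => ⟨hθo p, hae _, has _, hTwc _, hTwl _⟩, fun {p q} φ => ⟨?_, ?_⟩, fun p => ⟨?_, sqWT _⟩⟩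
  · obtain ⟨k, hk, hk'⟩ := exists_ge_ge i i₀
    obtain ⟨l, B, hl, -, hgood⟩ := d.exists_good (⟨k, hk'⟩ : I') ⟨⊥, Subalgebra.fg_bot⟩
    exact ⟨⟨(l, B), hgood⟩, hk.trans hl⟩
  · haveI := hθo p
    haveI := hθo q
    refine (IsOpenImmersion.isPullback (DT.map φ).left (θl p) (θl q) (d.DV.map φ) (hθn φ).symm ?_).flip
    refine TopologicalSpace.Opens.ext ?_
    show d.DV.map φ ⁻¹' Set.range (θl q) = Set.range (θl p)
    rw [hθr, hθr, ← d.preimage_WB (d.toB.monotone (leOfHom φ.unop)) q.unop.2.1]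
    rfl
  · exact sqT (d.toI.monotone.functor.op.map φ)
  · haveI := hθo p
    refine (IsOpenImmersion.isPullback (wT (op (d.toI p.unop))).left o (θl p)
      ((fgCone A).π.app (op (d.toB p.unop))) (hwθ p).symm ?_).flip
    refine TopologicalSpace.Opens.ext ?_
    show d.q (d.toB p.unop) ⁻¹' Set.range (θl p) = Set.range o
    rw [hθr]
    exact d.preimage_q (d.toB p.unop) p.unop.2.1

end Groth.Agent.SpApprox

end
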