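import Groth.Agent.SpApprox.AbsGlue
import Groth.Agent.AlgSpLib.FppfBase
import Groth.Agent.SchImg.LimSpace

/-!
Glueing two towers of spaces along a common tower, etale over the first and open in the second.
-/

set_option autoImplicit false
set_option linter.style.haveILetI false
set_option backward.isDefEq.respectTransparency false

universe u

noncomputable section

open CategoryTheory CategoryTheory.Limits AlgebraicGeometry Opposite AlgSp

namespace Groth.Agent.SpApprox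

open Groth.Agent.AlgSpLib

variable {S : Scheme.{u}}

/-- a piece of a limit cut out by a cartesian piece at a stage -/
theorem isPullback_piece {J : Type u} [SmallCategory J] [IsCofiltered J] (DU X : J ⥤ Sp S) (cU : Cone DU)
    (hcU : IsLimit cU) (L : Cone X) (hL : IsLimit L) (j : ∀ p, DU.obj p ⟶ X.obj p)
    (sq : ∀ {p q : J} (φ : p ⟶ q), IsPullback (DU.map φ) (j p) (j q) (X.map φ)) (k : cU.pt ⟶ L.pt)
    (hk : ∀ p, k ≫ L.π.app p = cU.π.app p ≫ j p) (p₀ : J) :
    IsPullback (cU.π.app p₀) k (j p₀) (L.π.app p₀) := by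
  let Q := pullback (j p₀) (L.π.app p₀)
  let hcU' := (Functor.Initial.isLimitWhiskerEquiv (CategoryTheory.Over.forget p₀) cU).symm hcU
  let comp : ∀ l : CategoryTheory.Over p₀, Q ⟶ DU.obj l.left := fun l =>
    (sq l.hom).lift (pullback.fst _ _) (pullback.snd _ _ ≫ L.π.app l.left) (by
      rw [pullback.condition, Category.assoc, L.w])
  let s : Cone (CategoryTheory.Over.forget p₀ ⋙ DU) :=
    { pt := Q
      π :=
        { app := comp
          naturality := fun l m a => by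
            show 𝟙 Q ≫ comp m = comp l ≫ DU.map a.left
            rw [Category.id_comp]
            refine (sq m.hom).hom_ext ?_ ?_
            · rw [Category.assoc, ← DU.map_comp, CategoryTheory.Over.w a]
              simp only [comp, IsPullback.lift_fst]
            · rw [Category.assoc, (sq a.left).w]
              simp only [comp, IsPullback.lift_snd, IsPullback.lift_snd_assoc, Category.assoc, L.w] } }
  let σ : Q ⟶ cU.pt := hcU'.lift s
  have hσ : ∀ l : CategoryTheory.Over p₀, σ ≫ cU.π.app l.left = comp l := fun l => hcU'.fac s l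
  let τ : cU.pt ⟶ Q := pullback.lift (cU.π.app p₀) k (hk p₀).symm
  have h1 : τ ≫ σ = 𝟙 _ := hcU'.hom_ext fun l => by
    show (τ ≫ σ) ≫ cU.π.app l.left = 𝟙 _ ≫ cU.π.app l.left
    rw [Category.assoc, hσ, Category.id_comp]
    refine (sq l.hom).hom_ext ?_ ?_
    · rw [Category.assoc, cU.w]
      simp only [comp, τ, IsPullback.lift_fst, pullback.lift_fst]
    · simp only [comp, τ, Category.assoc, IsPullback.lift_snd, pullback.lift_snd_assoc, hk]
  have h2 : σ ≫ τ = 𝟙 _ := by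
    apply pullback.hom_ext
    · rw [Category.assoc, pullback.lift_fst, Category.id_comp]
      refine (hσ (CategoryTheory.Over.mk (𝟙 p₀))).trans ?_
      exact ((Category.comp_id _).symm.trans (congrArg (comp (CategoryTheory.Over.mk (𝟙 p₀)) ≫ ·) (DU.map_id p₀).symm)).trans
        ((sq (𝟙 p₀)).lift_fst _ _ _)
    · rw [Category.assoc, pullback.lift_snd, Category.id_comp]
      refine hL.hom_ext fun p => ?_
      obtain ⟨r, a, b, -⟩ := IsCofilteredOrEmpty.cone_objs p p₀
      rw [← L.w a, Category.assoc, reassoc_of% hk]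
      refine ((Category.assoc _ _ _).symm.trans (congrArg (· ≫ j r ≫ X.map a) (hσ (CategoryTheory.Over.mk b)))).trans ?_
      simp only [comp, CategoryTheory.Over.mk_hom, CategoryTheory.Over.mk_left, IsPullback.lift_snd_assoc,
        Category.assoc]
  exact IsPullback.of_iso_pullback ⟨(hk p₀).symm⟩ ⟨τ, σ, h1, h2⟩ (pullback.lift_fst _ _ _) (pullback.lift_snd _ _ _)

set_option maxHeartbeats 2000000 in
/-- glueing of towers -/
theorem exists_glue_tower {J : Type u} [SmallCategory J] [IsCofiltered J] (DU DV DT : J ⥤ Sp S)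
    (hU : ∀ p, IsAlgSpace (DU.obj p)) (hV : ∀ p, IsAlgSpace (DV.obj p)) (hT : ∀ p, IsAlgSpace (DT.obj p))
    (hUa : ∀ (p q : J) (φ : p ⟶ q), IsAffineMor (DU.map φ)) (hVa : ∀ (p q : J) (φ : p ⟶ q), IsAffineMor (DV.map φ))
    (o : DT ⟶ DV) (g : DT ⟶ DU) (ho : ∀ p, RepWith @IsOpenImmersion (o.app p))
    (hge : ∀ p, IsEtaleMor (g.app p)) (hgs : ∀ p, IsSeparatedMor (g.app p))
    (sqo : ∀ {p q : J} (φ : p ⟶ q), IsPullback (o.app p) (DT.map φ) (DV.map φ) (o.app q))
    (sqg : ∀ {p q : J} (φ : p ⟶ q), IsPullback (g.app p) (DT.map φ) (DU.map φ) (g.app q))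
    (cU : Cone DU) (hcU : IsLimit cU) (cV : Cone DV) (hcV : IsLimit cV) {W' W : Sp S}
    (o' : W' ⟶ cV.pt) (g' : W' ⟶ cU.pt) (πT : ∀ p, W' ⟶ DT.obj p)
    (sqo' : ∀ p, IsPullback o' (πT p) (cV.π.app p) (o.app p))
    (sqg' : ∀ p, IsPullback g' (πT p) (cU.π.app p) (g.app p))
    (f' : cV.pt ⟶ W) (k' : cU.pt ⟶ W) (H : IsPushout o' g' f' k') :
    ∃ (X : J ⥤ Sp S) (π : (Functor.const J).obj W ⟶ X) (_ : IsLimit (Cone.mk W π))
      (j : ∀ p, DU.obj p ⟶ X.obj p) (f : ∀ p, DV.obj p ⟶ X.obj p),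
      (∀ p, IsAlgSpace (X.obj p)) ∧ (∀ (p q : J) (φ : p ⟶ q), IsAffineMor (X.map φ)) ∧
      (∀ p, RepWith @IsOpenImmersion (j p) ∧ IsEtaleMor (f p)) ∧
      (∀ p (x : Points (X.obj p)), x ∈ Set.range (Points.map (j p)) ∨ x ∈ Set.range (Points.map (f p))) ∧
      (∀ p, IsPushout (o.app p) (g.app p) (f p) (j p) ∧ IsPullback (o.app p) (g.app p) (f p) (j p)) ∧
      (∀ p, IsPullback (cU.π.app p) k' (j p) (π.app p) ∧ IsPullback (cV.π.app p) f' (f p) (π.app p)) := by
  classical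
  choose X₀ j f hX hpush hpull hsq using fun p =>
    EtGlue.exists_glue (hU p) (hV p) (hT p) (o.app p) (ho p) (g.app p) (hgs p) (hge p)
  haveI : ∀ p, Mono (o.app p) := fun p => EtGlue.mono_of_open (ho p)
  have hw : ∀ {p q : J} (φ : p ⟶ q), o.app p ≫ DV.map φ ≫ f q = g.app p ≫ DU.map φ ≫ j q := fun {p q} φ => by
    rw [← NatTrans.naturality_assoc, ← NatTrans.naturality_assoc, (hpush q).w]
  let X : J ⥤ Sp S :=
    { obj := X₀
      map := fun {p q} φ => (hpush p).desc (DV.map φ ≫ f q) (DU.map φ ≫ j q) (hw φ)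
      map_id := fun p => (hpush p).hom_ext (by simp) (by simp)
      map_comp := fun {p q r} φ ψ => (hpush p).hom_ext (by simp) (by simp) }
  have hfX : ∀ {p q : J} (φ : p ⟶ q), f p ≫ X.map φ = DV.map φ ≫ f q := fun φ => (hpush _).inl_desc _ _ _
  have hjX : ∀ {p q : J} (φ : p ⟶ q), j p ≫ X.map φ = DU.map φ ≫ j q := fun φ => (hpush _).inr_desc _ _ _
  have hcart : ∀ {p q : J} (φ : p ⟶ q), IsPullback (f p) (DV.map φ) (X.map φ) (f q) ∧
      IsPullback (j p) (DU.map φ) (X.map φ) (j q) := fun {p q} φ =>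
    (Adhesive.van_kampen (hpush q) (o.app p) (g.app p) (f p) (j p) (DT.map φ) (DV.map φ) (DU.map φ) (X.map φ)
      (sqo φ) (sqg φ) ⟨hfX φ⟩ ⟨hjX φ⟩ ⟨(hpush p).w⟩).1 (hpush p)
  have hcov : ∀ p (x : Points (X₀ p)), x ∈ Set.range (Points.map (j p)) ∨ x ∈ Set.range (Points.map (f p)) := by
    intro p x
    obtain ⟨-, -, T, PT, i, p₁, p₂, ⟨-, hir, -⟩, sT, hp₁⟩ := hsq p
    by_cases hx : x ∈ Set.range (Points.map (j p))
    · exact Or.inl hx
    · obtain ⟨t, ht⟩ : x ∈ Set.range (Points.map i) := hir ▸ hx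
      refine Or.inr ⟨Points.map (inv p₁ ≫ p₂) t, ?_⟩
      rw [← Points.map_comp, Category.assoc, ← sT.w, IsIso.inv_hom_id_assoc, ht]
  have hje : ∀ p, IsEtaleMor (j p) := fun p => EtGlue.etaleMor_of_open (hsq p).1
  have hfe : ∀ p, IsEtaleMor (f p) := fun p => (hsq p).2.1
  let Y : J → ULift.{u} Bool → Sp S := fun p b => bif b.down then DU.obj p else DV.obj p
  let q : ∀ p b, Y p b ⟶ X₀ p := fun p b => match b with
    | ⟨true⟩ => j p
    | ⟨false⟩ => f p
  have hY : ∀ p b, IsAlgSpace (Y p b) := fun p b => match b with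
    | ⟨true⟩ => hU p
    | ⟨false⟩ => hV p
  have hcovQ : ∀ p, IsFppfCover (Y p) (q p) := fun p => by
    refine ⟨fun b => match b with
      | ⟨true⟩ => EtGlue.fppf_of_etale (hX p) (hje p)
      | ⟨false⟩ => EtGlue.fppf_of_etale (hX p) (hfe p), fun x => ?_⟩
    rcases hcov p x with h | h
    · exact ⟨⟨true⟩, h⟩
    · exact ⟨⟨false⟩, h⟩
  have hXa : ∀ (p q : J) (φ : p ⟶ q), IsAffineMor (X.map φ) := fun p r φ => by
    refine (isAffineMor_iff_repWith _).2 ?_
    exact repWith_of_fppfCover @IsAffineHom (fun _ _ m hm => @Groth.Agent.AlgSpLib.indQA_of_isAffineHom _ _ m hm) (hX r) (hY r)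
      (hcovQ r) (X.map φ) (Y p)
      (fun b => match b with
        | ⟨true⟩ => DU.map φ
        | ⟨false⟩ => DV.map φ)
      (q p)
      (fun b => match b with
        | ⟨true⟩ => (hcart φ).2
        | ⟨false⟩ => (hcart φ).1)
      (fun b => match b with
        | ⟨true⟩ => (isAffineMor_iff_repWith _).1 (hUa _ _ φ)
        | ⟨false⟩ => (isAffineMor_iff_repWith _).1 (hVa _ _ φ))
  have hπw : ∀ p, o' ≫ cV.π.app p ≫ f p = g' ≫ cU.π.app p ≫ j p := fun p => by
    rw [← Category.assoc, (sqo' p).w, ← Category.assoc g', (sqg' p).w, Category.assoc, Category.assoc, (hpush p).w]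
  let π : (Functor.const J).obj W ⟶ X :=
    { app := fun p => H.desc (cV.π.app p ≫ f p) (cU.π.app p ≫ j p) (hπw p)
      naturality := fun p r φ => by
        show 𝟙 W ≫ _ = _
        rw [Category.id_comp]
        refine H.hom_ext ?_ ?_
        · rw [H.inl_desc, H.inl_desc_assoc, Category.assoc, hfX, ← Category.assoc, cV.w]
        · rw [H.inr_desc, H.inr_desc_assoc, Category.assoc, hjX, ← Category.assoc, cU.w] }
  have hcartW : ∀ p, IsPullback f' (cV.π.app p) (π.app p) (f p) ∧ IsPullback k' (cU.π.app p) (π.app p) (j p) :=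
    fun p => by
      haveI : Mono o' := (sqo' p).mono_fst_of_mono
      exact (Adhesive.van_kampen (hpush p) o' g' f' k' (πT p) (cV.π.app p) (cU.π.app p) (π.app p) (sqo' p) (sqg' p)
        ⟨H.inl_desc _ _ _⟩ ⟨H.inr_desc _ _ _⟩ ⟨H.w⟩).1 H
  obtain ⟨p₀⟩ := IsCofiltered.nonempty (C := J)
  let L := limit.cone X
  let hL : IsLimit L := limit.isLimit X
  have hLs : IsAlgSpace L.pt := SchImg.isAlgSpace_lim X hX hXa L hL
  let ψ : W ⟶ L.pt := hL.lift (Cone.mk W π)
  have hψ : ∀ p, ψ ≫ L.π.app p = π.app p := fun p => hL.fac (Cone.mk W π) p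
  have hPU : IsPullback (cU.π.app p₀) (k' ≫ ψ) (j p₀) (L.π.app p₀) :=
    isPullback_piece DU X cU hcU L hL j (fun φ => ((hcart φ).2).flip) (k' ≫ ψ) (fun p => by
      rw [Category.assoc, hψ, H.inr_desc]) p₀
  have hPV : IsPullback (cV.π.app p₀) (f' ≫ ψ) (f p₀) (L.π.app p₀) :=
    isPullback_piece DV X cV hcV L hL f (fun φ => ((hcart φ).1).flip) (f' ≫ ψ) (fun p => by
      rw [Category.assoc, hψ, H.inl_desc]) p₀
  let Lb : ULift.{u} Bool → Sp S := fun b => bif b.down then cU.pt else cV.pt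
  let gb : ∀ b, Lb b ⟶ L.pt := fun b => match b with
    | ⟨true⟩ => k' ≫ ψ
    | ⟨false⟩ => f' ≫ ψ
  let ab : ∀ b, Lb b ⟶ W := fun b => match b with
    | ⟨true⟩ => k'
    | ⟨false⟩ => f'
  let cb : ∀ b, Lb b ⟶ Y p₀ b := fun b => match b with
    | ⟨true⟩ => cU.π.app p₀
    | ⟨false⟩ => cV.π.app p₀
  have hLb : ∀ b, IsAlgSpace (Lb b) := fun b => match b with
    | ⟨true⟩ => SchImg.isAlgSpace_lim DU hU hUa cU hcU
    | ⟨false⟩ => SchImg.isAlgSpace_lim DV hV hVa cV hcV
  have hg : IsFppfCover Lb gb := isFppfCover_baseChange (hX p₀) (hY p₀) hLs (hcovQ p₀) (L.π.app p₀) (q := cb)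
    (fun b => match b with
      | ⟨true⟩ => hPU
      | ⟨false⟩ => hPV)
  have sqW : ∀ b, IsPullback (𝟙 (Lb b)) (ab b) (gb b) ψ := fun b => by
    match b with
    | ⟨true⟩ =>
      refine IsPullback.of_right (h₁₂ := cU.π.app p₀) (v₁₃ := j p₀) (h₂₂ := L.π.app p₀) ?_ (Category.id_comp _) hPU
      rw [Category.id_comp, hψ]
      exact (hcartW p₀).2.flip
    | ⟨false⟩ =>
      refine IsPullback.of_right (h₁₂ := cV.π.app p₀) (v₁₃ := f p₀) (h₂₂ := L.π.app p₀) ?_ (Category.id_comp _) hPV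
      rw [Category.id_comp, hψ]
      exact (hcartW p₀).1.flip
  haveI : IsIso ψ := isIso_of_fppfCover hLs hLb hg ψ sqW
  have hlim : IsLimit (Cone.mk W π) := hL.ofIsoLimit (Cone.ext (asIso ψ).symm (fun p => by
    show L.π.app p = inv ψ ≫ π.app p
    rw [← hψ, IsIso.inv_hom_id_assoc]))
  exact ⟨X, π, hlim, j, f, hX, hXa, fun p => ⟨(hsq p).1, hfe p⟩, hcov, fun p => ⟨hpush p, hpull p⟩,
    fun p => ⟨(hcartW p).2.flip, (hcartW p).1.flip⟩⟩

end Groth.Agent.SpApprox

end
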