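import Groth.Agent.SpApprox.AbsStages
import Groth.Agent.SpApprox.AbsTower
import Groth.Agent.S10695
import Groth.Agent.S9844
import Groth.Agent.AlgSpLib.CovLocal

/-!
The glueing step of absolute noetherian approximation for spaces.
-/

set_option autoImplicit false
set_option linter.style.haveILetI false
set_option backward.isDefEq.respectTransparency false

universe u

noncomputable section

open CategoryTheory CategoryTheory.Limits AlgebraicGeometry Opposite AlgSp

open Groth.Agent.LimModel (FgSub fgDiagram fgCone fgIsLimit)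

namespace Groth.Agent.SpApprox

open Groth.Agent.AlgSpLib

variable {S : Scheme.{u}}

/-- a space with an approximation by spaces of finite type and schematically dominant projections -/
def HasApproxSp (X : Sp S) : Prop :=
  ∃ (I : Type u) (_ : Preorder I) (_ : IsDirected I (fun a b => a ≤ b)) (_ : Nonempty I) (D : Iᵒᵖ ⥤ Sp S)
    (π : (Functor.const Iᵒᵖ).obj X ⟶ D) (_ : IsLimit (Cone.mk X π)),
    (∀ i, IsAlgSpace (D.obj i) ∧ IsQuasiCompactSp (D.obj i) ∧ IsQuasiSeparatedSp (D.obj i) ∧
      LocP @LocallyOfFiniteType (SpQS.baseStr (D.obj i))) ∧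
    (∀ (i j : Iᵒᵖ) (φ : i ⟶ j), IsAffineMor (D.map φ)) ∧ ∀ i, Dom (π.app i)

/-- the overlap of the etale piece with itself -/
theorem isQuasiCompactSp_kernel [QuasiSeparatedSpace ↥S] {U V T X : Sp S} (hU : IsAlgSpace U) (hV : IsAlgSpace V)
    (hT : IsAlgSpace T) (hX : IsAlgSpace X) {o : T ⟶ V} (ho : RepWith @IsOpenImmersion o) {g : T ⟶ U}
    (hsep : IsSeparatedMor g) (het : IsEtaleMor g) {f : V ⟶ X} {j : U ⟶ X} (H : IsPushout o g f j)
    (hUs : IsQuasiSeparatedSp U) (hVq : IsQuasiCompactSp V) (hTq : IsQuasiCompactSp T) (hTs : IsQuasiSeparatedSp T) :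
    IsQuasiCompactSp (pullback f f) := by
  haveI := EtGlue.mono_of_open ho
  let A := pullback g g
  have hA : IsAlgSpace A := isAlgSpace_of_isPullback_space hU hT hT (IsPullback.of_hasPullback g g)
  have ha₁ : IsEtaleMor (pullback.fst g g) :=
    isEtaleMor_baseChange hT hU hT (IsPullback.of_hasPullback g g).flip het
  let δ : T ⟶ A := pullback.diagonal g
  have hδo : RepWith @IsOpenImmersion δ := by
    have : Mono δ := inferInstanceAs (Mono (pullback.diagonal g))
    refine repWith_isOpenImmersion_of_mono hT hA δ (isEtaleMor_of_comp hA hT ?_ ha₁)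
    rw [pullback.diagonal_fst]
    exact EtGlue.etale_iso _
  obtain ⟨C, e, hC, heo, hdisj, ⟨colA⟩⟩ := EtGlue.exists_compl hA hT δ hδo hsep
  let K := pullback f f
  let Δ : V ⟶ K := pullback.diagonal f
  let ι : A ⟶ K := pullback.lift (pullback.fst g g ≫ o) (pullback.snd g g ≫ o) (by
    rw [Category.assoc, Category.assoc, H.w, reassoc_of% (pullback.condition (f := g) (g := g))])
  have PK : IsPushout o δ Δ ι := EtGlue.kernel_union H (IsPullback.of_hasPullback g g) (IsPullback.of_hasPullback f f)
    (pullback.diagonal_fst g) (pullback.diagonal_snd g) (pullback.diagonal_fst f) (pullback.diagonal_snd f)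
    (pullback.lift_fst _ _ _) (pullback.lift_snd _ _ _)
  obtain ⟨colK⟩ := EtGlue.isColimit_pushout_cofan colA PK
  have hK : IsAlgSpace K := isAlgSpace_of_isPullback_space hX hV hV (IsPullback.of_hasPullback f f)
  obtain ⟨hAq, -⟩ := SpQS.qcqs_of_isPullback hT hU hT (IsPullback.of_hasPullback g g) hTq hTs hUs hTq hTs
  haveI := compactSpace_of_isQuasiCompactSp hVq
  haveI := compactSpace_of_isQuasiCompactSp hAq
  haveI : CompactSpace (Points K) := ⟨by
    rw [show (Set.univ : Set (Points K)) = Set.range (Points.map Δ) ∪ Set.range (Points.map ι) from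
      (Set.eq_univ_of_forall fun x => by
        obtain ⟨⟨_ | _⟩, y, hy⟩ := Bootstrap.exists_range_inj colK x
        · refine Or.inr ⟨Points.map e y, ?_⟩
          rw [← Points.map_comp]
          exact hy
        · exact Or.inl ⟨y, hy⟩).symm]
    exact (isCompact_range (Points.continuous_map Δ)).union (isCompact_range (Points.continuous_map ι))⟩
  exact isQuasiCompactSp_of_compactSpace hK

theorem dom_of_pieces {U V W X : Sp S} {DV : Over S} (hX : IsAlgSpace X) {Vinf : Over S} {pU : U ⟶ V}
    {j : V ⟶ X} (hj : RepWith @IsOpenImmersion j) {f : (yon S).obj DV ⟶ X} (hf : IsEtaleMor f)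
    (hcov : ∀ x : Points X, x ∈ Set.range (Points.map j) ∨ x ∈ Set.range (Points.map f))
    {π : W ⟶ X} {k' : U ⟶ W} {f' : (yon S).obj Vinf ⟶ W} {q : Vinf ⟶ DV}
    (sqU : IsPullback pU k' j π) (sqV : IsPullback ((yon S).map q) f' f π)
    (hdom : Dom pU) [IsSchemeTheoreticallyDominant q.left] [QuasiCompact q.left] : Dom π := by
  intro E e he P a b sq s t hst
  obtain ⟨O, aO, m, sqO, hm⟩ := exists_repWith hj e
  haveI : IsOpenImmersion m.left := hm
  obtain ⟨EV, r, n, sqE⟩ := exists_pullback hX.diag f e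
  have hfr : RepWith @Etale f := by
    have := hf (𝟙 _) (repWith_id _ _)
    rwa [Category.id_comp] at this
  haveI : Etale n.left := (repWith_yon_iff n).1 (repWith_baseChange sqE hfr)
  haveI : Etale r.left := (repWith_yon_iff r).1 (repWith_baseChange sqE.flip he)
  -- the open piece
  have h1 : m.left.appTop.hom s = m.left.appTop.hom t := by
    let P₁ : Over S := Over.mk (pullback.fst b.left m.left ≫ P.hom)
    let pP : P₁ ⟶ P := Over.homMk (pullback.fst b.left m.left) rfl
    let bO : P₁ ⟶ O := Over.homMk (pullback.snd b.left m.left) (by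
      show pullback.snd b.left m.left ≫ O.hom = pullback.fst b.left m.left ≫ P.hom
      rw [← Over.w m, ← Over.w b, pullback.condition_assoc])
    have hsq₁ : IsPullback ((yon S).map pP) ((yon S).map bO) ((yon S).map b) ((yon S).map m) :=
      isPullback_yon_iff.2 (IsPullback.of_hasPullback b.left m.left)
    have big := hsq₁.paste_horiz sq
    rw [← sqO.w] at big
    let l : (yon S).obj P₁ ⟶ U := sqU.lift ((yon S).map bO ≫ aO) ((yon S).map pP ≫ a) (by
      rw [Category.assoc, big.w])
    have sq₂ : IsPullback l ((yon S).map bO) pU aO := by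
      refine IsPullback.of_right (h₁₂ := k') (v₁₃ := π) (h₂₂ := j) ?_ (sqU.lift_fst _ _ _) sqU.flip
      rw [sqU.lift_snd]
      exact big
    refine hdom aO (repWith_baseChange sqO.flip he) l bO sq₂ ?_
    have hw : pP.left ≫ b.left = bO.left ≫ m.left := pullback.condition
    have hw' := congrArg (fun φ => Scheme.Hom.appTop φ) hw
    simp only [Scheme.Hom.comp_appTop] at hw'
    rw [← CommRingCat.comp_apply, ← CommRingCat.comp_apply, ← hw', CommRingCat.comp_apply, CommRingCat.comp_apply, hst]
  -- the affine piece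
  have h2 : n.left.appTop.hom s = n.left.appTop.hom t := by
    let P₁ : Over S := Over.mk (pullback.fst b.left n.left ≫ P.hom)
    let pP : P₁ ⟶ P := Over.homMk (pullback.fst b.left n.left) rfl
    let bV : P₁ ⟶ EV := Over.homMk (pullback.snd b.left n.left) (by
      show pullback.snd b.left n.left ≫ EV.hom = pullback.fst b.left n.left ≫ P.hom
      rw [← Over.w n, ← Over.w b, pullback.condition_assoc])
    have hsq₁ : IsPullback ((yon S).map pP) ((yon S).map bV) ((yon S).map b) ((yon S).map n) :=
      isPullback_yon_iff.2 (IsPullback.of_hasPullback b.left n.left)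
    have big := hsq₁.paste_horiz sq
    rw [← sqE.w] at big
    let l : (yon S).obj P₁ ⟶ (yon S).obj Vinf := sqV.lift ((yon S).map bV ≫ (yon S).map r) ((yon S).map pP ≫ a) (by
      rw [Category.assoc, big.w])
    obtain ⟨l', hl'⟩ := exists_map_eq l
    have sq₂ : IsPullback l ((yon S).map bV) ((yon S).map q) ((yon S).map r) := by
      refine IsPullback.of_right (h₁₂ := f') (v₁₃ := π) (h₂₂ := f) ?_ (sqV.lift_fst _ _ _) sqV.flip
      rw [sqV.lift_snd]
      exact big
    rw [← hl'] at sq₂
    have sq₃ : IsPullback l'.left bV.left q.left r.left := isPullback_yon_iff.1 sq₂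
    haveI : IsSchemeTheoreticallyDominant bV.left := IsSchemeTheoreticallyDominant.of_isPullback sq₃
    haveI : QuasiCompact bV.left := MorphismProperty.of_isPullback (P := @QuasiCompact) sq₃ inferInstance
    refine bV.left.app_injective ⊤ ?_
    have hw : pP.left ≫ b.left = bV.left ≫ n.left := pullback.condition
    have hw' := congrArg (fun φ => Scheme.Hom.appTop φ) hw
    simp only [Scheme.Hom.comp_appTop] at hw'
    show (n.left.appTop ≫ bV.left.appTop).hom s = (n.left.appTop ≫ bV.left.appTop).hom t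
    rw [← hw', CommRingCat.comp_apply, CommRingCat.comp_apply, hst]
  let Z : ULift.{u} Bool → Scheme.{u} := fun b => bif b.down then O.left else EV.left
  let gz : ∀ b, Z b ⟶ E.left := fun b => match b with
    | ⟨true⟩ => m.left
    | ⟨false⟩ => n.left
  haveI : ∀ b, Flat (gz b) := fun b => match b with
    | ⟨true⟩ => (inferInstance : Flat m.left)
    | ⟨false⟩ => (inferInstance : Flat n.left)
  refine gamma_injective_flat gz (fun z => ?_) (fun b => match b with
    | ⟨true⟩ => h1
    | ⟨false⟩ => h2)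
  rcases hcov (Points.ofPt e z) with ⟨x, hx⟩ | ⟨x, hx⟩
  · obtain ⟨y, -, hy⟩ := exists_point_of_isPullback sqO x (Points.ofScheme E z)
      (hx.trans (Points.ofPt_eq_map_ofScheme e z))
    obtain ⟨y', rfl⟩ := (Points.schemeEquiv O).surjective y
    refine ⟨⟨true⟩, y', (Points.schemeEquiv E).injective ?_⟩
    exact Eq.trans (show Points.ofPt (𝟙 _) (m.left y') = Points.map ((yon S).map m) (Points.ofPt (𝟙 _) y') by
      rw [Points.map_ofPt, Category.id_comp, ← Category.comp_id ((yon S).map m), ofPt_comp]) hy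
  · obtain ⟨y, -, hy⟩ := exists_point_of_isPullback sqE x (Points.ofScheme E z)
      (hx.trans (Points.ofPt_eq_map_ofScheme e z))
    obtain ⟨y', rfl⟩ := (Points.schemeEquiv EV).surjective y
    refine ⟨⟨false⟩, y', (Points.schemeEquiv E).injective ?_⟩
    exact Eq.trans (show Points.ofPt (𝟙 _) (n.left y') = Points.map ((yon S).map n) (Points.ofPt (𝟙 _) y') by
      rw [Points.map_ofPt, Category.id_comp, ← Category.comp_id ((yon S).map n), ofPt_comp]) hy

set_option maxHeartbeats 4000000 in
theorem hasApproxSp_step (hS : IsTerminal S) {U W : Sp S} {V : Over S} [IsAffine V.left] (hU : IsAlgSpace U)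
    (hW : IsAlgSpace W) (k : U ⟶ W) (f : (yon S).obj V ⟶ W) (hsq : IsElemDistSq k f)
    (hWs : IsQuasiSeparatedSp W) (h : HasApproxSp U) : HasApproxSp W := by
  classical
  haveI := quasiSeparatedSpace_terminal hS
  haveI := isLocallyNoetherian_terminal hS
  obtain ⟨I, _, _, _, D, π, hl, hD, hDa, hdom⟩ := h
  haveI : IsCofiltered Iᵒᵖ := isCofiltered_op_of_isFiltered _
  obtain ⟨i₁⟩ := IsCofiltered.nonempty (C := Iᵒᵖ)
  have hp : RepWith @IsAffineHom (π.app i₁) := (isAffineMor_iff_repWith _).1
    (SchImg.repWith_affine_lim D hDa (Cone.mk U π) hl i₁)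
  obtain ⟨hUq, hUs⟩ := SpDesc.qcqs_of_affine hU (hD i₁).1 hp (hD i₁).2.1 (hD i₁).2.2.1
  obtain ⟨hk, hfe, -⟩ := id hsq
  obtain ⟨W', g, o, sqW, ho⟩ := exists_repWith hk f
  haveI : IsOpenImmersion o.left := ho
  have hV : IsAlgSpace ((yon S).obj V) := IsAlgSpace.yon_obj V
  have hW' : IsAlgSpace ((yon S).obj W') := IsAlgSpace.yon_obj W'
  haveI : CompactSpace W'.left := SpDesc.compactSpace_of_sp (SpQS.qcqs_of_isPullback hU hW hV sqW hUq hUs hWs
    (isQuasiCompactSp_yon V) (ElemSq.isQuasiSeparatedSp_yon ‹_›)).1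
  have hge : IsEtaleMor g := isEtaleMor_baseChange hV hW hU sqW.flip hfe
  have hgs : IsSeparatedMor g :=
    isSeparatedMor_baseChange sqW.flip (ColimEtale.isSeparatedMor_of_affine_source ‹_› f)
  let A : Type u := Γ(V.left, ⊤)
  obtain ⟨J, _, _, _, toI, toB, hI, hB, DT, θ, τ, w, hDT, hsqs, hproj⟩ := exists_stages hS D (fun i => (hD i).1) hDa
    (fun i => (hD i).2.1) (fun i => (hD i).2.2.1) (fun i => (hD i).2.2.2) (Cone.mk U π) hl hdom A W'
    (o.left ≫ V.left.isoSpec.hom) g hge hgs
  haveI := hI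
  haveI := hB
  haveI : IsCofiltered Jᵒᵖ := isCofiltered_op_of_isFiltered _
  haveI : IsConnected Jᵒᵖ := IsCofiltered.isConnected _
  -- the affine side
  let G : Jᵒᵖ ⥤ Over S := toB.monotone.functor.op ⋙ affTower hS A
  let q : ∀ p : Jᵒᵖ, V ⟶ G.obj p := fun p =>
    Over.homMk (V.left.isoSpec.hom ≫ (fgCone A).π.app (op (toB p.unop))) (hS.hom_ext _ _)
  let LV : Cone G :=
    { pt := V
      π :=
        { app := q
          naturality := fun p p' φ => Over.OverMorphism.ext (by
            show 𝟙 _ ≫ V.left.isoSpec.hom ≫ _ = (V.left.isoSpec.hom ≫ _) ≫ _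
            rw [Category.id_comp, Category.assoc]
            exact congrArg (V.left.isoSpec.hom ≫ ·) ((fgCone A).w (toB.monotone.functor.op.map φ)).symm) } }
  let hfg : IsLimit ((fgCone A).whisker toB.monotone.functor.op) :=
    (Functor.Initial.isLimitWhiskerEquiv toB.monotone.functor.op (fgCone A)).symm (fgIsLimit A)
  have hLV : IsLimit LV := isLimitOfReflects (Over.forget S)
    (hfg.ofIsoLimit (Cone.ext V.left.isoSpec.symm (fun p => (Iso.inv_hom_id_assoc _ _).symm)) :
      IsLimit ((Over.forget S).mapCone LV))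
  have hVa : ∀ (p p' : Jᵒᵖ) (φ : p ⟶ p'), IsAffineMor ((G ⋙ yon S).map φ) := fun p p' φ =>
    (isAffineMor_iff_repWith _).2 ((repWith_yon_iff _).2 (inferInstanceAs (IsAffineHom
      ((fgDiagram A).map (toB.monotone.functor.op.map φ)))))
  have hGa : ∀ p, IsAffine (G.obj p).left := fun p =>
    inferInstanceAs (IsAffine ((fgDiagram A).obj (op (toB p.unop))))
  let cU : Cone (toI.monotone.functor.op ⋙ D) := (Cone.mk U π).whisker _
  let hcU : IsLimit cU := (Functor.Initial.isLimitWhiskerEquiv toI.monotone.functor.op (Cone.mk U π)).symm hl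
  -- the pushout
  have H : IsPushout ((yon S).map o) g f k := by
    refine ⟨⟨sqW.w.symm⟩, ⟨PushoutCocone.IsColimit.mk sqW.w.symm
      (fun s => (S10695.exists_desc hU hV hW k f hsq g _ sqW s.inr s.inl s.condition.symm).1.choose)
      (fun s => (S10695.exists_desc hU hV hW k f hsq g _ sqW s.inr s.inl s.condition.symm).1.choose_spec.2)
      (fun s => (S10695.exists_desc hU hV hW k f hsq g _ sqW s.inr s.inl s.condition.symm).1.choose_spec.1)
      (fun s m h1 h2 => (S10695.exists_desc hU hV hW k f hsq g _ sqW s.inr s.inl s.condition.symm).2 m _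
        (h2.trans (S10695.exists_desc hU hV hW k f hsq g _ sqW s.inr s.inl s.condition.symm).1.choose_spec.1.symm)
        (h1.trans (S10695.exists_desc hU hV hW k f hsq g _ sqW s.inr s.inl s.condition.symm).1.choose_spec.2.symm))⟩⟩
  obtain ⟨X, πX, hlim, jX, fX, hX, hXa, hpieces, hcov, hpp, hcart⟩ := exists_glue_tower
    (toI.monotone.functor.op ⋙ D) (G ⋙ yon S) (DT ⋙ yon S) (fun p => (hD _).1) (fun p => IsAlgSpace.yon_obj _)
    (fun p => IsAlgSpace.yon_obj _) (fun p p' φ => hDa _ _ _) hVa (Functor.whiskerRight θ (yon S)) τ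
    (fun p => (repWith_yon_iff _).2 (hDT p).1) (fun p => (hDT p).2.1) (fun p => (hDT p).2.2.1)
    (fun {p p'} φ => isPullback_yon_iff.2 (hsqs φ).1) (fun {p p'} φ => (hsqs φ).2)
    cU hcU ((yon S).mapCone LV) (isLimitOfPreserves (yon S) hLV) ((yon S).map o) g (fun p => (yon S).map (w p))
    (fun p => isPullback_yon_iff.2 ((hproj p).1.of_iso (Iso.refl _) V.left.isoSpec.symm (Iso.refl _) (Iso.refl _)
      (by simp) (by simp) (by simp [LV, q]) (by simp)))
    (fun p => (hproj p).2) f k H
  refine ⟨J, inferInstance, inferInstance, inferInstance, X, πX, hlim, fun p => ?_, hXa, fun p => ?_⟩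
  · let T := DT.obj p
    obtain ⟨hθ, hτe, hτs, hTc, hTl⟩ := hDT p
    haveI := hTc
    haveI : IsAffine (G.obj p).left := hGa p
    haveI : QuasiSeparatedSpace T.left := by
      haveI : LocallyOfFiniteType T.hom := hTl
      haveI : IsLocallyNoetherian T.left := LocallyOfFiniteType.isLocallyNoetherian T.hom
      infer_instance
    have hTs : IsQuasiSeparatedSp ((yon S).obj T) := (AlgSp.repWith_diag_yon_iff @QuasiCompact T).2
      (inferInstanceAs (QuasiCompact (pullback.diagonal T.hom)))
    haveI := EtGlue.mono_of_open (hpieces p).1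
    obtain ⟨hq, hs⟩ := qcqs_of_two (hD _).1 (IsAlgSpace.yon_obj (G.obj p)) (hX p) (jX p) (fX p)
      (EtGlue.etaleMor_of_open (hpieces p).1) (hpieces p).2 (hcov p) (hD _).2.1 (hD _).2.2.1
      (isQuasiCompactSp_yon _) (ElemSq.isQuasiSeparatedSp_yon (hGa p))
      (SpDesc.qc_of_iso (isAlgSpace_of_isPullback_space (hX p) (hD _).1 (hD _).1 (IsPullback.of_hasPullback _ _))
        (hD _).1 (asIso (pullback.fst (jX p) (jX p))) (hD _).2.1)
      (SpDesc.qc_of_iso (isAlgSpace_of_isPullback_space (hX p) (hD _).1 (IsAlgSpace.yon_obj _)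
        (IsPullback.of_hasPullback _ _)) (IsAlgSpace.yon_obj T) (hpp p).2.flip.isoPullback.symm
        (isQuasiCompactSp_yon T))
      (isQuasiCompactSp_kernel (hD _).1 (IsAlgSpace.yon_obj _) (IsAlgSpace.yon_obj _) (hX p)
        ((repWith_yon_iff _).2 hθ) hτs hτe (hpp p).1 (hD _).2.2.1 (isQuasiCompactSp_yon _)
        (isQuasiCompactSp_yon T) hTs)
    refine ⟨hX p, hq, hs, ?_⟩
    let Y : ULift.{u} Bool → Sp S := fun b =>
      bif b.down then D.obj (op (toI p.unop)) else (yon S).obj (G.obj p)
    let qb : ∀ b, Y b ⟶ X.obj p := fun b => match b with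
      | ⟨true⟩ => jX p
      | ⟨false⟩ => fX p
    haveI := S9844.result.{u}
    refine (isLocalOnSource_fppf @LocallyOfFiniteType Y qb (hX p) (fun b => match b with
      | ⟨true⟩ => (hD _).1
      | ⟨false⟩ => IsAlgSpace.yon_obj _) ⟨fun b => match b with
      | ⟨true⟩ => EtGlue.fppf_of_etale (hX p) (EtGlue.etaleMor_of_open (hpieces p).1)
      | ⟨false⟩ => EtGlue.fppf_of_etale (hX p) (hpieces p).2, fun x => ?_⟩ _ (IsAlgSpace.yon_obj _)).2 fun b => ?_
    · rcases hcov p x with h | h
      · exact ⟨⟨true⟩, h⟩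
      · exact ⟨⟨false⟩, h⟩
    · match b with
      | ⟨true⟩ =>
        show LocP @LocallyOfFiniteType (jX p ≫ SpQS.baseStr _)
        rw [SpQS.isTerminalBase.hom_ext (jX p ≫ SpQS.baseStr _) (SpQS.baseStr _)]
        exact (hD _).2.2.2
      | ⟨false⟩ =>
        show LocP @LocallyOfFiniteType (fX p ≫ SpQS.baseStr _)
        rw [SpQS.isTerminalBase.hom_ext (fX p ≫ SpQS.baseStr _)
          ((yon S).map (Over.homMk (G.obj p).hom (Category.comp_id _) : G.obj p ⟶ Over.mk (𝟙 S)))]
        exact Groth.Agent.AlgSpLib.locP_yon_map etST_lft _ (lft_overT hS (AbsApprox.lft_Spec_of_fg (toB p.unop)))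
  · haveI : IsSchemeTheoreticallyDominant (q p).left := by
      haveI : IsSchemeTheoreticallyDominant ((fgCone A).π.app (op (toB p.unop))) :=
        AbsApprox.std_Spec_map (CommRingCat.ofHom (algebraMap (toB p.unop).1 A)) Subtype.val_injective
      exact inferInstanceAs (IsSchemeTheoreticallyDominant
        (V.left.isoSpec.hom ≫ (fgCone A).π.app (op (toB p.unop))))
    haveI : QuasiCompact (q p).left := by
      haveI : IsAffine (G.obj p).left := hGa p
      exact (HasAffineProperty.iff_of_isAffine (P := @QuasiCompact)).mpr inferInstance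
    exact dom_of_pieces (hX p) (hpieces p).1 (hpieces p).2 (hcov p) (hcart p).1 (hcart p).2 (hdom _)

end Groth.Agent.SpApprox

end
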