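import Groth.Agent.SpApprox.GoodDiagram
import Groth.Agent.SchImg.LimClosed
import Groth.Agent.SchImg.Section
import Groth.Agent.SchImg.Dense

/-!
The scheme-theoretic images of a good diagram have limit `X`.
-/

set_option autoImplicit false
set_option linter.style.haveILetI false
set_option backward.isDefEq.respectTransparency false

universe u

noncomputable section

open CategoryTheory CategoryTheory.Limits AlgebraicGeometry Opposite AlgSp

namespace Groth.Agent.SpApprox

open Groth.Agent.AlgSpLib Groth.Agent.SchImg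

variable {S : Scheme.{u}}

theorem ker_eq_bot_of_stages {I : Type u} [SmallCategory I] [IsCofiltered I] {G : I ⥤ Scheme.{u}} {L : Cone G}
    (hL : IsLimit L) [∀ i, IsAffine (G.obj i)] [IsAffine L.pt] {U : Scheme.{u}} (k : U ⟶ L.pt) [QuasiCompact k]
    (h : ∀ i, (k ≫ L.π.app i).ker = ⊥) : k.ker = ⊥ := by
  refine Scheme.IdealSheafData.ext_of_isAffine ?_
  rw [Scheme.Hom.ker_apply, Scheme.IdealSheafData.ideal_bot]
  refine le_bot_iff.1 fun a ha => ?_
  obtain ⟨i, t, ht⟩ := exists_appTop_π_eq_of_isAffine_of_isLimit G L hL a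
  haveI : QuasiCompact (k ≫ L.π.app i) := inferInstance
  have h0 : t ∈ (k ≫ L.π.app i).ker.ideal ⟨⊤, isAffineOpen_top _⟩ := by
    rw [Scheme.Hom.ker_apply, RingHom.mem_ker]
    show (k ≫ L.π.app i).appTop t = 0
    rw [Scheme.Hom.comp_appTop, CommRingCat.comp_apply]
    exact (congrArg _ ht).trans ha
  rw [h i, Scheme.IdealSheafData.ideal_bot] at h0
  rw [Ideal.mem_bot, ← ht, show t = 0 from h0, map_zero]

theorem isSchImage_id_of_image {X Z Y : Sp S} {ξ : X ⟶ Z} {ε : Z ⟶ Y} (h : IsSchImage (ξ ≫ ε) ε) :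
    IsSchImage ξ (𝟙 Z) := by
  have := mono_of_closed h.1
  refine ⟨repWith_of_isIso _, ⟨ξ, Category.comp_id _⟩, fun Z' i' hZ' hi' ⟨f'', hf''⟩ => ?_⟩
  obtain ⟨k, hk⟩ := h.2.2 (i' ≫ ε) hZ' (repWith_comp hi' h.1) ⟨f'', by rw [reassoc_of% hf'']⟩
  exact ⟨k, (cancel_mono ε).1 (by rw [Category.assoc, hk, Category.id_comp])⟩

set_option maxHeartbeats 1000000 in
/-- A closed subspace of a limit with schematically dominant projections is the whole limit. -/
theorem isLimit_of_dominant {I : Type u} [SmallCategory I] [IsCofiltered I] (D : I ⥤ Sp S)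
    (hD : ∀ i, IsAlgSpace (D.obj i)) (hDa : ∀ (i j : I) (φ : i ⟶ j), IsAffineMor (D.map φ)) (i₀ : I)
    (hq : IsQuasiCompactSp (D.obj i₀)) (c : Cone D) (hc : IsLimit c) {X : Sp S} (hX : IsAlgSpace X) (g : X ⟶ c.pt)
    (hg : RepWith @IsClosedImmersion g)
    (hdom : ∀ i, IsQuasiCompactMor (g ≫ c.π.app i) ∧ IsSchImage (g ≫ c.π.app i) (𝟙 (D.obj i))) : IsIso g := by
  haveI := compactSpace_of_isQuasiCompactSp hq
  obtain ⟨V, q, hV, hqe, hqs⟩ := exists_affine_chart_of_compact (hD i₀)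
  obtain ⟨W, v, z, hW, sq, -, G, zz, vv, L, pp, e, ⟨hL⟩, hG, hpp, sqj, hGz, hpz, hGv, hpv⟩ :=
    exists_lim_square D (fun i j φ => (isAffineMor_iff_repWith _).1 (hDa i j φ)) c hc i₀ q
  obtain ⟨U, zU, k, sqU, hk⟩ := exists_repWith hg z
  haveI : IsClosedImmersion k.left := hk
  haveI : ∀ j, IsAffine ((G ⋙ Over.forget S).obj j) := hG
  haveI := hW
  haveI : IsAffine L.pt := by rw [e]; exact hW
  have hker : ∀ j, ((k.left ≫ eqToHom e.symm) ≫ L.π.app j).ker = ⊥ := by
    intro j
    rw [Category.assoc, ← hpp, ← Over.comp_left]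
    have sqW : IsPullback z ((yon S).map (pp j)) (c.π.app j.left) (zz j) := by
      refine IsPullback.of_bot ?_ (hpz j).symm (sqj j)
      rw [← Functor.map_comp, hpv, c.w]
      exact sq
    have sqX : IsPullback zU ((yon S).map (k ≫ pp j)) (g ≫ c.π.app j.left) (zz j) := by
      rw [Functor.map_comp]
      exact sqU.paste_vert sqW
    have hze : RepWith @Etale (zz j) := repWith_baseChange (sqj j).flip hqe
    rw [← kerIdeal_eq_ker_of_yon sqX]
    exact (pullIdeal_eq_kerIdeal hX (hD _) (hdom _).1 (hdom _).2 (zz j)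
      (locP_flat_of_etale (hD _) hze)).unique (isPullIdeal_id (zz j))
  have hz : RepWith @Etale z ∧ RepWith @Surjective z :=
    ⟨repWith_baseChange sq.flip hqe, repWith_baseChange sq.flip hqs⟩
  have h0 := ker_eq_bot_of_stages hL (k.left ≫ eqToHom e.symm) hker
  haveI : IsIso (k.left ≫ eqToHom e.symm) := IsClosedImmersion.isIso_of_ker_eq (k.left ≫ eqToHom e.symm) (𝟙 L.pt) _
    (Category.comp_id _) (h0.trans (ker_eq_bot_of_flat_surjective (𝟙 L.pt)).symm)
  haveI : IsIso k.left := IsIso.of_isIso_comp_right _ (eqToHom e.symm)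
  exact (isIso_iff_repWith g).2 (SpDesc.repWith_of_chart _
    (isAlgSpace_lim D hD hDa c hc) hg.1 hz.1 hz.2 sqU (show IsIso k.left from inferInstance))

end Groth.Agent.SpApprox

end
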