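import Groth.Agent.SpApprox.ClosedLim
import Groth.Agent.AlgSpLib.SheafLemmas
import Groth.Agent.AlgSpLib.FpqcProps
import Groth.Agent.SpDesc.EventAffine
import Groth.Agent.SchImg.QcImage
import Groth.Agent.SpQS.Basic

/-!
An affine space over a base is the limit of the finitely presented closed subspaces of a directed system of affine
spaces of finite presentation which generates its functions.
-/

set_option autoImplicit false
set_option linter.style.haveILetI false
set_option backward.isDefEq.respectTransparency false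

universe u

noncomputable section

open CategoryTheory CategoryTheory.Limits AlgebraicGeometry Opposite AlgSp

namespace Groth.Agent.SpApprox

open Groth.Agent.AlgSpLib Groth.Agent.SchImg

variable {S : Scheme.{u}}

/-- maps to an affine object agree when functions agree -/
theorem ext_over_affine {T V : Over S} [IsAffine V.left] {g g' : T ⟶ V}
    (h : ∀ x, g.left.appTop.hom x = g'.left.appTop.hom x) : g = g' :=
  Over.OverMorphism.ext (ext_of_isAffine (CommRingCat.hom_ext (RingHom.ext h)))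

/-- finitely many functions in a quasi-coherent ideal lie in one of finite type below it -/
theorem exists_ft_finset [QuasiSeparatedSpace ↥S] (Y : Space S) (hqc : IsQuasiCompactSp Y.obj)
    (hqs : IsQuasiSeparatedSp Y.obj) (J : IdealEt Y.obj) (hJ : J.IsQCoh) (E : EtOver Y.obj)
    (hE : IsAffine E.obj.left.left) (s : Finset Γ(E.obj.left.left, ⊤)) (hs : ∀ a ∈ s, a ∈ J.ideal E hE) :
    ∃ I : IdealEt Y.obj, FT J I ∧ ∀ a ∈ s, a ∈ I.ideal E hE := by
  classical
  induction s using Finset.induction_on with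
  | empty => exact ⟨⊥, ft_bot J, fun a ha => absurd ha (Finset.notMem_empty a)⟩
  | insert a s _ ih =>
    obtain ⟨I₁, h₁, ha⟩ := exists_ft_mem Y hqc hqs J hJ E hE a (hs a (Finset.mem_insert_self a s))
    obtain ⟨I₂, h₂, hs₂⟩ := ih fun b hb => hs b (Finset.mem_insert_of_mem hb)
    refine ⟨supI I₁ I₂, ft_sup h₁ h₂, fun b hb => ?_⟩
    show b ∈ I₁.ideal E hE ⊔ I₂.ideal E hE
    rcases Finset.mem_insert.1 hb with rfl | hb
    · exact Submodule.mem_sup_left ha
    · exact Submodule.mem_sup_right (hs₂ b hb)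

/-- a closed subspace on a chart -/
theorem exists_chart_closed {V Z : Sp S} {z : Z ⟶ V} (hz : RepWith @IsClosedImmersion z) {V₀ : Over S}
    [IsAffine V₀.left] {z₀ : (yon S).obj V₀ ⟶ V} {K : V₀.left.IdealSheafData} (hK : IsPullIdeal z z₀ K)
    (hfg : (K.ideal ⟨⊤, isAffineOpen_top _⟩).FG) :
    ∃ (W : Over S) (w : (yon S).obj W ⟶ Z) (v : W ⟶ V₀), IsPullback w ((yon S).map v) z z₀ ∧
      IsClosedImmersion v.left ∧ LocallyOfFinitePresentation v.left ∧ v.left.ker = K := by
  obtain ⟨W, w, v, sq, hv⟩ := exists_repWith hz z₀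
  haveI : IsClosedImmersion v.left := hv
  have hKv : v.left.ker = K := by
    refine IsPullIdeal.unique (i := z) (φ := z₀) (fun T α => ⟨fun ⟨l₁, hl₁⟩ => ?_, fun h => ?_⟩) hK
    · obtain ⟨m, hm⟩ := exists_map_eq (sq.lift l₁ ((yon S).map α) hl₁)
      have hmv : m ≫ v = α := (yon S).map_injective (by rw [Functor.map_comp, hm, sq.lift_snd])
      rw [comap_eq_bot_iff, ← show m.left ≫ v.left = α.left from congrArg (fun q => q.left) hmv]
      exact Scheme.Hom.le_ker_comp _ _
    · rw [comap_eq_bot_iff] at h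
      let m : T ⟶ W := Over.homMk (IsClosedImmersion.lift v.left α.left h) (by
        rw [← Over.w v, IsClosedImmersion.lift_fac_assoc, Over.w α])
      refine ⟨(yon S).map m ≫ w, ?_⟩
      rw [Category.assoc, sq.w, ← Functor.map_comp_assoc,
        show m ≫ v = α from Over.OverMorphism.ext (IsClosedImmersion.lift_fac _ _ _)]
  refine ⟨W, w, v, sq, hv, ?_, hKv⟩
  haveI : LocallyOfFinitePresentation v.left.ker.subschemeι := GrpdFit.lfp_subschemeι _ fun x =>
    ⟨⟨⊤, isAffineOpen_top _⟩, trivial, by rw [hKv]; exact hfg⟩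
  exact (MorphismProperty.cancel_left_of_respectsIso @LocallyOfFinitePresentation v.left.toImage v.left.imageι).2
    (inferInstanceAs (LocallyOfFinitePresentation v.left.ker.subschemeι)) |> fun h => by
      rwa [Scheme.Hom.toImage_imageι] at h

/-- the ideal of a representable map on a chart is the kernel of its base change -/
theorem idealOfRep_eq_ker_chart {X V : Sp S} (hX : IsAlgSpace X) (hV : IsAlgSpace V) {τ : X ⟶ V}
    (hτ : Representable τ) (hqc : IsQuasiCompactMor τ) {X₀ V₀ : Over S} [IsAffine X₀.left] [IsAffine V₀.left]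
    {xz : (yon S).obj X₀ ⟶ X} {τ₀ : X₀ ⟶ V₀} (E : EtOver V) (hE : IsAffine E.obj.left.left) (e : E.obj.left = V₀)
    (sq : IsPullback xz ((yon S).map (τ₀ ≫ eqToHom e.symm)) τ E.obj.hom) :
    (idealOfRep hτ).ideal E hE = RingHom.ker (τ₀ ≫ eqToHom e.symm).left.appTop.hom := by
  subst e
  rw [eqToHom_refl, Category.comp_id] at sq ⊢
  rw [idealOfRep_eq_kerIdeal hX hV hτ hqc E hE, kerIdeal_eq_ker (IsAlgSpace.yon_obj X₀) sq (c := 𝟙 _)
    (repWith_id _ X₀) (repWith_id _ X₀) (g := τ₀) (Category.id_comp _).symm, Scheme.Hom.ker_apply]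

/-- the value of a pullback of functions on a ring -/
theorem appTop_toSpec' {Z : Scheme.{u}} {B : CommRingCat.{u}} (φ : B ⟶ Γ(Z, ⊤)) (b : B) :
    (Z.toSpecΓ ≫ Spec.map φ).appTop.hom ((Scheme.ΓSpecIso B).inv.hom b) = φ.hom b := by
  simp [Scheme.Hom.comp_appTop]

/-- maps to an affine scheme are found on functions generated by a directed system -/
theorem exists_affine_lift {T X₀ : Over S} [IsAffine X₀.left] {A : Type u} [Preorder A] [IsDirected A (· ≤ ·)]
    [Nonempty A] {V₀ : A → Over S} (hA : ∀ a, IsAffine (V₀ a).left) (τ₀ : ∀ a, X₀ ⟶ V₀ a)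
    (wt : ∀ {a b : A}, a ≤ b → (V₀ b ⟶ V₀ a)) (hτw : ∀ {a b : A} (h : a ≤ b), τ₀ b ≫ wt h = τ₀ a)
    (β : ∀ a, T ⟶ V₀ a) (hβw : ∀ {a b : A} (h : a ≤ b), β b ≫ wt h = β a)
    (hgen : ∀ g : Γ(X₀.left, ⊤), ∃ (a : A) (x : Γ((V₀ a).left, ⊤)), (τ₀ a).left.appTop.hom x = g)
    (hkill : ∀ a (x : Γ((V₀ a).left, ⊤)), (τ₀ a).left.appTop.hom x = 0 → (β a).left.appTop.hom x = 0) :
    ∃ y : T ⟶ X₀, ∀ a, y ≫ τ₀ a = β a := by
  choose aF xF hF using hgen
  obtain ⟨a₀⟩ := (inferInstance : Nonempty A)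
  let F : Γ(X₀.left, ⊤) → Γ(T.left, ⊤) := fun g => (β (aF g)).left.appTop.hom (xF g)
  have hw : ∀ {b r : A} (h : b ≤ r) (y : Γ((V₀ b).left, ⊤)),
      (β r).left.appTop.hom ((wt h).left.appTop.hom y) = (β b).left.appTop.hom y ∧
      (τ₀ r).left.appTop.hom ((wt h).left.appTop.hom y) = (τ₀ b).left.appTop.hom y := fun {b r} h y => by
    constructor
    · rw [← hβw h, Over.comp_left, Scheme.Hom.comp_appTop]; rfl
    · rw [← hτw h, Over.comp_left, Scheme.Hom.comp_appTop]; rfl
  have hFkey : ∀ a (x : Γ((V₀ a).left, ⊤)), F ((τ₀ a).left.appTop.hom x) = (β a).left.appTop.hom x := by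
    intro a x
    let g := (τ₀ a).left.appTop.hom x
    obtain ⟨r, hr₁, hr₂⟩ := exists_ge_ge (aF g) a
    have := hkill r ((wt hr₁).left.appTop.hom (xF g) - (wt hr₂).left.appTop.hom x)
      (by rw [map_sub, (hw hr₁ _).2, (hw hr₂ _).2, hF, sub_self])
    rwa [map_sub, (hw hr₁ _).1, (hw hr₂ _).1, sub_eq_zero] at this
  have hpair : ∀ g g', ∃ a y y', (τ₀ a).left.appTop.hom y = g ∧ (τ₀ a).left.appTop.hom y' = g' := fun g g' => by
    obtain ⟨r, hr₁, hr₂⟩ := exists_ge_ge (aF g) (aF g')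
    exact ⟨r, (wt hr₁).left.appTop.hom (xF g), (wt hr₂).left.appTop.hom (xF g'),
      by rw [(hw hr₁ _).2, hF], by rw [(hw hr₂ _).2, hF]⟩
  let FR : Γ(X₀.left, ⊤) →+* Γ(T.left, ⊤) :=
    { toFun := F
      map_one' := by
        have := hFkey a₀ 1
        rwa [map_one, map_one] at this
      map_mul' := fun g g' => by
        obtain ⟨a, y, y', rfl, rfl⟩ := hpair g g'
        rw [← map_mul, hFkey, hFkey, hFkey, map_mul]
      map_zero' := by
        have := hFkey a₀ 0
        rwa [map_zero, map_zero] at this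
      map_add' := fun g g' => by
        obtain ⟨a, y, y', rfl, rfl⟩ := hpair g g'
        rw [← map_add, hFkey, hFkey, hFkey, map_add] }
  let yl : T.left ⟶ X₀.left := T.left.toSpecΓ ≫ Spec.map (CommRingCat.ofHom FR) ≫ X₀.left.isoSpec.inv
  have hyl : ∀ g, yl.appTop.hom g = F g := fun g => by
    have e1 : yl ≫ X₀.left.toSpecΓ = T.left.toSpecΓ ≫ Spec.map (CommRingCat.ofHom FR) := by
      simp [yl, Scheme.isoSpec]
    have e2 : X₀.left.toSpecΓ.appTop.hom ((Scheme.ΓSpecIso Γ(X₀.left, ⊤)).inv.hom g) = g := by simp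
    conv_lhs => rw [← e2]
    rw [← CommRingCat.comp_apply, ← Scheme.Hom.comp_appTop, e1]
    exact (appTop_toSpec' _ g)
  have hylτ : ∀ a, yl ≫ (τ₀ a).left = (β a).left := fun a => by
    haveI := hA a
    refine ext_of_isAffine (CommRingCat.hom_ext (RingHom.ext fun r => ?_))
    rw [Scheme.Hom.comp_appTop, CommRingCat.comp_apply, hyl, hFkey]
  refine ⟨Over.homMk yl ?_, fun a => Over.OverMorphism.ext (hylτ a)⟩
  rw [← Over.w (τ₀ a₀), ← Category.assoc, hylτ, Over.w]

/-- factoring between closed subspaces is read on charts -/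
theorem exists_factor_chart {V V' Z Z' : Sp S} (hV : IsAlgSpace V) (hZ' : IsAlgSpace Z') {z : Z ⟶ V} {z' : Z' ⟶ V'}
    (hz : RepWith @IsClosedImmersion z) (m : V' ⟶ V) {V₀ V₀' : Over S} [IsAffine V₀.left]
    {z₀ : (yon S).obj V₀ ⟶ V} (he : RepWith @Etale z₀) (hs : RepWith @Surjective z₀)
    {z₀' : (yon S).obj V₀' ⟶ V'} {w : V₀' ⟶ V₀} (sq : IsPullback z₀' ((yon S).map w) m z₀)
    {K : V₀.left.IdealSheafData} (hK : IsPullIdeal z z₀ K) {K' : V₀'.left.IdealSheafData}
    (hK' : IsPullIdeal z' z₀' K') [IsAffine V₀'.left]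
    (hx : ∀ x ∈ K.ideal ⟨⊤, isAffineOpen_top _⟩, w.left.appTop.hom x ∈ K'.ideal ⟨⊤, isAffineOpen_top _⟩) :
    ∃ k : Z' ⟶ Z, k ≫ z = z' ≫ m := by
  refine exists_factor_of_le hz hZ' hV he hs hK ((kills_iff _ _ _).1 fun T zt α e => ?_)
  obtain ⟨β, hβ⟩ := exists_map_eq (sq.lift (zt ≫ z') ((yon S).map α) (by rw [Category.assoc]; exact e))
  have hβw : β ≫ w = α := (yon S).map_injective (by rw [Functor.map_comp, hβ, sq.lift_snd])
  have hb : K'.comap β.left = ⊥ := (hK' β).1 ⟨zt, by rw [hβ, sq.lift_fst]⟩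
  have hle : K.comap w.left ≤ K' := by
    refine Scheme.IdealSheafData.le_of_isAffine ?_
    rw [ideal_comap_top]
    exact Ideal.map_le_iff_le_comap.2 hx
  rw [← hβw, Over.comp_left, Scheme.IdealSheafData.comap_comp]
  exact le_bot_iff.1 ((Scheme.IdealSheafData.comap_mono β.left hle).trans hb.le)

end Groth.Agent.SpApprox
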