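import Groth.Agent.SpApprox.Lim

/-!
Points of an affine space over a base seen on a directed system of closed subspaces of affine spaces.
-/

set_option autoImplicit false
set_option linter.style.haveILetI false
set_option backward.isDefEq.respectTransparency false

universe u

noncomputable section

open CategoryTheory CategoryTheory.Limits AlgebraicGeometry Opposite AlgSp

namespace Groth.Agent.SpApprox

open Groth.Agent.AlgSpLib Groth.Agent.SchImg

variable {S : Scheme.{u}} {X Y : Space S}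

/-- a directed system of affine spaces under `X`, with charts, generating the functions -/
structure Sys (f : X ⟶ Y) (E₀ : EtOver Y.obj) (A : Type u) [Preorder A] where
  V : A → Sp S
  hV : ∀ a, IsAlgSpace (V a)
  p : ∀ a, V a ⟶ Y.obj
  hpA : ∀ a, RepWith @IsAffineHom (p a)
  hpF : ∀ a, LocP @LocallyOfFinitePresentation (p a)
  mp : ∀ {a b : A}, a ≤ b → (V b ⟶ V a)
  mp_p : ∀ {a b : A} (h : a ≤ b), mp h ≫ p a = p b
  mp_id : ∀ a : A, mp (le_refl a) = 𝟙 _
  mp_comp : ∀ {a b c : A} (h : a ≤ b) (h' : b ≤ c), mp h' ≫ mp h = mp (h.trans h')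
  τ : ∀ a, X.obj ⟶ V a
  τ_p : ∀ a, τ a ≫ p a = f.hom
  τ_mp : ∀ {a b : A} (h : a ≤ b), τ b ≫ mp h = τ a
  X₀ : Over S
  hX₀ : IsAffine X₀.left
  xz : (yon S).obj X₀ ⟶ X.obj
  xv : X₀ ⟶ E₀.obj.left
  sqX : IsPullback xz ((yon S).map xv) f.hom E₀.obj.hom
  V₀ : A → Over S
  hV₀ : ∀ a, IsAffine (V₀ a).left
  z₀ : ∀ a, (yon S).obj (V₀ a) ⟶ V a
  v₀ : ∀ a, V₀ a ⟶ E₀.obj.left
  hv₀F : ∀ a, LocallyOfFinitePresentation (v₀ a).left
  sqV : ∀ a, IsPullback (z₀ a) ((yon S).map (v₀ a)) (p a) E₀.obj.hom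
  τ₀ : ∀ a, X₀ ⟶ V₀ a
  τ₀_z : ∀ a, (yon S).map (τ₀ a) ≫ z₀ a = xz ≫ τ a
  τ₀_v : ∀ a, τ₀ a ≫ v₀ a = xv
  wt : ∀ {a b : A}, a ≤ b → (V₀ b ⟶ V₀ a)
  wt_v : ∀ {a b : A} (h : a ≤ b), wt h ≫ v₀ a = v₀ b
  sqW : ∀ {a b : A} (h : a ≤ b), IsPullback (z₀ b) ((yon S).map (wt h)) (mp h) (z₀ a)
  τ₀_w : ∀ {a b : A} (h : a ≤ b), τ₀ b ≫ wt h = τ₀ a
  gen : ∀ g : Γ(X₀.left, ⊤), ∃ (a : A) (x : Γ((V₀ a).left, ⊤)), (τ₀ a).left.appTop.hom x = g

variable {f : X ⟶ Y} {E₀ : EtOver Y.obj} {A : Type u} [Preorder A]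

theorem nonempty_sys (hf : IsAffineMor f.hom) [IsAffine E₀.obj.left.left]
    (V : A → Sp S) (hV : ∀ a, IsAlgSpace (V a))
    (p : ∀ a, V a ⟶ Y.obj) (hpA : ∀ a, RepWith @IsAffineHom (p a))
    (hpF : ∀ a, LocP @LocallyOfFinitePresentation (p a))
    (mp : ∀ {a b : A}, a ≤ b → (V b ⟶ V a)) (mp_p : ∀ {a b : A} (h : a ≤ b), mp h ≫ p a = p b)
    (mp_id : ∀ a : A, mp (le_refl a) = 𝟙 _)
    (mp_comp : ∀ {a b c : A} (h : a ≤ b) (h' : b ≤ c), mp h' ≫ mp h = mp (h.trans h'))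
    (τ : ∀ a, X.obj ⟶ V a) (hτp : ∀ a, τ a ≫ p a = f.hom)
    (hτmp : ∀ {a b : A} (h : a ≤ b), τ b ≫ mp h = τ a)
    (hgen : ∀ {X₀ : Over S} (xz : (yon S).obj X₀ ⟶ X.obj) (xv : X₀ ⟶ E₀.obj.left),
      IsPullback xz ((yon S).map xv) f.hom E₀.obj.hom → ∀ g : Γ(X₀.left, ⊤), ∃ (a : A) (V₀ : Over S)
        (z₀ : (yon S).obj V₀ ⟶ V a) (v₀ : V₀ ⟶ E₀.obj.left) (τ₀ : X₀ ⟶ V₀) (x : Γ(V₀.left, ⊤)),
          IsPullback z₀ ((yon S).map v₀) (p a) E₀.obj.hom ∧ (yon S).map τ₀ ≫ z₀ = xz ≫ τ a ∧ τ₀ ≫ v₀ = xv ∧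
            τ₀.left.appTop.hom x = g) : Nonempty (Sys f E₀ A) := by
  obtain ⟨X₀, xz, xv, sqX, hxv⟩ := exists_repWith ((isAffineMor_iff_repWith _).1 hf) E₀.obj.hom
  haveI : IsAffineHom xv.left := hxv
  have hX₀ : IsAffine X₀.left := isAffine_of_isAffineHom xv.left
  choose V₀ z₀ v₀ sqV hv₀ using fun a => exists_repWith (hpA a) E₀.obj.hom
  have hv₀' : ∀ a, IsAffine (V₀ a).left := fun a => by
    haveI : IsAffineHom (v₀ a).left := hv₀ a
    exact isAffine_of_isAffineHom (v₀ a).left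
  have hv₀F : ∀ a, LocallyOfFinitePresentation (v₀ a).left := fun a =>
    (hpF a) (z₀ a) E₀.obj.hom (v₀ a) (repWith_baseChange (sqV a).flip E₀.property) E₀.property (sqV a).w
  choose τ₀ hτ₀ using fun a => exists_map_eq ((sqV a).lift (xz ≫ τ a) ((yon S).map xv)
    (by rw [Category.assoc, hτp, sqX.w]))
  have hτz : ∀ a, (yon S).map (τ₀ a) ≫ z₀ a = xz ≫ τ a := fun a => by rw [hτ₀, (sqV a).lift_fst]
  have hτv : ∀ a, τ₀ a ≫ v₀ a = xv := fun a => (yon S).map_injective (by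
    rw [Functor.map_comp, hτ₀, (sqV a).lift_snd])
  have hsqW : ∀ {a b : A} (h : a ≤ b), ∃ w : V₀ b ⟶ V₀ a, w ≫ v₀ a = v₀ b ∧
      IsPullback (z₀ b) ((yon S).map w) (mp h) (z₀ a) ∧ τ₀ b ≫ w = τ₀ a := fun {a b} h => by
    obtain ⟨w, hw⟩ := exists_map_eq ((sqV a).lift (z₀ b ≫ mp h) ((yon S).map (v₀ b))
      (by rw [Category.assoc, mp_p, (sqV b).w]))
    have h2 : w ≫ v₀ a = v₀ b := (yon S).map_injective (by rw [Functor.map_comp, hw, (sqV a).lift_snd])
    have h1 : (yon S).map w ≫ z₀ a = z₀ b ≫ mp h := by rw [hw, (sqV a).lift_fst]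
    refine ⟨w, h2, IsPullback.of_bot ?_ h1.symm (sqV a), (yon S).map_injective ?_⟩
    · rw [← Functor.map_comp, h2, mp_p]
      exact sqV b
    · refine (sqV a).hom_ext ?_ ?_
      · rw [Functor.map_comp, Category.assoc, h1, ← Category.assoc, hτz, Category.assoc, hτmp, hτz]
      · rw [← Functor.map_comp, ← Functor.map_comp, Category.assoc, h2, hτv, hτv]
  choose wt hwv sqW hτw using @hsqW
  choose ag Vg zg vg τg xg sqg hzg hvg hxg using hgen xz xv sqX
  refine ⟨⟨V, hV, p, hpA, hpF, mp, mp_p, mp_id, mp_comp, τ, hτp, hτmp, X₀, hX₀, xz, xv, sqX, V₀, hv₀', z₀, v₀,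
    hv₀F, sqV, τ₀, hτz, hτv, wt, hwv, sqW, hτw, fun g => ?_⟩⟩
  obtain ⟨m, hm⟩ := exists_map_eq ((sqg g).lift (z₀ (ag g)) ((yon S).map (v₀ (ag g))) (sqV (ag g)).w)
  have hm' : τ₀ (ag g) ≫ m = τg g := (yon S).map_injective (by
    refine (sqg g).hom_ext ?_ ?_
    · rw [Functor.map_comp, Category.assoc, hm, (sqg g).lift_fst, hτz, hzg]
    · rw [Functor.map_comp, Category.assoc, hm, (sqg g).lift_snd, ← Functor.map_comp, hτv, ← Functor.map_comp, hvg])
  refine ⟨ag g, m.left.appTop.hom (xg g), ?_⟩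
  rw [← CommRingCat.comp_apply, ← Scheme.Hom.comp_appTop, ← Over.comp_left, hm', hxg]

namespace Sys

variable (σ : Sys f E₀ A)

/-- closed subspaces of the members, cofinal among the finitely generated ones -/
structure Stages (ι : Type u) [Preorder ι] where
  idx : ι → A
  idx_mono : ∀ {n m : ι}, n ≤ m → idx n ≤ idx m
  Z : ι → Sp S
  hZ : ∀ n, IsAlgSpace (Z n)
  z : ∀ n, Z n ⟶ σ.V (idx n)
  hz : ∀ n, RepWith @IsClosedImmersion (z n)
  K : ∀ n, ((σ.V₀ (idx n)).left).IdealSheafData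
  hK : ∀ n, IsPullIdeal (z n) (σ.z₀ (idx n)) (K n)
  hfg : ∀ n, ((K n).ideal ⟨⊤, @isAffineOpen_top _ (σ.hV₀ (idx n))⟩).FG
  px : ∀ n, X.obj ⟶ Z n
  hpx : ∀ n, px n ≫ z n = σ.τ (idx n)
  k : ∀ {n m : ι}, n ≤ m → (Z m ⟶ Z n)
  hk : ∀ {n m : ι} (h : n ≤ m), k h ≫ z n = z m ≫ σ.mp (idx_mono h)
  cofinal : ∀ (a : A) (x : Γ((σ.V₀ a).left, ⊤)), (σ.τ₀ a).left.appTop.hom x = 0 →
    ∃ (n : ι) (h : a ≤ idx n), (σ.wt h).left.appTop.hom x ∈ (K n).ideal ⟨⊤, @isAffineOpen_top _ (σ.hV₀ (idx n))⟩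

variable {σ}

theorem exists_cover (hs : RepWith @Surjective E₀.obj.hom) {T : Over S} (h : (yon S).obj T ⟶ Y.obj) :
    ∃ (T' : Over S) (c' : T' ⟶ T) (α : T' ⟶ E₀.obj.left),
      Flat c'.left ∧ Surjective c'.left ∧ LocallyOfFinitePresentation c'.left ∧
        IsPullback ((yon S).map c') ((yon S).map α) h E₀.obj.hom := by
  obtain ⟨T', c', α, sq⟩ := exists_pullback Y.property.diag h E₀.obj.hom
  haveI : Etale c'.left := (repWith_yon_iff c').1 (repWith_baseChange sq.flip E₀.property)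
  exact ⟨T', c', α, inferInstance, (repWith_yon_iff c').1 (repWith_baseChange sq.flip hs), inferInstance, sq⟩

variable {ι : Type u} [Preorder ι] (st : σ.Stages ι)

theorem Stages.exists_idx_ge (a : A) : ∃ n, a ≤ st.idx n := by
  obtain ⟨n, h, -⟩ := st.cofinal a 0 (map_zero _)
  exact ⟨n, h⟩

/-- points are determined by the stages -/
theorem Stages.point_uniq [Nonempty A] (hs : RepWith @Surjective E₀.obj.hom) {T : Over S}
    (x x' : (yon S).obj T ⟶ X.obj) (hxx : ∀ n : ι, x ≫ st.px n = x' ≫ st.px n) : x = x' := by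
  have hxa : ∀ a, x ≫ σ.τ a = x' ≫ σ.τ a := fun a => by
    obtain ⟨n, h⟩ := st.exists_idx_ge a
    rw [← σ.τ_mp h, ← st.hpx n, ← Category.assoc, ← Category.assoc, hxx]
    simp only [Category.assoc]
  obtain ⟨a₁⟩ := (inferInstance : Nonempty A)
  have hxf : x ≫ f.hom = x' ≫ f.hom := by rw [← σ.τ_p a₁, ← Category.assoc, hxa, Category.assoc]
  obtain ⟨T', c', α, _, _, _, sq⟩ := exists_cover hs (x ≫ f.hom)
  haveI := σ.hX₀
  obtain ⟨y, hy⟩ := exists_map_eq (σ.sqX.lift ((yon S).map c' ≫ x) ((yon S).map α) (by rw [Category.assoc, sq.w]))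
  obtain ⟨y', hy'⟩ := exists_map_eq (σ.sqX.lift ((yon S).map c' ≫ x') ((yon S).map α)
    (by rw [Category.assoc, ← hxf, sq.w]))
  have hyy : y = y' := ext_over_affine fun g => by
    obtain ⟨a, xx, rfl⟩ := σ.gen g
    have e : y ≫ σ.τ₀ a = y' ≫ σ.τ₀ a := (yon S).map_injective (by
      refine (σ.sqV a).hom_ext ?_ ?_
      · rw [Functor.map_comp, Functor.map_comp, Category.assoc, Category.assoc, σ.τ₀_z, ← Category.assoc,
          ← Category.assoc, hy, hy', σ.sqX.lift_fst, σ.sqX.lift_fst, Category.assoc, Category.assoc, hxa]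
      · rw [← Functor.map_comp, ← Functor.map_comp, Category.assoc, Category.assoc, σ.τ₀_v, Functor.map_comp,
          Functor.map_comp, hy, hy', σ.sqX.lift_snd, σ.sqX.lift_snd])
    have := congrArg (fun q : T' ⟶ σ.V₀ a => q.left.appTop.hom xx) e
    simpa [Scheme.Hom.comp_appTop] using this
  haveI : Epi ((yon S).map c') := epi_yon_map c'
  refine (cancel_epi ((yon S).map c')).1 ?_
  rw [← σ.sqX.lift_fst ((yon S).map c' ≫ x) ((yon S).map α) (by rw [Category.assoc, sq.w]), ← hy, hyy, hy',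
    σ.sqX.lift_fst]

/-- compatible points of the stages come from points -/
theorem Stages.point_exists [Nonempty A] [IsDirected A (· ≤ ·)] [IsDirected ι (· ≤ ·)]
    (hs : RepWith @Surjective E₀.obj.hom) {T : Over S} (P : ∀ n : ι, (yon S).obj T ⟶ st.Z n)
    (hP : ∀ {n m : ι} (h : n ≤ m), P m ≫ st.k h = P n) :
    ∃ x : (yon S).obj T ⟶ X.obj, ∀ n, x ≫ st.px n = P n := by
  choose sel hsel using fun a => st.exists_idx_ge a
  have hPV : ∀ {a : A} {n m : ι} (h : a ≤ st.idx n) (h' : a ≤ st.idx m),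
      P n ≫ st.z n ≫ σ.mp h = P m ≫ st.z m ≫ σ.mp h' := fun {a n m} h h' => by
    obtain ⟨r, hr₁, hr₂⟩ := exists_ge_ge n m
    have key : ∀ {n : ι} (hn : n ≤ r) (h : a ≤ st.idx n),
        P n ≫ st.z n ≫ σ.mp h = P r ≫ st.z r ≫ σ.mp (h.trans (st.idx_mono hn)) := fun {n} hn h => by
      rw [← hP hn, Category.assoc, ← Category.assoc (st.k hn), st.hk, Category.assoc, σ.mp_comp]
    rw [key hr₁ h, key hr₂ h']
  have hPY : ∀ n m : ι, P n ≫ st.z n ≫ σ.p (st.idx n) = P m ≫ st.z m ≫ σ.p (st.idx m) := fun n m => by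
    obtain ⟨r, hr₁, hr₂⟩ := exists_ge_ge n m
    have key : ∀ {n : ι} (hn : n ≤ r), P n ≫ st.z n ≫ σ.p (st.idx n) = P r ≫ st.z r ≫ σ.p (st.idx r) :=
      fun {n} hn => by
        rw [← hP hn, Category.assoc, ← Category.assoc (st.k hn), st.hk, Category.assoc, σ.mp_p]
    rw [key hr₁, key hr₂]
  obtain ⟨a₀⟩ := (inferInstance : Nonempty A)
  let n₀ := sel a₀
  obtain ⟨T', c', α, _, _, _, sq⟩ := exists_cover hs (P n₀ ≫ st.z n₀ ≫ σ.p (st.idx n₀))
  choose β hβ using fun a : A => exists_map_eq ((σ.sqV a).lift ((yon S).map c' ≫ P (sel a) ≫ st.z (sel a) ≫ σ.mp (hsel a))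
    ((yon S).map α) (by
      rw [Category.assoc, Category.assoc, Category.assoc, σ.mp_p, hPY (sel a) n₀]
      exact sq.w))
  have hβv : ∀ a, β a ≫ σ.v₀ a = α := fun a => (yon S).map_injective (by
    rw [Functor.map_comp, hβ, (σ.sqV a).lift_snd])
  have hβz : ∀ {a : A} {n : ι} (h : a ≤ st.idx n),
      (yon S).map (β a) ≫ σ.z₀ a = (yon S).map c' ≫ P n ≫ st.z n ≫ σ.mp h := fun {a n} h => by
    rw [hβ, (σ.sqV a).lift_fst, hPV (hsel a) h]
  have hβw : ∀ {a b : A} (h : a ≤ b), β b ≫ σ.wt h = β a := fun {a b} h => (yon S).map_injective (by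
    refine (σ.sqV a).hom_ext ?_ ?_
    · rw [Functor.map_comp, Category.assoc, ← (σ.sqW h).w, ← Category.assoc, hβz (hsel b),
        hβz (h.trans (hsel b))]
      simp only [Category.assoc, σ.mp_comp]
    · rw [← Functor.map_comp, ← Functor.map_comp, Category.assoc, σ.wt_v, hβv, hβv])
  haveI := σ.hX₀
  have hkill : ∀ a (x : Γ((σ.V₀ a).left, ⊤)), (σ.τ₀ a).left.appTop.hom x = 0 → (β a).left.appTop.hom x = 0 := by
    intro a x hx
    obtain ⟨n, h, hn⟩ := st.cofinal a x hx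
    have hb : (st.K n).comap (β (st.idx n)).left = ⊥ := (st.hK n (β (st.idx n))).1 ⟨(yon S).map c' ≫ P n, by
      rw [hβz (le_refl (st.idx n)), σ.mp_id, Category.comp_id, Category.assoc]⟩
    rw [comap_eq_bot_iff] at hb
    haveI := σ.hV₀ (st.idx n)
    have := hb ⟨⊤, isAffineOpen_top _⟩ hn
    rw [← hβw h, Over.comp_left, Scheme.Hom.comp_appTop, CommRingCat.comp_apply]
    exact Scheme.Hom.ideal_ker_le _ ⟨⊤, isAffineOpen_top _⟩ this
  obtain ⟨y, hy⟩ := exists_affine_lift σ.hV₀ σ.τ₀ σ.wt σ.τ₀_w β hβw σ.gen hkill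
  have hyP : ∀ n : ι, ((yon S).map y ≫ σ.xz) ≫ st.px n = (yon S).map c' ≫ P n := fun n => by
    haveI := mono_of_closed (st.hz n)
    refine (cancel_mono (st.z n)).1 ?_
    rw [Category.assoc, st.hpx, Category.assoc, ← σ.τ₀_z, ← Functor.map_comp_assoc, hy,
      hβz (le_refl (st.idx n)), σ.mp_id, Category.comp_id, Category.assoc]
  obtain ⟨x, hx⟩ := exists_desc c' ((yon S).map y ≫ σ.xz) fun W pq qq e => st.point_uniq hs _ _ fun n => by
    refine ((Category.assoc _ _ _).trans (congrArg ((yon S).map pq ≫ ·) (hyP n))).trans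
      (Eq.trans ?_ ((Category.assoc _ _ _).trans (congrArg ((yon S).map qq ≫ ·) (hyP n))).symm)
    show (yon S).map pq ≫ (yon S).map c' ≫ P n = (yon S).map qq ≫ (yon S).map c' ≫ P n
    rw [← Functor.map_comp_assoc, ← Functor.map_comp_assoc, e]
  refine ⟨x, fun n => ?_⟩
  haveI : Epi ((yon S).map c') := epi_yon_map c'
  exact (cancel_epi ((yon S).map c')).1 (by rw [← Category.assoc, hx, hyP])

/-- the diagram of stages -/
def Stages.diag : ιᵒᵖ ⥤ Sp S where
  obj n := st.Z n.unop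
  map g := st.k g.unop.le
  map_id a := (@cancel_mono _ _ _ _ _ _ (mono_of_closed (st.hz a.unop)) _ _).1 (by
    rw [st.hk, σ.mp_id, Category.id_comp, Category.comp_id])
  map_comp {a b c} g g' := (@cancel_mono _ _ _ _ _ _ (mono_of_closed (st.hz c.unop)) _ _).1 (by
    rw [st.hk, Category.assoc, st.hk, ← Category.assoc, st.hk, Category.assoc, σ.mp_comp])

/-- the maps to the base -/
def Stages.toBase : st.diag ⟶ (Functor.const ιᵒᵖ).obj Y.obj where
  app n := st.z n.unop ≫ σ.p (st.idx n.unop)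
  naturality a b g := by
    show st.k g.unop.le ≫ st.z b.unop ≫ σ.p (st.idx b.unop) = (st.z a.unop ≫ σ.p (st.idx a.unop)) ≫ 𝟙 _
    rw [Category.comp_id, ← Category.assoc, st.hk, Category.assoc, σ.mp_p]

/-- the cone -/
def Stages.cone : Cone st.diag where
  pt := X.obj
  π :=
    { app := fun n => st.px n.unop
      naturality := fun a b g => by
        haveI := mono_of_closed (st.hz b.unop)
        refine (Category.id_comp _).trans ?_
        refine (cancel_mono (st.z b.unop)).1 ?_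
        show st.px b.unop ≫ st.z b.unop = (st.px a.unop ≫ st.k g.unop.le) ≫ st.z b.unop
        rw [Category.assoc, st.hk, st.hpx, ← Category.assoc, st.hpx, σ.τ_mp] }

theorem Stages.nonempty_isLimit [Nonempty A] [IsDirected A (· ≤ ·)] [IsDirected ι (· ≤ ·)]
    (hs : RepWith @Surjective E₀.obj.hom) : Nonempty (IsLimit st.cone) := by
  have hlift : ∀ s : Cone st.diag, ∃ l : s.pt ⟶ X.obj, ∀ n, l ≫ st.px n = s.π.app (op n) := fun s => by
    choose x hx using fun (T : Over S) (a : (yon S).obj T ⟶ s.pt) =>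
      st.point_exists hs (fun n => a ≫ s.π.app (op n)) fun {n m} h => by
        rw [Category.assoc]
        exact congrArg (a ≫ ·) (s.w (homOfLE h).op)
    let l : s.pt ⟶ X.obj :=
      ⟨{ app := fun T => TypeCat.ofHom fun σ' =>
          (AlgSp.J S).uliftYonedaEquiv (x T.unop ((AlgSp.J S).uliftYonedaEquiv.symm σ'))
         naturality := fun T T' φ => by
          ext σ'
          refine (congrArg (AlgSp.J S).uliftYonedaEquiv (st.point_uniq hs _ _ fun n => ?_)).trans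
            ((AlgSp.J S).uliftYonedaEquiv_naturality (x T.unop ((AlgSp.J S).uliftYonedaEquiv.symm σ')) φ.unop).symm
          rw [hx, Category.assoc, hx, ← Category.assoc]
          refine congrArg (· ≫ s.π.app (op n)) ?_
          exact ((AlgSp.J S).uliftYonedaEquiv_symm_naturality_left φ.unop s.pt σ').symm }⟩
    refine ⟨l, fun n => (AlgSp.J S).hom_ext_uliftYoneda.{u + 1} fun T a => ?_⟩
    have hal : a ≫ l = x T a := (AlgSp.J S).uliftYonedaEquiv.injective (by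
      rw [uliftYonedaEquiv_comp']
      show (AlgSp.J S).uliftYonedaEquiv (x T ((AlgSp.J S).uliftYonedaEquiv.symm ((AlgSp.J S).uliftYonedaEquiv a))) = _
      rw [Equiv.symm_apply_apply])
    rw [← Category.assoc, hal, hx]
  choose l hl using hlift
  exact ⟨{ lift := l
           fac := fun s n => hl s n.unop
           uniq := fun s m hm => (AlgSp.J S).hom_ext_uliftYoneda.{u + 1} fun T a => st.point_uniq hs _ _ fun n => by
            rw [Category.assoc, Category.assoc, hl]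
            exact congrArg (a ≫ ·) (hm (op n)) }⟩

end Sys

end Groth.Agent.SpApprox
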