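import Mathlib.AlgebraicGeometry.Morphisms.FinitePresentation
import Mathlib.AlgebraicGeometry.Morphisms.ClosedImmersion
import Mathlib.AlgebraicGeometry.Morphisms.Affine
import Mathlib.RingTheory.FinitePresentation

/-!
Relations cutting out an affine scheme over a basic open of the base.
-/

set_option autoImplicit false
set_option linter.style.haveILetI false
set_option backward.isDefEq.respectTransparency false

universe u

noncomputable section

open CategoryTheory CategoryTheory.Limits AlgebraicGeometry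

namespace Groth.Agent.SpApprox

section ring

variable {R A B C R' A' B' : Type u} [CommRing R] [CommRing A] [CommRing B] [CommRing C] [CommRing R'] [CommRing A']
  [CommRing B'] [Algebra R R'] [Algebra A A'] [Algebra B B']

theorem exists_gens_of_finiteType {g : R} (φ : R →+* B) [IsLocalization.Away g R'] [IsLocalization.Away (φ g) B']
    (φ' : R' →+* B') (hsq : ∀ r, φ' (algebraMap R R' r) = algebraMap B B' (φ r)) (hft : φ'.FiniteType) :
    ∃ t : Finset B, ∀ S : Subring B, (∀ r, φ r ∈ S) → (↑t : Set B) ⊆ S → ∀ y : B, ∃ n, φ g ^ n * y ∈ S := by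
  classical
  letI := φ'.toAlgebra
  have : Algebra.FiniteType R' B' := hft
  obtain ⟨G, hG⟩ := Algebra.FiniteType.out (R := R') (A := B')
  choose m b hb using fun z : B' => IsLocalization.Away.surj (φ g) z
  refine ⟨G.image b, fun S hφ ht y => ?_⟩
  let T : Subring B' :=
    { carrier := {z | ∃ n, ∃ s ∈ S, z * algebraMap B B' (φ g) ^ n = algebraMap B B' s}
      mul_mem' := by
        rintro z z' ⟨n, s, hs, e⟩ ⟨n', s', hs', e'⟩
        refine ⟨n + n', s * s', S.mul_mem hs hs', ?_⟩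
        rw [map_mul, ← e, ← e', pow_add]
        ring
      one_mem' := ⟨0, 1, S.one_mem, by simp⟩
      add_mem' := by
        rintro z z' ⟨n, s, hs, e⟩ ⟨n', s', hs', e'⟩
        refine ⟨n + n', φ g ^ n' * s + φ g ^ n * s', S.add_mem (S.mul_mem (S.pow_mem (hφ g) _) hs)
          (S.mul_mem (S.pow_mem (hφ g) _) hs'), ?_⟩
        rw [map_add, map_mul, map_mul, ← e, ← e', map_pow, map_pow, pow_add]
        ring
      zero_mem' := ⟨0, 0, S.zero_mem, by simp⟩
      neg_mem' := by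
        rintro z ⟨n, s, hs, e⟩
        exact ⟨n, -s, S.neg_mem hs, by rw [map_neg, ← e, neg_mul]⟩ }
  have hTr : ∀ r', algebraMap R' B' r' ∈ T := fun r' => by
    obtain ⟨n, r, e⟩ := IsLocalization.Away.surj g r'
    refine ⟨n, φ r, hφ r, ?_⟩
    show φ' r' * _ = _
    rw [← hsq, ← hsq, ← map_pow, ← map_mul, e]
  let T' : Subalgebra R' B' := { T.toSubsemiring with algebraMap_mem' := hTr }
  have hT : Algebra.adjoin R' (G : Set B') ≤ T' :=
    Algebra.adjoin_le fun z hz => ⟨m z, b z, ht (Finset.mem_image_of_mem b hz), hb z⟩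
  obtain ⟨n, s, hs, e⟩ : algebraMap B B' y ∈ T := hT (hG.ge Algebra.mem_top)
  rw [← map_pow, ← map_mul] at e
  obtain ⟨k, hk⟩ := IsLocalization.Away.exists_of_eq (φ g) e
  refine ⟨k + n, ?_⟩
  rw [show φ g ^ (k + n) * y = φ g ^ k * (y * φ g ^ n) by ring, hk]
  exact S.mul_mem (S.pow_mem (hφ g) _) hs

theorem exists_ker_gens {g : R} (v : R →+* A) (τ : A →+* B) [IsLocalization.Away (v g) A']
    [IsLocalization.Away (τ (v g)) B'] (v' : R' →+* A') (τ' : A' →+* B')
    (hsq : ∀ a, τ' (algebraMap A A' a) = algebraMap B B' (τ a))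
    (hA : v'.FinitePresentation) (hB : (τ'.comp v').FinitePresentation) (hgen : ∀ y, ∃ n a, τ a = τ (v g) ^ n * y) :
    ∃ s : Finset A, (∀ x ∈ s, τ x = 0) ∧ ∀ x, τ x = 0 → ∃ n, v g ^ n * x ∈ Ideal.span (s : Set A) := by
  classical
  letI := v'.toAlgebra
  letI := (τ'.comp v').toAlgebra
  let ψ : A' →ₐ[R'] B' := { τ' with commutes' := fun r => rfl }
  have : Algebra.FinitePresentation R' A' := hA
  have : Algebra.FinitePresentation R' B' := hB
  have hu : ∀ k, IsUnit (τ' (algebraMap A A' (v g) ^ k)) := fun k =>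
    ((IsLocalization.Away.algebraMap_isUnit (v g)).pow k).map τ'
  have hsurj : Function.Surjective ψ := fun z => by
    obtain ⟨n, y, hy⟩ := IsLocalization.Away.surj (τ (v g)) z
    obtain ⟨k, a, ha⟩ := hgen y
    obtain ⟨w, hw⟩ := ((IsLocalization.Away.algebraMap_isUnit (S := A') (v g)).pow (k + n)).exists_left_inv
    refine ⟨algebraMap A A' a * w, ?_⟩
    have h1 : τ' (algebraMap A A' (v g) ^ (k + n)) * z = τ' (algebraMap A A' a) := by
      rw [map_pow, hsq, hsq, ha, map_mul, map_pow, ← hy, pow_add]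
      ring
    show τ' _ = z
    rw [map_mul, ← h1, mul_comm, ← mul_assoc, ← map_mul, hw, map_one, one_mul]
  obtain ⟨G, hG⟩ := Algebra.FinitePresentation.ker_fG_of_surjective ψ hsurj
  choose m b hb using fun z : A' => IsLocalization.Away.surj (v g) z
  have hk : ∀ z ∈ G, ∃ k, τ (v g ^ k * b z) = 0 := fun z hz => by
    have hz' : τ' z = 0 := (hG ▸ Ideal.subset_span hz : z ∈ RingHom.ker ψ.toRingHom)
    have : algebraMap B B' (τ (b z)) = algebraMap B B' 0 := by
      rw [← hsq, ← hb z, map_mul, hz', zero_mul, map_zero]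
    obtain ⟨k, hk⟩ := IsLocalization.Away.exists_of_eq (τ (v g)) this
    exact ⟨k, by rw [map_mul, map_pow, hk, mul_zero]⟩
  choose k hk using hk
  refine ⟨G.attach.image fun z => v g ^ k z.1 z.2 * b z.1, fun x hx => ?_, fun x hx => ?_⟩
  · obtain ⟨z, -, rfl⟩ := Finset.mem_image.1 hx
    exact hk _ _
  · set J : Ideal A := Ideal.span _
    have hxk : algebraMap A A' x ∈ RingHom.ker ψ.toRingHom := by
      show τ' _ = 0
      rw [hsq, hx, map_zero]
    rw [← hG] at hxk
    have hle : Ideal.span (G : Set A') ≤ J.map (algebraMap A A') := Ideal.span_le.2 fun z hz => by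
      obtain ⟨w, hw⟩ := ((IsLocalization.Away.algebraMap_isUnit (S := A') (v g)).pow (k z hz + m z)).exists_left_inv
      have h1 : algebraMap A A' (v g ^ k z hz * b z) ∈ J.map (algebraMap A A') :=
        Ideal.mem_map_of_mem _ (Ideal.subset_span (Finset.mem_image_of_mem _ (Finset.mem_attach G ⟨z, hz⟩)))
      have h2 : z = w * algebraMap A A' (v g ^ k z hz * b z) := by
        conv_lhs => rw [← one_mul z, ← hw]
        rw [map_mul, map_pow, ← hb z, pow_add]
        ring
      rw [h2]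
      exact Ideal.mul_mem_left _ _ h1
    obtain ⟨⟨⟨y, hy⟩, ⟨-, n, rfl⟩⟩, e⟩ :=
      (IsLocalization.mem_map_algebraMap_iff (Submonoid.powers (v g)) A').1 (hle hxk)
    simp only at e
    rw [← map_mul] at e
    obtain ⟨l, hl⟩ := IsLocalization.Away.exists_of_eq (v g) e
    refine ⟨l + n, ?_⟩
    rw [show v g ^ (l + n) * x = v g ^ l * (x * v g ^ n) by ring, hl]
    exact J.mul_mem_left _ hy

theorem bijective_of_relations {C' : Type u} [CommRing C'] [Algebra C C'] (π : A →+* C) (hπ : Function.Surjective π)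
    (ψ : C →+* B) {t : A} [IsLocalization.Away (π t) C'] [IsLocalization.Away (ψ (π t)) B'] (ψ' : C' →+* B')
    (hsq : ∀ c, ψ' (algebraMap C C' c) = algebraMap B B' (ψ c)) {s : Set A} (hs : ∀ x ∈ s, π x = 0)
    (hker : ∀ x, ψ (π x) = 0 → ∃ n, t ^ n * x ∈ Ideal.span s)
    (hgen : ∀ y, ∃ n a, ψ (π a) = ψ (π t) ^ n * y) : Function.Bijective ψ' := by
  refine ⟨(injective_iff_map_eq_zero _).2 fun z hz => ?_, fun z => ?_⟩
  · obtain ⟨n, c, hc⟩ := IsLocalization.Away.surj (π t) z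
    obtain ⟨a, rfl⟩ := hπ c
    have h0 : algebraMap B B' (ψ (π a)) = algebraMap B B' 0 := by rw [← hsq, ← hc, map_mul, hz, zero_mul, map_zero]
    obtain ⟨k, hk⟩ := IsLocalization.Away.exists_of_eq (ψ (π t)) h0
    obtain ⟨l, hl⟩ := hker (t ^ k * a) (by rw [map_mul, map_mul, map_pow, map_pow, hk, mul_zero])
    have : π (t ^ l * (t ^ k * a)) = 0 := ((Ideal.span_le (I := RingHom.ker π)).2 (fun x hx => hs x hx) hl : t ^ l * (t ^ k * a) ∈ RingHom.ker π)
    have hu := (IsLocalization.Away.algebraMap_isUnit (S := C') (π t)).pow (l + k + n)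
    refine hu.mul_left_eq_zero.1 ?_
    have := congrArg (algebraMap C C') this
    simp only [map_mul, map_pow, map_zero, ← hc] at this
    rw [← this, pow_add, pow_add]
    ring
  · obtain ⟨n, y, hy⟩ := IsLocalization.Away.surj (ψ (π t)) z
    obtain ⟨k, a, ha⟩ := hgen y
    obtain ⟨w, hw⟩ := ((IsLocalization.Away.algebraMap_isUnit (S := C') (π t)).pow (k + n)).exists_left_inv
    refine ⟨algebraMap C C' (π a) * w, ?_⟩
    have h1 : ψ' (algebraMap C C' (π t) ^ (k + n)) * z = ψ' (algebraMap C C' (π a)) := by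
      rw [map_pow, hsq, hsq, ha, map_mul, map_pow, ← hy, pow_add]
      ring
    rw [map_mul, ← h1, mul_comm, ← mul_assoc, ← map_mul, hw, map_one, one_mul]

end ring

section scheme

/-- sections over the preimage of a basic open, as an algebra over the global sections -/
@[reducible] def preAlg {X U : Scheme.{u}} (f : X ⟶ U) (g : Γ(U, ⊤)) : Algebra Γ(X, ⊤) Γ(X, f ⁻¹ᵁ U.basicOpen g) :=
  (X.presheaf.map (homOfLE le_top).op).hom.toAlgebra

theorem isLoc_pre {X U : Scheme.{u}} [IsAffine X] (f : X ⟶ U) (g : Γ(U, ⊤)) :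
    letI := preAlg f g
    IsLocalization.Away (f.appTop.hom g) Γ(X, f ⁻¹ᵁ U.basicOpen g) :=
  (isAffineOpen_top X).isLocalization_of_eq_basicOpen (f.appTop.hom g) (homOfLE le_top)
    (Scheme.preimage_basicOpen_top f g)

theorem ringProp_app {X U : Scheme.{u}} [IsAffine X] [IsAffine U] (f : X ⟶ U) (g : Γ(U, ⊤))
    {P : MorphismProperty Scheme.{u}} {Q : ∀ {R S : Type u} [CommRing R] [CommRing S], (R →+* S) → Prop}
    [HasRingHomProperty P Q] (h : P (f ∣_ U.basicOpen g)) : Q (f.app (U.basicOpen g)).hom := by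
  have hD : IsAffine (U.basicOpen g).toScheme := (isAffineOpen_top U).basicOpen g
  have hE : IsAffine (f ⁻¹ᵁ U.basicOpen g).toScheme := ((isAffineOpen_top U).basicOpen g).preimage f
  have h' := (HasRingHomProperty.iff_of_isAffine (P := P)).1 h
  rw [Scheme.Hom.appTop, Scheme.Hom.app_eq_appLE, morphismRestrict_appLE] at h'
  rw [Scheme.Hom.app_eq_appLE]
  exact (Scheme.Hom.appLE_congr f _ (Scheme.Opens.ι_image_top _) (Scheme.Opens.ι_image_top _)
    (fun r => Q r.hom)).1 h'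

theorem exists_gens_at {X U : Scheme.{u}} [IsAffine X] [IsAffine U] (f : X ⟶ U) (g : Γ(U, ⊤))
    (h : LocallyOfFiniteType (f ∣_ U.basicOpen g)) :
    ∃ t : Finset Γ(X, ⊤), ∀ S : Subring Γ(X, ⊤), (∀ r, f.appTop.hom r ∈ S) → (↑t : Set Γ(X, ⊤)) ⊆ S →
      ∀ y, ∃ n, f.appTop.hom g ^ n * y ∈ S := by
  letI := preAlg f g
  letI := preAlg (𝟙 U) g
  haveI := isLoc_pre f g
  haveI : IsLocalization.Away g Γ(U, U.basicOpen g) := isLoc_pre (𝟙 U) g
  exact exists_gens_of_finiteType (R' := Γ(U, U.basicOpen g)) f.appTop.hom (f.app (U.basicOpen g)).hom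
    (fun r => ConcreteCategory.congr_hom (f.naturality (homOfLE le_top).op) r)
    (ringProp_app f g (P := @LocallyOfFiniteType) h)

theorem exists_relations_at {U V X : Scheme.{u}} [IsAffine U] [IsAffine V] [IsAffine X] (v : V ⟶ U) (τ : X ⟶ V)
    [LocallyOfFinitePresentation v] (g : Γ(U, ⊤))
    (hfp : LocallyOfFinitePresentation ((τ ≫ v) ∣_ U.basicOpen g))
    (hgen : ∀ y, ∃ n a, τ.appTop.hom a = τ.appTop.hom (v.appTop.hom g) ^ n * y) :
    ∃ s : Finset Γ(V, ⊤), (∀ x ∈ s, τ.appTop.hom x = 0) ∧ ∀ {W : Scheme.{u}} (w : W ⟶ V) (l : X ⟶ W),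
      IsClosedImmersion w → l ≫ w = τ → (∀ x ∈ s, w.appTop.hom x = 0) →
        IsIso (l ∣_ (w ≫ v) ⁻¹ᵁ U.basicOpen g) := by
  letI := preAlg v g
  letI : Algebra Γ(X, ⊤) Γ(X, τ ⁻¹ᵁ v ⁻¹ᵁ U.basicOpen g) := preAlg (τ ≫ v) g
  haveI := isLoc_pre v g
  haveI : IsLocalization.Away (τ.appTop.hom (v.appTop.hom g)) Γ(X, τ ⁻¹ᵁ v ⁻¹ᵁ U.basicOpen g) :=
    isLoc_pre (τ ≫ v) g
  obtain ⟨s, hs, hker⟩ := exists_ker_gens v.appTop.hom τ.appTop.hom (v.app (U.basicOpen g)).hom
    (τ.app (v ⁻¹ᵁ U.basicOpen g)).hom (fun a => ConcreteCategory.congr_hom (τ.naturality (homOfLE le_top).op) a)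
    (ringProp_app v g (P := @LocallyOfFinitePresentation) inferInstance)
    (ringProp_app (τ ≫ v) g (P := @LocallyOfFinitePresentation) hfp) hgen
  refine ⟨s, hs, fun {W} w l hw hl hsw => ?_⟩
  subst hl
  haveI := hw
  haveI : IsAffine W := isAffine_of_isAffineHom w
  letI := preAlg (w ≫ v) g
  haveI : IsLocalization.Away (w.appTop.hom (v.appTop.hom g)) Γ(W, (w ≫ v) ⁻¹ᵁ U.basicOpen g) :=
    isLoc_pre (w ≫ v) g
  letI : Algebra Γ(X, ⊤) Γ(X, l ⁻¹ᵁ (w ≫ v) ⁻¹ᵁ U.basicOpen g) := preAlg ((l ≫ w) ≫ v) g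
  haveI : IsLocalization.Away (l.appTop.hom (w.appTop.hom (v.appTop.hom g)))
      Γ(X, l ⁻¹ᵁ (w ≫ v) ⁻¹ᵁ U.basicOpen g) := isLoc_pre ((l ≫ w) ≫ v) g
  have hD : IsAffineOpen ((w ≫ v) ⁻¹ᵁ U.basicOpen g) := ((isAffineOpen_top U).basicOpen g).preimage _
  refine (isIso_morphismRestrict_iff_isIso_app l hD).2 ((ConcreteCategory.isIso_iff_bijective _).2 ?_)
  exact bijective_of_relations w.appTop.hom (IsClosedImmersion.isAffine_surjective_of_isAffine w).2 l.appTop.hom
    (l.app _).hom (fun c => ConcreteCategory.congr_hom (l.naturality (homOfLE le_top).op) c) (s := (s : Set _)) hsw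
    (t := v.appTop.hom g) (fun x hx => hker x (by rw [Scheme.Hom.comp_appTop]; exact hx))
    (fun y => by
      obtain ⟨n, a, ha⟩ := hgen y
      rw [Scheme.Hom.comp_appTop] at ha
      exact ⟨n, a, ha⟩)

end scheme

end Groth.Agent.SpApprox

end
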