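import Groth.Agent.SpApprox.GammaGlue
import Groth.Agent.EtQC.Main

/-!
The space of linear functionals of a module on the small etale site: its points are maps to the base
together with compatible linear maps from the sections over affine objects to functions.
-/

set_option autoImplicit false
set_option linter.style.haveILetI false
set_option backward.isDefEq.respectTransparency false

universe u

noncomputable section

open CategoryTheory CategoryTheory.Limits AlgebraicGeometry Opposite AlgSp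

namespace Groth.Agent.SpApprox

open Groth.Agent.EtQC

variable {S : Scheme.{u}} {Y : Sp S} (P : ModEt Y)

/-- a point: a map to the base and compatible linear maps -/
structure Pt (T : Over S) where
  /-- the map to the base -/
  h : (yon S).obj T ⟶ Y
  /-- the value on a section over an affine object -/
  ψ : ∀ (E : EtOver Y) (_ : IsAffine E.obj.left.left) (W : Over S) (_ : W ⟶ T) (_ : W ⟶ E.obj.left),
    sectModEt P E → Γ(W.left, ⊤)
  junk : ∀ (E : EtOver Y) (hE : IsAffine E.obj.left.left) (W : Over S) (a : W ⟶ T) (b : W ⟶ E.obj.left),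
    (yon S).map a ≫ h ≠ (yon S).map b ≫ E.obj.hom → ∀ m, ψ E hE W a b m = 0
  add : ∀ (E : EtOver Y) (hE : IsAffine E.obj.left.left) (W : Over S) (a : W ⟶ T) (b : W ⟶ E.obj.left),
    (yon S).map a ≫ h = (yon S).map b ≫ E.obj.hom → ∀ m m', ψ E hE W a b (m + m') = ψ E hE W a b m + ψ E hE W a b m'
  smul : ∀ (E : EtOver Y) (hE : IsAffine E.obj.left.left) (W : Over S) (a : W ⟶ T) (b : W ⟶ E.obj.left),
    (yon S).map a ≫ h = (yon S).map b ≫ E.obj.hom → ∀ (r : R E) (m), ψ E hE W a b (r • m) =
      b.left.appTop.hom (show R E from r).down * ψ E hE W a b m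
  nat : ∀ {E E' : EtOver Y} (hE : IsAffine E.obj.left.left) (hE' : IsAffine E'.obj.left.left) (g : E' ⟶ E)
    {W W' : Over S} (c : W' ⟶ W) (a : W ⟶ T) (b : W ⟶ E.obj.left) (b' : W' ⟶ E'.obj.left),
    c ≫ b = b' ≫ g.hom.left → (yon S).map a ≫ h = (yon S).map b ≫ E.obj.hom → ∀ m,
      ψ E' hE' W' (c ≫ a) b' (resM P g m) = c.left.appTop.hom (ψ E hE W a b m)

variable {P}

theorem Pt.ext' {T : Over S} {p q : Pt P T} (hh : p.h = q.h)
    (hψ : ∀ (E : EtOver Y) (hE : IsAffine E.obj.left.left) (W : Over S) (a : W ⟶ T) (b : W ⟶ E.obj.left),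
      (yon S).map a ≫ p.h = (yon S).map b ≫ E.obj.hom → ∀ m, p.ψ E hE W a b m = q.ψ E hE W a b m) : p = q := by
  obtain ⟨h, ψ, junk, add, smul, nat⟩ := p
  obtain ⟨h', ψ', junk', add', smul', nat'⟩ := q
  obtain rfl : h = h' := hh
  obtain rfl : ψ = ψ' := by
    funext E hE W a b m
    by_cases w : (yon S).map a ≫ h = (yon S).map b ≫ E.obj.hom
    · exact hψ E hE W a b w m
    · rw [junk E hE W a b w m, junk' E hE W a b w m]
  rfl

/-- values are natural in the test scheme -/
theorem Pt.ψ_comp {T : Over S} (p : Pt P T) {E : EtOver Y} (hE : IsAffine E.obj.left.left) {W W' : Over S}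
    (c : W' ⟶ W) (a : W ⟶ T) (b : W ⟶ E.obj.left) (w : (yon S).map a ≫ p.h = (yon S).map b ≫ E.obj.hom) (m) :
    p.ψ E hE W' (c ≫ a) (c ≫ b) m = c.left.appTop.hom (p.ψ E hE W a b m) := by
  have := p.nat hE hE (𝟙 E) c a b (c ≫ b) (Category.comp_id _).symm w m
  rwa [resM_id] at this

/-- restriction of a point -/
def Pt.pull {T T' : Over S} (φ : T' ⟶ T) (p : Pt P T) : Pt P T' where
  h := (yon S).map φ ≫ p.h
  ψ E hE W a b := p.ψ E hE W (a ≫ φ) b
  junk E hE W a b hw m := p.junk E hE W (a ≫ φ) b (by rwa [Functor.map_comp, Category.assoc]) m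
  add E hE W a b hw := p.add E hE W (a ≫ φ) b (by rwa [Functor.map_comp, Category.assoc])
  smul E hE W a b hw := p.smul E hE W (a ≫ φ) b (by rwa [Functor.map_comp, Category.assoc])
  nat {E E'} hE hE' g {W W'} c a b b' e hw m := by
    have := p.nat hE hE' g c (a ≫ φ) b b' e (by rwa [Functor.map_comp, Category.assoc]) m
    rwa [← Category.assoc] at this

variable (P)

/-- the presheaf of points -/
def vPre : (Over S)ᵒᵖ ⥤ Type (u + 1) where
  obj T := Pt P T.unop
  map φ := TypeCat.ofHom fun p => p.pull φ.unop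
  map_id T := by
    ext p
    exact Pt.ext' (by show (yon S).map _ ≫ p.h = p.h; simp) fun E hE W a b _ m => by
      show p.ψ E hE W (a ≫ 𝟙 _) b m = _
      rw [Category.comp_id]; rfl
  map_comp {T T' T''} φ ψ' := by
    ext p
    exact Pt.ext' (by show (yon S).map _ ≫ p.h = _; simp [Pt.pull]) fun E hE W a b _ m => by
      show p.ψ E hE W (a ≫ ψ'.unop ≫ φ.unop) b m = p.ψ E hE W ((a ≫ ψ'.unop) ≫ φ.unop) b m
      rw [Category.assoc]

theorem isSheaf_vPre : Presieve.IsSheaf (AlgSp.J S) (vPre P) := by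
  classical
  intro T R hR x hx
  have hsh : Presieve.IsSheafFor Y.obj R.arrows := ((isSheaf_iff_isSheaf_of_type _ _).1 Y.property) R hR
  let xh : Presieve.FamilyOfElements Y.obj R.arrows := fun V f hf => (J S).uliftYonedaEquiv (x f hf).h
  have hsc : ∀ ⦃V V' : Over S⦄ (f : V ⟶ T) (g : V' ⟶ V) (hf : R f),
      x (g ≫ f) (R.downward_closed hf g) = (x f hf).pull g :=
    fun V V' f g hf => (Presieve.compatible_iff_sieveCompatible x).1 hx f g hf
  have hxh : xh.Compatible := by
    rw [Presieve.compatible_iff_sieveCompatible]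
    intro V V' f g hf
    show (J S).uliftYonedaEquiv (x (g ≫ f) (R.downward_closed hf g)).h = Y.obj.map g.op ((J S).uliftYonedaEquiv (x f hf).h)
    rw [hsc f g hf]
    exact ((J S).uliftYonedaEquiv_naturality _ g).symm
  obtain ⟨y, hy, hyu⟩ := hsh xh hxh
  let h : (yon S).obj T ⟶ Y := (J S).uliftYonedaEquiv.symm y
  have hh : ∀ ⦃V : Over S⦄ (f : V ⟶ T) (hf : R f), (yon S).map f ≫ h = (x f hf).h := fun V f hf => by
    apply (J S).uliftYonedaEquiv.injective
    rw [← GrothendieckTopology.uliftYonedaEquiv_naturality, Equiv.apply_symm_apply]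
    exact hy f hf
  -- the values
  have key : ∀ (E : EtOver Y) (hE : IsAffine E.obj.left.left) (W : Over S) (a : W ⟶ T) (b : W ⟶ E.obj.left),
      (yon S).map a ≫ h = (yon S).map b ≫ E.obj.hom → ∀ m, ∃ s : Γ(W.left, ⊤), ∀ ⦃V : Over S⦄ (v : V ⟶ W)
        (hv : R (v ≫ a)), v.left.appTop.hom s = (x (v ≫ a) hv).ψ E hE V (𝟙 V) (v ≫ b) m := by
    intro E hE W a b w m
    obtain ⟨s, hs⟩ := gamma_glue ((AlgSp.J S).pullback_stable a hR)
      (fun V v hv => (x (v ≫ a) hv).ψ E hE V (𝟙 V) (v ≫ b) m) fun V V' v c hv => by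
        have hcongr : ∀ {g g' : V' ⟶ T} (eq : g = g') (hg : R g) (hg' : R g'),
            (x g hg).ψ E hE V' (𝟙 V') ((c ≫ v) ≫ b) m = (x g' hg').ψ E hE V' (𝟙 V') ((c ≫ v) ≫ b) m := by
          rintro _ _ rfl _ _; rfl
        rw [hcongr (Category.assoc c v a) _ (R.downward_closed hv c), hsc (v ≫ a) c hv]
        show (x (v ≫ a) hv).ψ E hE V' (𝟙 V' ≫ c) ((c ≫ v) ≫ b) m = _
        rw [Category.id_comp, Category.assoc, ← Pt.ψ_comp _ hE c (𝟙 V) (v ≫ b) (by
          rw [CategoryTheory.Functor.map_id, Category.id_comp, ← hh _ hv, Functor.map_comp, Functor.map_comp, Category.assoc, Category.assoc, w]),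
          Category.comp_id]
    exact ⟨s, fun V v hv => hs v hv⟩
  choose val hval using key
  have huniq : ∀ (E : EtOver Y) (hE : IsAffine E.obj.left.left) (W : Over S) (a : W ⟶ T) (b : W ⟶ E.obj.left)
      (w : (yon S).map a ≫ h = (yon S).map b ≫ E.obj.hom) (m) (s : Γ(W.left, ⊤)),
      (∀ ⦃V : Over S⦄ (v : V ⟶ W) (hv : R (v ≫ a)), v.left.appTop.hom s = (x (v ≫ a) hv).ψ E hE V (𝟙 V) (v ≫ b) m) →
      s = val E hE W a b w m := fun E hE W a b w m s hs =>
    gamma_ext ((AlgSp.J S).pullback_stable a hR) fun V v hv => (hs v hv).trans (hval E hE W a b w m v hv).symm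
  have hw' : ∀ {E : EtOver Y} {W V : Over S} {a : W ⟶ T} {b : W ⟶ E.obj.left} (v : V ⟶ W) (hv : R (v ≫ a)),
      (yon S).map a ≫ h = (yon S).map b ≫ E.obj.hom →
      (yon S).map (𝟙 V) ≫ (x (v ≫ a) hv).h = (yon S).map (v ≫ b) ≫ E.obj.hom := fun v hv w => by
    rw [CategoryTheory.Functor.map_id, Category.id_comp, ← hh _ hv, Functor.map_comp, Functor.map_comp, Category.assoc, Category.assoc, w]
  let p : Pt P T :=
    { h := h
      ψ := fun E hE W a b m => if w : (yon S).map a ≫ h = (yon S).map b ≫ E.obj.hom then val E hE W a b w m else 0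
      junk := fun E hE W a b w m => dif_neg w
      add := fun E hE W a b w m m' => by
        simp only [dif_pos w]
        refine (huniq E hE W a b w _ _ fun V v hv => ?_).symm
        rw [map_add, hval E hE W a b w m v hv, hval E hE W a b w m' v hv,
          (x (v ≫ a) hv).add E hE V (𝟙 V) (v ≫ b) (hw' v hv w)]
      smul := fun E hE W a b w r m => by
        simp only [dif_pos w]
        refine (huniq E hE W a b w _ _ fun V v hv => ?_).symm
        rw [map_mul, hval E hE W a b w m v hv, (x (v ≫ a) hv).smul E hE V (𝟙 V) (v ≫ b) (hw' v hv w),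
          Over.comp_left, Scheme.Hom.comp_appTop, CommRingCat.comp_apply]
      nat := fun {E E'} hE hE' g {W W'} c a b b' e w m => by
        have w' : (yon S).map (c ≫ a) ≫ h = (yon S).map b' ≫ E'.obj.hom := by
          rw [Functor.map_comp, Category.assoc, w, ← Functor.map_comp_assoc, e, Functor.map_comp, Category.assoc, EtOver.w g]
        simp only [dif_pos w, dif_pos w']
        refine (huniq E' hE' W' (c ≫ a) b' w' _ _ fun V v hv => ?_).symm
        have hv' : R ((v ≫ c) ≫ a) := by rwa [Category.assoc]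
        have h1 := hval E hE W a b w m (v ≫ c) hv'
        rw [Over.comp_left, Scheme.Hom.comp_appTop, CommRingCat.comp_apply] at h1
        refine h1.trans ?_
        have h2 := (x _ hv').nat hE hE' g (𝟙 V) (𝟙 V) ((v ≫ c) ≫ b) (v ≫ b')
          (by rw [Category.id_comp, Category.assoc, Category.assoc, e]) (hw' (v ≫ c) hv' w) m
        have hcongr : ∀ {g₁ g₂ : V ⟶ T} (eq : g₁ = g₂) (hg : R g₁) (hg' : R g₂),
            (x g₁ hg).ψ E' hE' V (𝟙 V) (v ≫ b') (resM P g m) = (x g₂ hg').ψ E' hE' V (𝟙 V) (v ≫ b') (resM P g m) := by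
          rintro _ _ rfl _ _; rfl
        rw [Category.comp_id] at h2
        refine (Eq.trans ?_ (h2.symm.trans (hcongr (Category.assoc v c a) _ _)))
        simp }
  refine ⟨p, fun V f hf => Pt.ext' (hh f hf) fun E hE W a b w m => ?_, fun q hq => ?_⟩
  · have w' : (yon S).map (a ≫ f) ≫ h = (yon S).map b ≫ E.obj.hom := by
      rw [Functor.map_comp, Category.assoc]; exact w
    refine (dif_pos w').trans ?_
    refine (huniq E hE W (a ≫ f) b w' m _ fun V' v hv => ?_).symm
    have hcongr : ∀ {g g' : V' ⟶ T} (eq : g = g') (hg : R g) (hg' : R g'),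
        (x g hg).ψ E hE V' (𝟙 V') (v ≫ b) m = (x g' hg').ψ E hE V' (𝟙 V') (v ≫ b) m := by
      rintro _ _ rfl _ _; rfl
    have wf : (yon S).map a ≫ (x f hf).h = (yon S).map b ≫ E.obj.hom := by
      rw [← hh f hf]; exact w
    rw [hcongr (Category.assoc v a f).symm _ (R.downward_closed hf (v ≫ a)), hsc f (v ≫ a) hf]
    show _ = (x f hf).ψ E hE V' (𝟙 V' ≫ v ≫ a) (v ≫ b) m
    rw [Category.id_comp, Pt.ψ_comp _ hE v a b wf]
  · have hqh : q.h = h := by
      apply (J S).uliftYonedaEquiv.injective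
      rw [Equiv.apply_symm_apply]
      refine hyu _ fun V f hf => ?_
      refine ((J S).uliftYonedaEquiv_naturality q.h f).trans ?_
      exact congrArg (fun p' : Pt P V => (J S).uliftYonedaEquiv p'.h) (hq f hf)
    refine Pt.ext' hqh fun E hE W a b w m => ?_
    rw [hqh] at w
    refine Eq.trans ?_ (dif_pos w).symm
    refine huniq E hE W a b w m _ fun V v hv => ?_
    have h3 := congrArg (fun p' : Pt P V => p'.ψ E hE V (𝟙 V) (v ≫ b) m) (hq (v ≫ a) hv)
    refine Eq.trans ?_ h3
    show _ = q.ψ E hE V (𝟙 V ≫ v ≫ a) (v ≫ b) m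
    rw [Category.id_comp, Pt.ψ_comp _ hE v a b (by rw [hqh]; exact w)]

/-- the space of linear functionals -/
def vSp : Sp S := ⟨vPre P, (isSheaf_iff_isSheaf_of_type _ _).2 (isSheaf_vPre P)⟩

/-- the projection to the base -/
def vπ : vSp P ⟶ Y where
  hom :=
    { app := fun T => TypeCat.ofHom fun p => (J S).uliftYonedaEquiv (show Pt P T.unop from p).h
      naturality := fun T T' φ => by
        ext p
        exact ((J S).uliftYonedaEquiv_naturality (show Pt P T.unop from p).h φ.unop).symm }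

variable {P}

/-- points of the space -/
def vEquiv {T : Over S} : ((yon S).obj T ⟶ vSp P) ≃ Pt P T := (J S).uliftYonedaEquiv

theorem vEquiv_comp {T T' : Over S} (φ : T' ⟶ T) (z : (yon S).obj T ⟶ vSp P) :
    vEquiv ((yon S).map φ ≫ z) = (vEquiv z).pull φ :=
  ((J S).uliftYonedaEquiv_naturality z φ).symm

theorem comp_vπ {T : Over S} (z : (yon S).obj T ⟶ vSp P) : z ≫ vπ P = (vEquiv z).h := by
  apply (J S).uliftYonedaEquiv.injective
  rw [Groth.Agent.AlgSpLib.uliftYonedaEquiv_comp']
  rfl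

end Groth.Agent.SpApprox
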