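import Groth.Agent.SpApprox.VBundle
import Groth.Agent.EtQC.CohColim

/-!
Points of the space of linear functionals over an affine chart are semilinear maps on the sections over the chart.
-/

set_option autoImplicit false
set_option linter.style.haveILetI false
set_option backward.isDefEq.respectTransparency false

universe u

noncomputable section

open CategoryTheory CategoryTheory.Limits AlgebraicGeometry Opposite AlgSp TensorProduct

namespace Groth.Agent.SpApprox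

open Groth.Agent.EtQC

/-- functions agreeing on opens around every point agree -/
theorem gamma_ext_open {Z : Scheme.{u}} {s t : Γ(Z, ⊤)}
    (h : ∀ x : Z, ∃ U : Z.Opens, x ∈ U ∧ U.ι.appTop.hom s = U.ι.appTop.hom t) : s = t := by
  choose U hU he using h
  have hc : TopologicalSpace.IsOpenCover U :=
    top_le_iff.mp fun x _ => TopologicalSpace.Opens.mem_iSup.mpr ⟨x, hU x⟩
  rw [← toLine_coord s, ← toLine_coord t]
  congr 2
  refine congrArg _ (((Z.openCoverOfIsOpenCover U hc)).hom_ext _ _ fun x => ?_)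
  show (U x).ι ≫ toLine s = (U x).ι ≫ toLine t
  rw [toLine_comp, toLine_comp, he x]

/-- functions on opens around every point glue -/
theorem gamma_glue_open {Z : Scheme.{u}} (U : Z → Z.Opens) (hU : ∀ x, x ∈ U x)
    (s : ∀ x, Γ((U x : Scheme.{u}), ⊤))
    (h : ∀ (x y : Z), (pullback.fst (U x).ι (U y).ι).appTop.hom (s x) = (pullback.snd (U x).ι (U y).ι).appTop.hom (s y)) :
    ∃ t : Γ(Z, ⊤), ∀ x, (U x).ι.appTop.hom t = s x := by
  have hc : TopologicalSpace.IsOpenCover U :=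
    top_le_iff.mp fun x _ => TopologicalSpace.Opens.mem_iSup.mpr ⟨x, hU x⟩
  let C := Z.openCoverOfIsOpenCover U hc
  let G := C.glueMorphisms (fun x => toLine (s x)) fun x y => by
    show pullback.fst (U x).ι (U y).ι ≫ toLine (s x) = pullback.snd (U x).ι (U y).ι ≫ toLine (s y)
    rw [toLine_comp, toLine_comp, h]
  refine ⟨G.appTop.hom coord.{u}, fun x => ?_⟩
  have e : (U x).ι ≫ G = toLine (s x) := C.ι_glueMorphisms _ _ x
  rw [← CommRingCat.comp_apply, ← Scheme.Hom.comp_appTop, e, toLine_coord]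

variable {S : Scheme.{u}} {Y : Sp S}

/-- near a point a map to an object goes into an affine one -/
theorem exists_loc {Q : EtOver Y} {W : Over S} (β : W ⟶ Q.obj.left) (x : W.left) :
    ∃ (V : EtOver Y) (_ : IsAffine V.obj.left.left) (j : V ⟶ Q) (U : W.left.Opens)
      (b : Over.mk (U.ι ≫ W.hom) ⟶ V.obj.left), x ∈ U ∧
        b ≫ j.hom.left = (Over.homMk U.ι rfl : Over.mk (U.ι ≫ W.hom) ⟶ W) ≫ β := by
  obtain ⟨O, hO, hxO, -⟩ := exists_isAffineOpen_mem_and_subset (X := Q.obj.left.left) (x := β.left x) (U := ⊤) trivial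
  refine ⟨openObj Q O, hO, openHom Q O, β.left ⁻¹ᵁ O, Over.homMk (β.left ∣_ O) ?_, hxO,
    Over.OverMorphism.ext (morphismRestrict_ι β.left O)⟩
  show (β.left ∣_ O) ≫ O.ι ≫ Q.obj.left.hom = (β.left ⁻¹ᵁ O).ι ≫ W.hom
  rw [morphismRestrict_ι_assoc, Over.w β]

/-- functions of an object act on functions of a scheme over it -/
abbrev rh {E : EtOver Y} {W : Over S} (b : W ⟶ E.obj.left) : R E →+* Γ(W.left, ⊤) :=
  b.left.appTop.hom.comp (ULift.ringEquiv : R E ≃+* Γ(E.obj.left.left, ⊤)).toRingHom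

theorem rh_apply {E : EtOver Y} {W : Over S} (b : W ⟶ E.obj.left) (r : R E) :
    rh b r = b.left.appTop.hom (show R E from r).down := rfl

theorem rh_comp {E : EtOver Y} {W W' : Over S} (c : W' ⟶ W) (b : W ⟶ E.obj.left) (r : R E) :
    rh (c ≫ b) r = c.left.appTop.hom (rh b r) := by
  rw [rh_apply, rh_apply, Over.comp_left, Scheme.Hom.comp_appTop]
  rfl

theorem rh_res {E E' : EtOver Y} {W : Over S} (g : E' ⟶ E) (b : W ⟶ E'.obj.left) (r : R E) :
    rh b (res g r) = rh (b ≫ g.hom.left) r := by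
  rw [rh_apply, rh_apply, Over.comp_left, Scheme.Hom.comp_appTop]
  rfl

variable (P : ModEt Y) [P.IsQuasicoherent] {E₀ : EtOver Y} [IsAffine E₀.obj.left.left]
  {T : Over S} (a₀ : T ⟶ E₀.obj.left)

/-- a semilinear extension to an affine object over the chart of given values on the chart -/
structure IsExt (L : sectModEt P E₀ → Γ(T.left, ⊤)) {V : EtOver Y} (g₀ : V ⟶ E₀) {W : Over S} (a : W ⟶ T)
    (b : W ⟶ V.obj.left) (φ : sectModEt P V → Γ(W.left, ⊤)) : Prop where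
  w : b ≫ g₀.hom.left = a ≫ a₀
  add : ∀ y y', φ (y + y') = φ y + φ y'
  smul : ∀ (r : R V) y, φ (r • y) = rh b r * φ y
  value : ∀ n, φ (resM P g₀ n) = a.left.appTop.hom (L n)

variable {P} {a₀}

theorem IsExt.map_zero {L : sectModEt P E₀ → Γ(T.left, ⊤)} {V : EtOver Y} {g₀ : V ⟶ E₀} {W : Over S} {a : W ⟶ T}
    {b : W ⟶ V.obj.left} {φ : sectModEt P V → Γ(W.left, ⊤)} (h : IsExt P a₀ L g₀ a b φ) : φ 0 = 0 := by
  have := h.add 0 0
  rw [add_zero] at this
  exact left_eq_add.mp this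

theorem IsExt.pull {L : sectModEt P E₀ → Γ(T.left, ⊤)} {V : EtOver Y} {g₀ : V ⟶ E₀} {W W' : Over S} {a : W ⟶ T}
    {b : W ⟶ V.obj.left} {φ : sectModEt P V → Γ(W.left, ⊤)} (h : IsExt P a₀ L g₀ a b φ) (c : W' ⟶ W) :
    IsExt P a₀ L g₀ (c ≫ a) (c ≫ b) fun y => c.left.appTop.hom (φ y) where
  w := by rw [Category.assoc, Category.assoc, h.w]
  add y y' := by rw [h.add, map_add]
  smul r y := by rw [h.smul, map_mul, rh_comp]
  value n := by rw [h.value, Over.comp_left, Scheme.Hom.comp_appTop]; rfl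

theorem IsExt.uniq {L : sectModEt P E₀ → Γ(T.left, ⊤)} {V : EtOver Y} [IsAffine V.obj.left.left] {g₀ : V ⟶ E₀}
    {W : Over S} {a : W ⟶ T} {b : W ⟶ V.obj.left} {φ φ' : sectModEt P V → Γ(W.left, ⊤)}
    (h : IsExt P a₀ L g₀ a b φ) (h' : IsExt P a₀ L g₀ a b φ') (y : sectModEt P V) : φ y = φ' y := by
  induction y using (isBaseChange_res (M := P) g₀).inductionOn with
  | zero => exact h.map_zero.trans h'.map_zero.symm
  | tmul n => exact (h.value n).trans (h'.value n).symm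
  | smul r y hy => exact (h.smul r y).trans ((congrArg (rh b (show R V from r) * ·) hy).trans (h'.smul r y).symm)
  | add y y' hy hy' => exact (h.add y y').trans ((congrArg₂ (· + ·) hy hy').trans (h'.add y y').symm)

theorem IsExt.comp {L : sectModEt P E₀ → Γ(T.left, ⊤)} {V V' : EtOver Y} {g₀ : V ⟶ E₀} (j : V' ⟶ V) {W : Over S}
    {a : W ⟶ T} {b : W ⟶ V'.obj.left} {φ : sectModEt P V' → Γ(W.left, ⊤)} (h : IsExt P a₀ L (j ≫ g₀) a b φ) :
    IsExt P a₀ L g₀ a (b ≫ j.hom.left) fun y => φ (resM P j y) where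
  w := by rw [Category.assoc]; exact h.w
  add y y' := by rw [map_add, h.add]
  smul r y := by rw [resM_smul, h.smul, rh_res]
  value n := by rw [← resM_comp, h.value]

/-- semilinear extensions exist -/
theorem exists_isExt (L : sectModEt P E₀ → Γ(T.left, ⊤)) (hadd : ∀ n n', L (n + n') = L n + L n')
    (hsmul : ∀ (r : R E₀) n, L (r • n) = rh a₀ r * L n) {V : EtOver Y} [IsAffine V.obj.left.left] (g₀ : V ⟶ E₀)
    {W : Over S} (a : W ⟶ T) (b : W ⟶ V.obj.left) (w : b ≫ g₀.hom.left = a ≫ a₀) :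
    ∃ φ, IsExt P a₀ L g₀ a b φ := by
  letI : Algebra (Rg g₀) Γ(W.left, ⊤) := (show Rg g₀ →+* Γ(W.left, ⊤) from rh b).toAlgebra
  letI : Algebra (R E₀) Γ(W.left, ⊤) := ((show Rg g₀ →+* Γ(W.left, ⊤) from rh b).comp (algebraMap (R E₀) (Rg g₀))).toAlgebra
  haveI : IsScalarTower (R E₀) (Rg g₀) Γ(W.left, ⊤) := IsScalarTower.of_algebraMap_eq' rfl
  have e : ∀ r : R E₀, algebraMap (R E₀) Γ(W.left, ⊤) r = a.left.appTop.hom (rh a₀ r) := fun r => by
    rw [← rh_comp, ← w]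
    exact rh_res g₀ b r
  let L' : sectModEt P E₀ →ₗ[R E₀] Γ(W.left, ⊤) :=
    { toFun := fun n => a.left.appTop.hom (L n)
      map_add' := fun n n' => by rw [hadd, map_add]
      map_smul' := fun r n => by rw [hsmul, map_mul, RingHom.id_apply, Algebra.smul_def, e] }
  let Φ := (isBaseChange_res (M := P) g₀).lift L'
  refine ⟨fun y => Φ y, w, fun y y' => map_add Φ y y', fun r y => ?_, fun n => ?_⟩
  · exact (map_smul Φ (show Rg g₀ from r) y).trans (Algebra.smul_def _ _)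
  · exact (isBaseChange_res (M := P) g₀).lift_eq L' n

/-- extensions over two objects lying alike over an object and the chart agree -/
theorem compat (hY : IsAlgSpace Y) (L : sectModEt P E₀ → Γ(T.left, ⊤)) (hadd : ∀ n n', L (n + n') = L n + L n')
    (hsmul : ∀ (r : R E₀) n, L (r • n) = rh a₀ r * L n)
    {E V V' : EtOver Y} [IsAffine V.obj.left.left] [IsAffine V'.obj.left.left] (g₁ : V ⟶ E) (g₀ : V ⟶ E₀)
    (g₁' : V' ⟶ E) (g₀' : V' ⟶ E₀) {W : Over S} (a : W ⟶ T) (b : W ⟶ V.obj.left) (b' : W ⟶ V'.obj.left)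
    {φ : sectModEt P V → Γ(W.left, ⊤)} {φ' : sectModEt P V' → Γ(W.left, ⊤)}
    (h : IsExt P a₀ L g₀ a b φ) (h' : IsExt P a₀ L g₀' a b' φ') (e : b ≫ g₁.hom.left = b' ≫ g₁'.hom.left)
    (m : sectModEt P E) : φ (resM P g₁ m) = φ' (resM P g₁' m) := by
  obtain ⟨Q, fst, snd, sq⟩ := Groth.Agent.AlgSpLib.exists_pullback hY.diag E.obj.hom E₀.obj.hom
  have hsnd : Etale snd.left := E.property.2 E₀.obj.hom ((yon S).map fst) snd sq
  let Q₀ : EtOver Y := EtOver.mk ((yon S).map snd ≫ E₀.obj.hom)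
    (Groth.Agent.AlgSpLib.repWith_comp ((Groth.Agent.AlgSpLib.repWith_yon_iff _).2 hsnd) E₀.property)
  have hk : ∀ {V : EtOver Y} (g₁ : V ⟶ E) (g₀ : V ⟶ E₀), ∃ k : V ⟶ Q₀,
      k.hom.left ≫ fst = g₁.hom.left ∧ k.hom.left ≫ snd = g₀.hom.left := fun {V} g₁ g₀ => by
    obtain ⟨k, hk⟩ := Groth.Agent.AlgSpLib.exists_map_eq
      (sq.lift ((yon S).map g₁.hom.left) ((yon S).map g₀.hom.left) (by rw [EtOver.w, EtOver.w]))
    have h1 : k ≫ fst = g₁.hom.left := (yon S).map_injective (by rw [Functor.map_comp, hk, sq.lift_fst])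
    have h2 : k ≫ snd = g₀.hom.left := (yon S).map_injective (by rw [Functor.map_comp, hk, sq.lift_snd])
    exact ⟨EtOver.homMk (E' := Q₀) k (by
      show (yon S).map k ≫ (yon S).map snd ≫ E₀.obj.hom = _
      rw [← Functor.map_comp_assoc, h2, EtOver.w]), h1, h2⟩
  obtain ⟨k, hk₁, hk₂⟩ := hk g₁ g₀
  obtain ⟨k', hk₁', hk₂'⟩ := hk g₁' g₀'
  have ek : b ≫ k.hom.left = b' ≫ k'.hom.left := (yon S).map_injective (by
    apply sq.hom_ext <;> rw [← Functor.map_comp, ← Functor.map_comp] <;> congr 1 <;>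
      simp only [Category.assoc]
    · exact (congrArg (b ≫ ·) hk₁).trans (e.trans (congrArg (b' ≫ ·) hk₁').symm)
    · exact (congrArg (b ≫ ·) hk₂).trans (h.w.trans (h'.w.symm.trans (congrArg (b' ≫ ·) hk₂').symm)))
  let β : W ⟶ (pb k k').obj.left := Over.homMk (pullback.lift b.left b'.left (congrArg (fun q => q.left) ek)) (by
    show pullback.lift _ _ _ ≫ pullback.fst _ _ ≫ V.obj.left.hom = W.hom
    rw [pullback.lift_fst_assoc, Over.w b])
  have hβ₁ : β ≫ (pbFst k k').hom.left = b := Over.OverMorphism.ext (pullback.lift_fst _ _ _)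
  have hβ₂ : β ≫ (pbSnd k k').hom.left = b' := Over.OverMorphism.ext (pullback.lift_snd _ _ _)
  refine gamma_ext_open fun x => ?_
  obtain ⟨V'', hV'', j, U, b'', hx, hb''⟩ := exists_loc β x
  refine ⟨U, hx, ?_⟩
  let c : Over.mk (U.ι ≫ W.hom) ⟶ W := Over.homMk U.ι rfl
  let γ₀ : V'' ⟶ E₀ := (j ≫ pbFst k k') ≫ g₀
  have eγ : γ₀ = (j ≫ pbSnd k k') ≫ g₀' := EtOver.hom_ext _ _ (by
    show (j.hom.left ≫ (pbFst k k').hom.left) ≫ g₀.hom.left = (j.hom.left ≫ (pbSnd k k').hom.left) ≫ g₀'.hom.left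
    have := congrArg (fun q => q.hom.left ≫ snd) (pb_condition k k')
    simp only [Category.assoc]
    refine congrArg (j.hom.left ≫ ·) ?_
    rw [← hk₂, ← hk₂']
    exact (Category.assoc _ _ _).symm.trans (this.trans (Category.assoc _ _ _)))
  have hbj : b'' ≫ (j ≫ pbFst k k').hom.left = c ≫ b := by
    show b'' ≫ j.hom.left ≫ (pbFst k k').hom.left = _
    rw [← Category.assoc, hb'', Category.assoc, hβ₁]
  have hbj' : b'' ≫ (j ≫ pbSnd k k').hom.left = c ≫ b' := by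
    show b'' ≫ j.hom.left ≫ (pbSnd k k').hom.left = _
    rw [← Category.assoc, hb'', Category.assoc, hβ₂]
  obtain ⟨χ, hχ⟩ := exists_isExt L hadd hsmul γ₀ (c ≫ a) b'' (by
    show b'' ≫ (j ≫ pbFst k k').hom.left ≫ g₀.hom.left = _
    rw [← Category.assoc, hbj, Category.assoc, h.w, Category.assoc])
  have h1 := hχ.comp (j ≫ pbFst k k')
  have h2 := (eγ ▸ hχ).comp (j ≫ pbSnd k k')
  rw [hbj] at h1
  rw [hbj'] at h2
  refine ((h.pull c).uniq h1 (resM P g₁ m)).trans (Eq.trans ?_ ((h'.pull c).uniq h2 (resM P g₁' m)).symm)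
  show χ (resM P (j ≫ pbFst k k') (resM P g₁ m)) = χ (resM P (j ≫ pbSnd k k') (resM P g₁' m))
  rw [← resM_comp, ← resM_comp]
  refine congrArg (fun q => χ (resM P q m)) (EtOver.hom_ext _ _ ?_)
  show (j.hom.left ≫ (pbFst k k').hom.left) ≫ g₁.hom.left = (j.hom.left ≫ (pbSnd k k').hom.left) ≫ g₁'.hom.left
  have := congrArg (fun q => q.hom.left ≫ fst) (pb_condition k k')
  simp only [Category.assoc]
  refine congrArg (j.hom.left ≫ ·) ?_
  rw [← hk₁, ← hk₁']
  exact (Category.assoc _ _ _).symm.trans (this.trans (Category.assoc _ _ _))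

/-- a map over the base lands locally in affine objects over both -/
theorem exists_loc_chart (hY : IsAlgSpace Y) {E : EtOver Y} {W : Over S} (a : W ⟶ T) (b : W ⟶ E.obj.left)
    (w : (yon S).map (a ≫ a₀) ≫ E₀.obj.hom = (yon S).map b ≫ E.obj.hom) (x : W.left) :
    ∃ (V : EtOver Y) (_ : IsAffine V.obj.left.left) (g₁ : V ⟶ E) (g₀ : V ⟶ E₀) (U : W.left.Opens)
      (b' : Over.mk (U.ι ≫ W.hom) ⟶ V.obj.left), x ∈ U ∧
        b' ≫ g₁.hom.left = (Over.homMk U.ι rfl : Over.mk (U.ι ≫ W.hom) ⟶ W) ≫ b ∧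
        b' ≫ g₀.hom.left = ((Over.homMk U.ι rfl : Over.mk (U.ι ≫ W.hom) ⟶ W) ≫ a) ≫ a₀ := by
  obtain ⟨Q, fst, snd, sq⟩ := Groth.Agent.AlgSpLib.exists_pullback hY.diag E.obj.hom E₀.obj.hom
  have hsnd : Etale snd.left := E.property.2 E₀.obj.hom ((yon S).map fst) snd sq
  let Q₀ : EtOver Y := EtOver.mk ((yon S).map snd ≫ E₀.obj.hom)
    (Groth.Agent.AlgSpLib.repWith_comp ((Groth.Agent.AlgSpLib.repWith_yon_iff _).2 hsnd) E₀.property)
  let q₁ : Q₀ ⟶ E := EtOver.homMk (E := Q₀) (E' := E) fst sq.w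
  let q₀ : Q₀ ⟶ E₀ := EtOver.homMk (E := Q₀) (E' := E₀) snd rfl
  obtain ⟨β, hβ⟩ := Groth.Agent.AlgSpLib.exists_map_eq (sq.lift ((yon S).map b) ((yon S).map (a ≫ a₀)) w.symm)
  have h1 : β ≫ fst = b := (yon S).map_injective (by rw [Functor.map_comp, hβ, sq.lift_fst])
  have h2 : β ≫ snd = a ≫ a₀ := (yon S).map_injective (by rw [Functor.map_comp, hβ, sq.lift_snd])
  obtain ⟨V, hV, j, U, b', hx, hb'⟩ := exists_loc (Q := Q₀) β x
  refine ⟨V, hV, j ≫ q₁, j ≫ q₀, U, b', hx, ?_, ?_⟩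
  · show b' ≫ j.hom.left ≫ fst = _
    rw [← Category.assoc, hb', Category.assoc, h1]
  · show b' ≫ j.hom.left ≫ snd = _
    rw [← Category.assoc, hb', Category.assoc, h2, Category.assoc]

omit [P.IsQuasicoherent] in
theorem Pt.isExt (p : Pt P T) (hp : p.h = (yon S).map a₀ ≫ E₀.obj.hom) {V : EtOver Y}
    (hV : IsAffine V.obj.left.left) (g₀ : V ⟶ E₀) {W : Over S} (a : W ⟶ T) (b : W ⟶ V.obj.left)
    (w : b ≫ g₀.hom.left = a ≫ a₀) :
    IsExt P a₀ (fun n => p.ψ E₀ ‹_› T (𝟙 T) a₀ n) g₀ a b (p.ψ V hV W a b) := by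
  have w' : (yon S).map a ≫ p.h = (yon S).map b ≫ V.obj.hom := by
    rw [hp, ← EtOver.w g₀, ← Functor.map_comp_assoc, ← Functor.map_comp_assoc, w]
  refine ⟨w, p.add V hV W a b w', fun r y => p.smul V hV W a b w' r y, fun n => ?_⟩
  have w₀ : (yon S).map (𝟙 T) ≫ p.h = (yon S).map a₀ ≫ E₀.obj.hom := by
    rw [CategoryTheory.Functor.map_id, Category.id_comp, hp]
  have := p.nat (E := E₀) (E' := V) inferInstance hV g₀ a (𝟙 T) a₀ b w.symm w₀ n
  rwa [Category.comp_id] at this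

/-- a point over the chart is determined by its values on the sections over the chart -/
theorem chart_uniq (hY : IsAlgSpace Y) {p q : Pt P T} (hp : p.h = (yon S).map a₀ ≫ E₀.obj.hom)
    (hq : q.h = (yon S).map a₀ ≫ E₀.obj.hom)
    (h : ∀ n, p.ψ E₀ ‹_› T (𝟙 T) a₀ n = q.ψ E₀ ‹_› T (𝟙 T) a₀ n) : p = q := by
  refine Pt.ext' (hp.trans hq.symm) fun E hE W a b w m => ?_
  have hwq : (yon S).map a ≫ q.h = (yon S).map b ≫ E.obj.hom := by rw [hq, ← hp]; exact w
  refine gamma_ext_open fun x => ?_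
  obtain ⟨V, hV, g₁, g₀, U, b', hx, h1, h0⟩ := exists_loc_chart (a₀ := a₀) hY a b
    (by rw [Functor.map_comp, Category.assoc, ← hp]; exact w) x
  refine ⟨U, hx, ?_⟩
  let c : Over.mk (U.ι ≫ W.hom) ⟶ W := Over.homMk U.ι rfl
  refine ((p.nat hE hV g₁ c a b b' h1.symm w m).symm.trans ?_).trans (q.nat hE hV g₁ c a b b' h1.symm hwq m)
  have hpe := p.isExt hp hV g₀ (c ≫ a) b' h0
  have hqe := q.isExt hq hV g₀ (c ≫ a) b' h0
  rw [← show (fun n => p.ψ E₀ ‹_› T (𝟙 T) a₀ n) = fun n => q.ψ E₀ ‹_› T (𝟙 T) a₀ n from funext h] at hqe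
  exact hpe.uniq hqe _

/-- semilinear values on the chart come from a point -/
theorem chart_exists (hY : IsAlgSpace Y) (L : sectModEt P E₀ → Γ(T.left, ⊤))
    (hadd : ∀ n n', L (n + n') = L n + L n') (hsmul : ∀ (r : R E₀) n, L (r • n) = rh a₀ r * L n) :
    ∃ p : Pt P T, p.h = (yon S).map a₀ ≫ E₀.obj.hom ∧ ∀ n, p.ψ E₀ ‹_› T (𝟙 T) a₀ n = L n := by
  classical
  let h : (yon S).obj T ⟶ Y := (yon S).map a₀ ≫ E₀.obj.hom
  -- the values
  let Good : ∀ (E : EtOver Y) (W : Over S), (W ⟶ T) → (W ⟶ E.obj.left) → sectModEt P E → Γ(W.left, ⊤) → Prop :=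
    fun E W a b m s => ∀ (V : EtOver Y) (_ : IsAffine V.obj.left.left) (g₁ : V ⟶ E) (g₀ : V ⟶ E₀) (W' : Over S)
      (c : W' ⟶ W) (b' : W' ⟶ V.obj.left) (φ : sectModEt P V → Γ(W'.left, ⊤)),
      b' ≫ g₁.hom.left = c ≫ b → IsExt P a₀ L g₀ (c ≫ a) b' φ → c.left.appTop.hom s = φ (resM P g₁ m)
  have key : ∀ (E : EtOver Y) (W : Over S) (a : W ⟶ T) (b : W ⟶ E.obj.left),
      (yon S).map a ≫ h = (yon S).map b ≫ E.obj.hom → ∀ m, ∃ s, Good E W a b m s := by
    intro E W a b w m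
    choose V hV g₁ g₀ U b' hU h1 h0 using fun x => exists_loc_chart (a₀ := a₀) hY a b
      (by rw [Functor.map_comp, Category.assoc]; exact w) x
    choose φ hφ using fun x => @exists_isExt S Y P _ E₀ _ T a₀ L hadd hsmul (V x) (hV x) (g₀ x) _ _ (b' x) (h0 x)
    obtain ⟨s, hs⟩ := gamma_glue_open U hU (fun x => φ x (resM P (g₁ x) m)) fun x y => by
      let Z : Over S := Over.mk (pullback.fst (U x).ι (U y).ι ≫ (U x).ι ≫ W.hom)
      let cx : Z ⟶ Over.mk ((U x).ι ≫ W.hom) := Over.homMk (pullback.fst (U x).ι (U y).ι) rfl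
      let cy : Z ⟶ Over.mk ((U y).ι ≫ W.hom) := Over.homMk (pullback.snd (U x).ι (U y).ι) (by
        show pullback.snd _ _ ≫ (U y).ι ≫ W.hom = pullback.fst _ _ ≫ (U x).ι ≫ W.hom
        rw [pullback.condition_assoc])
      have ec : cx ≫ Over.homMk (U x).ι rfl = (cy ≫ Over.homMk (U y).ι rfl : Z ⟶ W) :=
        Over.OverMorphism.ext pullback.condition
      have hy' := (hφ y).pull cy
      rw [← Category.assoc, ← ec, Category.assoc] at hy'
      have := hV x
      have := hV y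
      exact compat hY L hadd hsmul (g₁ x) (g₀ x) (g₁ y) (g₀ y) _ (cx ≫ b' x) (cy ≫ b' y) ((hφ x).pull cx) hy'
        (by rw [Category.assoc, Category.assoc, h1, h1, ← Category.assoc, ec, Category.assoc]) m
    refine ⟨s, fun V₁ hV₁ γ₁ γ₀ W' c β χ e hχ => gamma_ext_open fun z => ?_⟩
    let x := c.left z
    refine ⟨c.left ⁻¹ᵁ U x, hU x, ?_⟩
    let c₁ : Over.mk ((c.left ⁻¹ᵁ U x).ι ≫ W'.hom) ⟶ W' := Over.homMk (c.left ⁻¹ᵁ U x).ι rfl
    let c₂ : Over.mk ((c.left ⁻¹ᵁ U x).ι ≫ W'.hom) ⟶ Over.mk ((U x).ι ≫ W.hom) := Over.homMk (c.left ∣_ U x) (by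
      show (c.left ∣_ U x) ≫ (U x).ι ≫ W.hom = _
      rw [morphismRestrict_ι_assoc, Over.w c]
      rfl)
    have ec : c₁ ≫ c = c₂ ≫ Over.homMk (U x).ι rfl := Over.OverMorphism.ext (morphismRestrict_ι c.left (U x)).symm
    have hx' := (hφ x).pull c₂
    rw [← Category.assoc, ← ec, Category.assoc] at hx'
    have := hV x
    have := compat hY L hadd hsmul γ₁ γ₀ (g₁ x) (g₀ x) _ (c₁ ≫ β) (c₂ ≫ b' x) (hχ.pull c₁) hx'
      (by rw [Category.assoc, Category.assoc, h1, e, ← Category.assoc, ec, Category.assoc]) m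
    refine Eq.trans ?_ this.symm
    rw [← hs x]
    exact congrArg (fun q : Over.mk ((c.left ⁻¹ᵁ U x).ι ≫ W'.hom) ⟶ W => q.left.appTop.hom s) ec
  choose val hval using key
  have huniq : ∀ (E : EtOver Y) (W : Over S) (a : W ⟶ T) (b : W ⟶ E.obj.left)
      (w : (yon S).map a ≫ h = (yon S).map b ≫ E.obj.hom) (m) (s : Γ(W.left, ⊤)), Good E W a b m s →
      s = val E W a b w m := fun E W a b w m s hs => gamma_ext_open fun x => by
    obtain ⟨V, hV, g₁, g₀, U, b', hx, h1, h0⟩ := exists_loc_chart (a₀ := a₀) hY a b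
      (by rw [Functor.map_comp, Category.assoc]; exact w) x
    obtain ⟨φ, hφ⟩ := exists_isExt (P := P) L hadd hsmul g₀ _ b' h0
    refine ⟨U, hx, ?_⟩
    exact (hs V hV g₁ g₀ _ _ b' φ h1 hφ).trans (hval E W a b w m V hV g₁ g₀ _ _ b' φ h1 hφ).symm
  let p : Pt P T :=
    { h := h
      ψ := fun E _ W a b m => if w : (yon S).map a ≫ h = (yon S).map b ≫ E.obj.hom then val E W a b w m else 0
      junk := fun E _ W a b w m => dif_neg w
      add := fun E _ W a b w m m' => by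
        simp only [dif_pos w]
        refine (huniq E W a b w _ _ fun V hV g₁ g₀ W' c b' φ e hφ => ?_).symm
        rw [map_add, map_add, hφ.add, hval E W a b w m V hV g₁ g₀ W' c b' φ e hφ,
          hval E W a b w m' V hV g₁ g₀ W' c b' φ e hφ]
      smul := fun E _ W a b w r m => by
        simp only [dif_pos w]
        refine (huniq E W a b w _ _ fun V hV g₁ g₀ W' c b' φ e hφ => ?_).symm
        rw [map_mul, resM_smul, hφ.smul, rh_res, e, rh_comp, hval E W a b w m V hV g₁ g₀ W' c b' φ e hφ]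
        rfl
      nat := fun {E E'} _ _ g {W W'} c a b b' e w m => by
        have w' : (yon S).map (c ≫ a) ≫ h = (yon S).map b' ≫ E'.obj.hom := by
          rw [Functor.map_comp, Category.assoc, w, ← Functor.map_comp_assoc, e, Functor.map_comp, Category.assoc, EtOver.w g]
        simp only [dif_pos w, dif_pos w']
        refine (huniq E' W' (c ≫ a) b' w' _ _ fun V hV g₁ g₀ W'' c' b'' φ e' hφ => ?_).symm
        have e'' : b'' ≫ (g₁ ≫ g).hom.left = (c' ≫ c) ≫ b := by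
          show b'' ≫ g₁.hom.left ≫ g.hom.left = _
          rw [← Category.assoc, e', Category.assoc, Category.assoc, e]
        rw [← Category.assoc] at hφ
        rw [← resM_comp, ← hval E W a b w m V hV (g₁ ≫ g) g₀ W'' (c' ≫ c) b'' φ e'' hφ, Over.comp_left,
          Scheme.Hom.comp_appTop]
        rfl }
  refine ⟨p, rfl, fun n => ?_⟩
  have w : (yon S).map (𝟙 T) ≫ h = (yon S).map a₀ ≫ E₀.obj.hom := by
    rw [CategoryTheory.Functor.map_id, Category.id_comp]
  refine (dif_pos w).trans (huniq E₀ T (𝟙 T) a₀ w n _ fun V hV g₁ g₀ W' c b' φ e hφ => ?_).symm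
  obtain ⟨φ₀, hφ₀⟩ := exists_isExt (P := P) L hadd hsmul (𝟙 E₀) (c ≫ 𝟙 T) (c ≫ a₀)
    (by rw [Category.comp_id c]; exact Category.comp_id _)
  refine Eq.trans ?_ (compat hY L hadd hsmul g₁ g₀ (𝟙 E₀) (𝟙 E₀) _ b' (c ≫ a₀) hφ hφ₀
    (e.trans (Category.comp_id _).symm) n).symm
  rw [hφ₀.value, Category.comp_id]

end Groth.Agent.SpApprox
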