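import Groth.Agent.SpApprox.VChart
import Groth.Agent.AlgSpLib.FppfBase
import Groth.Agent.AlgSpLib.FpqcProps
import Groth.Agent.AlgSpLib.DiagCrit
import Groth.Agent.SchImg.ClosedSub
import Groth.Agent.SchImg.QcImage

/-!
The space of linear functionals of a finitely presented module is affine of finite presentation over the base.
-/

set_option autoImplicit false
set_option linter.style.haveILetI false
set_option backward.isDefEq.respectTransparency false

universe u

noncomputable section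

open CategoryTheory CategoryTheory.Limits AlgebraicGeometry Opposite AlgSp TensorProduct

namespace Groth.Agent.SpApprox

open Groth.Agent.EtQC Groth.Agent.AlgSpLib

/-- semilinear maps out of a presented module -/
theorem exists_lin {A : Type (u + 1)} [CommRing A] {N : Type (u + 1)} [AddCommGroup N] [Module A N] {G : Type u}
    [CommRing G] (ρ : A →+* G) {n : ℕ} (l : (Fin n → A) →ₗ[A] N) (hl : Function.Surjective l)
    (t : Set (Fin n → A)) (ht : Submodule.span A t = LinearMap.ker l) (y : Fin n → G)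
    (hy : ∀ c ∈ t, ∑ i, ρ (c i) * y i = 0) :
    ∃ L : N → G, (∀ m m', L (m + m') = L m + L m') ∧ (∀ (r : A) m, L (r • m) = ρ r * L m) ∧
      ∀ c, L (l c) = ∑ i, ρ (c i) * y i := by
  let e : (Fin n → A) → G := fun c => ∑ i, ρ (c i) * y i
  have eadd : ∀ c d, e (c + d) = e c + e d := fun c d => by simp [e, add_mul, Finset.sum_add_distrib]
  have esmul : ∀ r c, e (r • c) = ρ r * e c := fun r c => by simp [e, Finset.mul_sum, mul_assoc]
  have h0 : ∀ c, l c = 0 → e c = 0 := fun c hc => by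
    have : c ∈ Submodule.span A t := ht ▸ hc
    clear hc
    induction this using Submodule.span_induction with
    | mem c hc => exact hy c hc
    | zero => simp [e]
    | add c d _ _ hc hd => rw [eadd, hc, hd, add_zero]
    | smul r c _ hc => rw [esmul, hc, mul_zero]
  choose s hs using hl
  have key : ∀ c, e (s (l c)) = e c := fun c => by
    have hd := h0 (s (l c) - c) (by rw [map_sub, hs, sub_self])
    rwa [sub_eq_add_neg, eadd, ← neg_one_smul A c, esmul, map_neg, map_one, neg_one_mul, ← sub_eq_add_neg,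
      sub_eq_zero] at hd
  refine ⟨fun m => e (s m), fun m m' => ?_, fun r m => ?_, key⟩
  · show e (s (m + m')) = e (s m) + e (s m')
    conv_lhs => rw [← hs m, ← hs m', ← map_add, key, eadd]
  · show e (s (r • m)) = ρ r * e (s m)
    conv_lhs => rw [← hs m, ← map_smul, key, esmul]

variable {S : Scheme.{u}} {Y : Sp S}

/-- the value of a pullback of functions on a ring -/
theorem appTop_toSpec {Z : Scheme.{u}} {B : CommRingCat.{u}} (φ : B ⟶ Γ(Z, ⊤)) (b : B) :
    (Z.toSpecΓ ≫ Spec.map φ).appTop.hom ((Scheme.ΓSpecIso B).inv.hom b) = φ.hom b := by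
  simp [Scheme.Hom.comp_appTop]

variable (P : ModEt Y) [P.IsQuasicoherent] {E₀ : EtOver Y} [IsAffine E₀.obj.left.left]

/-- over a chart the space is an affine scheme of finite presentation -/
theorem exists_chart_rep (hY : IsAlgSpace Y) [Module.FinitePresentation (R E₀) (sectModEt P E₀)] :
    ∃ (V₀ : Over S) (z₀ : (yon S).obj V₀ ⟶ vSp P) (v₀ : V₀ ⟶ E₀.obj.left),
      IsPullback z₀ ((yon S).map v₀) (vπ P) E₀.obj.hom ∧ IsAffine V₀.left ∧
        LocallyOfFinitePresentation v₀.left := by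
  classical
  obtain ⟨n, l, hl⟩ := Module.Finite.exists_fin' (R E₀) (sectModEt P E₀)
  obtain ⟨t, ht⟩ := Module.FinitePresentation.fg_ker l hl
  let U : Scheme.{u} := E₀.obj.left.left
  let dn : R E₀ →+* Γ(U, ⊤) := (ULift.ringEquiv : R E₀ ≃+* Γ(U, ⊤)).toRingHom
  let form : (Fin n → R E₀) → MvPolynomial (Fin n) Γ(U, ⊤) := fun c =>
    ∑ i, MvPolynomial.C (dn (c i)) * MvPolynomial.X i
  let J : Ideal (MvPolynomial (Fin n) Γ(U, ⊤)) := Ideal.span ↑(t.image form)
  let B : CommRingCat.{u} := CommRingCat.of (MvPolynomial (Fin n) Γ(U, ⊤) ⧸ J)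
  let αB : Γ(U, ⊤) ⟶ B := CommRingCat.ofHom (algebraMap Γ(U, ⊤) (MvPolynomial (Fin n) Γ(U, ⊤) ⧸ J))
  let V₀ : Over S := Over.mk ((Spec.map αB ≫ U.isoSpec.inv) ≫ E₀.obj.left.hom)
  let v₀ : V₀ ⟶ E₀.obj.left := Over.homMk (Spec.map αB ≫ U.isoSpec.inv) rfl
  have hfp : αB.hom.FinitePresentation := by
    haveI : Algebra.FinitePresentation Γ(U, ⊤) (MvPolynomial (Fin n) Γ(U, ⊤) ⧸ J) :=
      Algebra.FinitePresentation.quotient ⟨_, rfl⟩
    exact RingHom.finitePresentation_algebraMap.2 this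
  haveI : LocallyOfFinitePresentation (Spec.map αB) :=
    (HasRingHomProperty.Spec_iff (P := @LocallyOfFinitePresentation)).2 hfp
  haveI hlfp : LocallyOfFinitePresentation v₀.left :=
    inferInstanceAs (LocallyOfFinitePresentation (Spec.map αB ≫ U.isoSpec.inv))
  haveI : IsAffine V₀.left := inferInstanceAs (IsAffine (Spec B))
  -- the universal values
  let yu : Fin n → Γ(V₀.left, ⊤) := fun i => (Scheme.ΓSpecIso B).inv.hom (Ideal.Quotient.mk J (MvPolynomial.X i))
  have hv₀ : ∀ r : Γ(U, ⊤), v₀.left.appTop.hom r = (Scheme.ΓSpecIso B).inv.hom (αB.hom r) := fun r => by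
    show (Spec.map αB ≫ U.isoSpec.inv).appTop.hom r = _
    simp [Scheme.Hom.comp_appTop, Scheme.isoSpec]
    exact (ConcreteCategory.congr_hom (Scheme.ΓSpecIso_inv_naturality αB) r).symm
  have hyu : ∀ c ∈ t, ∑ i, rh v₀ (c i) * yu i = 0 := fun c hc => by
    have : ∀ i, rh v₀ (c i) * yu i =
        (Scheme.ΓSpecIso B).inv.hom (Ideal.Quotient.mk J (MvPolynomial.C (dn (c i)) * MvPolynomial.X i)) := fun i => by
      rw [map_mul, map_mul]
      exact congrArg (· * yu i) (hv₀ _)
    refine (Finset.sum_congr rfl fun i _ => this i).trans ?_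
    refine ((map_sum (Scheme.ΓSpecIso B).inv.hom _ _).symm.trans (congrArg (Scheme.ΓSpecIso B).inv.hom
      (map_sum (Ideal.Quotient.mk J) _ _).symm)).trans ?_
    refine (congrArg (Scheme.ΓSpecIso B).inv.hom ?_).trans (map_zero _)
    exact Ideal.Quotient.eq_zero_iff_mem.2 (Ideal.subset_span (Finset.mem_image_of_mem form hc))
  obtain ⟨L₀, hL₀a, hL₀s, hL₀v⟩ := exists_lin (rh v₀) l hl ↑t ht yu hyu
  obtain ⟨p₀, hp₀, hp₀v⟩ := chart_exists (P := P) (a₀ := v₀) hY L₀ hL₀a hL₀s
  let z₀ : (yon S).obj V₀ ⟶ vSp P := vEquiv.symm p₀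
  have hz₀ : vEquiv z₀ = p₀ := Equiv.apply_symm_apply _ _
  refine ⟨V₀, z₀, v₀, isPullback_of_points ?_ fun T x y e => ?_, inferInstance, hlfp⟩
  · rw [comp_vπ, hz₀, hp₀]
  obtain ⟨a, rfl⟩ := exists_map_eq y
  have hp : (vEquiv x).h = (yon S).map a ≫ E₀.obj.hom := (comp_vπ x).symm.trans e
  have w : (yon S).map (𝟙 T) ≫ (vEquiv x).h = (yon S).map a ≫ E₀.obj.hom := by
    rw [CategoryTheory.Functor.map_id, Category.id_comp, hp]
  let L : sectModEt P E₀ → Γ(T.left, ⊤) := fun m => (vEquiv x).ψ E₀ ‹_› T (𝟙 T) a m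
  have hLa : ∀ m m', L (m + m') = L m + L m' := (vEquiv x).add E₀ ‹_› T (𝟙 T) a w
  have hLs : ∀ (r : R E₀) m, L (r • m) = rh a r * L m := (vEquiv x).smul E₀ ‹_› T (𝟙 T) a w
  let Lh : sectModEt P E₀ →+ Γ(T.left, ⊤) := AddMonoidHom.mk' L hLa
  have hsum : ∀ c : Fin n → R E₀, L (l c) = ∑ i, rh a (c i) * L (l (Pi.single i 1)) := fun c => by
    conv_lhs => rw [pi_eq_sum_univ' c, map_sum]
    refine (map_sum Lh _ _).trans (Finset.sum_congr rfl fun i _ => ?_)
    show L (l (c i • _)) = _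
    rw [map_smul, hLs]
  let εp : MvPolynomial (Fin n) Γ(U, ⊤) →+* Γ(T.left, ⊤) :=
    MvPolynomial.eval₂Hom a.left.appTop.hom fun i => L (l (Pi.single i 1))
  have hker : ∀ q ∈ J, εp q = 0 := fun q hq => by
    have : J ≤ RingHom.ker εp := Ideal.span_le.2 fun q hq => by
      obtain ⟨c, hc, rfl⟩ := Finset.mem_image.1 (Finset.mem_coe.1 hq)
      have hc' : l c = 0 := LinearMap.mem_ker.1 (ht ▸ Submodule.subset_span hc)
      show εp (form c) = 0
      refine Eq.trans ?_ ((hsum c).symm.trans ((congrArg L hc').trans (map_zero Lh)))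
      rw [map_sum]
      exact Finset.sum_congr rfl fun i _ => by simp [εp, dn, rh_apply]; rfl
    exact this hq
  let ε : B ⟶ Γ(T.left, ⊤) := CommRingCat.ofHom (Ideal.Quotient.lift J εp hker)
  have hεα : αB ≫ ε = a.left.appTop := CommRingCat.hom_ext (RingHom.ext fun r => by
    show εp (MvPolynomial.C r) = _
    simp [εp])
  let z : T ⟶ V₀ := Over.homMk (T.left.toSpecΓ ≫ Spec.map ε) (by
    show (T.left.toSpecΓ ≫ Spec.map ε) ≫ (Spec.map αB ≫ U.isoSpec.inv) ≫ E₀.obj.left.hom = T.hom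
    rw [Category.assoc, ← Category.assoc (Spec.map ε), ← Category.assoc (Spec.map ε), ← Spec.map_comp, hεα,
      ← Category.assoc, ← Category.assoc, ← Scheme.toSpecΓ_naturality, ← Over.w a]
    simp [U, Scheme.isoSpec])
  have hz : z ≫ v₀ = a := Over.OverMorphism.ext (by
    show (T.left.toSpecΓ ≫ Spec.map ε) ≫ Spec.map αB ≫ U.isoSpec.inv = a.left
    rw [Category.assoc, ← Spec.map_comp_assoc, hεα, ← Category.assoc, ← Scheme.toSpecΓ_naturality]
    simp [U, Scheme.isoSpec])
  have hzy : ∀ i, z.left.appTop.hom (yu i) = L (l (Pi.single i 1)) := fun i => by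
    refine (appTop_toSpec ε (Ideal.Quotient.mk J (MvPolynomial.X i))).trans ?_
    show εp (MvPolynomial.X i) = _
    simp [εp]
  have hval : ∀ (z' : T ⟶ V₀), z' ≫ v₀ = a → ∀ m,
      (p₀.pull z').ψ E₀ ‹_› T (𝟙 T) a m = z'.left.appTop.hom (L₀ m) := fun z' hz' m => by
    subst hz'
    show p₀.ψ E₀ _ T (𝟙 T ≫ z') (z' ≫ v₀) m = _
    have w₀ : (yon S).map (𝟙 V₀) ≫ p₀.h = (yon S).map v₀ ≫ E₀.obj.hom := by
      rw [CategoryTheory.Functor.map_id, Category.id_comp, hp₀]
    refine Eq.trans ?_ ((Pt.ψ_comp p₀ ‹_› z' (𝟙 V₀) v₀ w₀ m).trans (congrArg z'.left.appTop.hom (hp₀v m)))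
    rw [Category.id_comp, Category.comp_id]
  have hh : ∀ (z' : T ⟶ V₀), z' ≫ v₀ = a → (p₀.pull z').h = (yon S).map a ≫ E₀.obj.hom := fun z' hz' => by
    show (yon S).map z' ≫ p₀.h = _
    rw [hp₀, ← Functor.map_comp_assoc, hz']
  refine ⟨(yon S).map z, ⟨?_, by rw [← Functor.map_comp, hz]⟩, fun z' ⟨hz₁, hz₂⟩ => ?_⟩
  · apply vEquiv.injective
    rw [vEquiv_comp, hz₀]
    refine chart_uniq (P := P) (a₀ := a) hY (hh z hz) hp fun m => ?_
    obtain ⟨c, rfl⟩ := hl m
    rw [hval z hz, hL₀v, map_sum]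
    refine Eq.trans (Finset.sum_congr rfl fun i _ => ?_) (hsum c).symm
    rw [map_mul, hzy, ← rh_comp, hz]
  · obtain ⟨z', rfl⟩ := exists_map_eq z'
    have hz₂' : z' ≫ v₀ = a := (yon S).map_injective (by rw [Functor.map_comp]; exact hz₂)
    refine congrArg (yon S).map (Over.OverMorphism.ext (ext_to_Spec ?_))
    have hX : ∀ i, z'.left.appTop.hom (yu i) = z.left.appTop.hom (yu i) := fun i => by
      have h1 := congrArg (fun q : Pt P T => q.ψ E₀ ‹_› T (𝟙 T) a (l (Pi.single i 1)))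
        ((congrArg vEquiv hz₁).symm.trans ((vEquiv_comp z' z₀).trans (congrArg (Pt.pull z') hz₀)))
      have h2 : L₀ (l (Pi.single i 1)) = yu i := by
        rw [hL₀v, Finset.sum_eq_single i (fun j _ hj => by rw [Pi.single_eq_of_ne hj, map_zero, zero_mul])
          (fun h => absurd (Finset.mem_univ i) h), Pi.single_eq_same, map_one, one_mul]
      rw [hzy, ← h2]
      exact ((hval z' hz₂' _).symm.trans h1.symm)
    refine CommRingCat.hom_ext (Ideal.Quotient.ringHom_ext (MvPolynomial.ringHom_ext (fun r => ?_) fun i => hX i))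
    show z'.left.appTop.hom ((Scheme.ΓSpecIso B).inv.hom (αB.hom r)) = z.left.appTop.hom ((Scheme.ΓSpecIso B).inv.hom (αB.hom r))
    rw [← hv₀, ← CommRingCat.comp_apply, ← CommRingCat.comp_apply, ← Scheme.Hom.comp_appTop,
      ← Scheme.Hom.comp_appTop, ← Over.comp_left, ← Over.comp_left, hz₂', hz]

/-- the space is algebraic, affine and of finite presentation over the base -/
theorem vSp_props (hY : IsAlgSpace Y) (hs : RepWith @Surjective E₀.obj.hom)
    [Module.FinitePresentation (R E₀) (sectModEt P E₀)] :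
    IsAlgSpace (vSp P) ∧ IsAffineMor (vπ P) ∧ IsFinitePresentationMor (vπ P) := by
  obtain ⟨V₀, z₀, v₀, sq, hV₀, hv₀⟩ := exists_chart_rep P (E₀ := E₀) hY
  haveI := hV₀
  have he := E₀.property
  have hX : IsAlgSpace (vSp P) := isAlgSpace_of_etale_surjective (IsAlgSpace.yon_obj V₀) z₀
    (repWith_baseChange sq.flip he) (repWith_baseChange sq.flip hs)
  have hva : IsAffineHom v₀.left := inferInstance
  have hA : RepWith @IsAffineHom (vπ P) := repWith_of_fppfCover @IsAffineHom
    (fun _ _ r hr => @indQA_of_isAffineHom _ _ r hr) hY (fun _ => IsAlgSpace.yon_obj E₀.obj.left)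
    (ι := PUnit.{u + 1}) (Yi := fun _ => (yon S).obj E₀.obj.left) (g := fun _ => E₀.obj.hom)
    ⟨fun _ => ⟨SchImg.locP_flat_of_etale hY he,
      (locP_iff_repWith etST_lfp hY he.1).2 (repWith_mono (fun _ _ r hr => by
        have : Etale r := hr
        infer_instance) he)⟩, fun x => ⟨PUnit.unit, isSurjectiveMor_of_repWith hs x⟩⟩
    (vπ P) (fun _ => _) (fun _ => (yon S).map v₀) (fun _ => z₀) (fun _ => sq)
    (fun _ => (repWith_yon_map_iff @IsAffineHom _).2 hva)
  refine ⟨hX, (isAffineMor_iff_repWith _).2 hA,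
    locP_of_chart etST_lfp hX hY (repWith_baseChange sq.flip he) (repWith_baseChange sq.flip hs) he sq.w hv₀,
    (isQuasiCompactMor_iff_repWith hX hY hA.1).2 (repWith_mono (P := @IsAffineHom) (Q := @QuasiCompact)
      (fun _ _ g hg => have : IsAffineHom g := hg; inferInstance) hA),
    (isQuasiSeparatedMor_iff_repWith hX hY hA.1).2 (repWith_mono (P := @IsAffineHom) (Q := @QuasiSeparated)
      (fun _ _ g hg => have : IsAffineHom g := hg; inferInstance) hA)⟩

end Groth.Agent.SpApprox
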