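import Groth.Agent.SpApprox.VRep
import Groth.Agent.EtQC.PushAff
import Groth.Agent.EtQC.UnitIdeal

/-!
Functoriality of the space of linear functionals and the tautological point given by functions.
-/

set_option autoImplicit false
set_option linter.style.haveILetI false
set_option backward.isDefEq.respectTransparency false

universe u

noncomputable section

open CategoryTheory CategoryTheory.Limits AlgebraicGeometry Opposite AlgSp

namespace Groth.Agent.SpApprox

open Groth.Agent.EtQC

variable {S : Scheme.{u}} {X Y : Sp S} {P P' P'' : ModEt Y}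

/-- a point composed with a map of modules -/
def Pt.comap (φ : P ⟶ P') {T : Over S} (p : Pt P' T) : Pt P T where
  h := p.h
  ψ E hE W a b m := p.ψ E hE W a b (appM φ E m)
  junk E hE W a b w m := p.junk E hE W a b w _
  add E hE W a b w m m' := by rw [map_add]; exact p.add E hE W a b w _ _
  smul E hE W a b w r m := by rw [map_smul]; exact p.smul E hE W a b w r _
  nat {E E'} hE hE' g {W W'} c a b b' e w m := by
    rw [← resM_appM]
    exact p.nat hE hE' g c a b b' e w _

/-- the map of spaces of functionals -/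
def vMap (φ : P ⟶ P') : vSp P' ⟶ vSp P where
  hom :=
    { app := fun T => TypeCat.ofHom fun p => Pt.comap φ (show Pt P' T.unop from p)
      naturality := fun T T' g => by
        ext p
        exact Pt.ext' rfl fun E hE W a b _ m => rfl }

theorem vEquiv_vMap (φ : P ⟶ P') {T : Over S} (z : (yon S).obj T ⟶ vSp P') :
    vEquiv (z ≫ vMap φ) = (vEquiv z).comap φ :=
  Groth.Agent.AlgSpLib.uliftYonedaEquiv_comp' z (vMap φ)

theorem vMap_π (φ : P ⟶ P') : vMap φ ≫ vπ P = vπ P' :=
  (AlgSp.J S).hom_ext_uliftYoneda.{u + 1} fun T z => by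
    rw [← Category.assoc, comp_vπ, comp_vπ, vEquiv_vMap]
    rfl

theorem vMap_id : vMap (𝟙 P) = 𝟙 (vSp P) :=
  (AlgSp.J S).hom_ext_uliftYoneda.{u + 1} fun T z => vEquiv.injective (by
    rw [vEquiv_vMap, Category.comp_id]
    exact Pt.ext' rfl fun E hE W a b _ m => rfl)

theorem vMap_comp (φ : P ⟶ P') (φ' : P' ⟶ P'') : vMap φ' ≫ vMap φ = vMap (φ ≫ φ') :=
  (AlgSp.J S).hom_ext_uliftYoneda.{u + 1} fun T z => vEquiv.injective (by
    rw [← Category.assoc, vEquiv_vMap, vEquiv_vMap, vEquiv_vMap]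
    exact Pt.ext' rfl fun E hE W a b _ m => rfl)

theorem appTop_appTop {A B C : Scheme.{u}} (c : A ⟶ B) (d : B ⟶ C) (r : Γ(C, ⊤)) :
    c.appTop.hom (d.appTop.hom r) = (c ≫ d).appTop.hom r := by
  rw [Scheme.Hom.comp_appTop]
  rfl

variable {f : X ⟶ Y} (hf : Representable f)

/-- a section of the direct image of functions pulled back to a test scheme -/
def pullFun (φ : P ⟶ (pushModEt hf).obj (unitModEt X)) (E : EtOver Y) {W : Over S} (l : W ⟶ ((EtOver.bc hf).obj E).obj.left)
    (m : sectModEt P E) : Γ(W.left, ⊤) :=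
  l.left.appTop.hom (show R ((EtOver.bc hf).obj E) from unpush hf E (appM φ E m)).down

theorem pullFun_smul (φ : P ⟶ (pushModEt hf).obj (unitModEt X)) (E : EtOver Y) {W : Over S}
    (l : W ⟶ ((EtOver.bc hf).obj E).obj.left) (b : W ⟶ E.obj.left) (e : l ≫ hf.snd E.obj.hom = b) (r : R E)
    (m : sectModEt P E) :
    pullFun hf φ E l (r • m) = b.left.appTop.hom (show R E from r).down * pullFun hf φ E l m := by
  subst e
  unfold pullFun
  rw [map_smul, unpush_smul]
  refine (map_mul _ _ _).trans (congrArg (fun t => t * _) ?_)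
  rw [pushRes_apply]
  exact appTop_appTop l.left (hf.snd E.obj.hom).left _

theorem pullFun_res (φ : P ⟶ (pushModEt hf).obj (unitModEt X)) {E E' : EtOver Y} (g : E' ⟶ E) {W : Over S}
    (l : W ⟶ ((EtOver.bc hf).obj E').obj.left) (m : sectModEt P E) :
    pullFun hf φ E' l (resM P g m) = pullFun hf φ E (l ≫ ((EtOver.bc hf).map g).hom.left) m := by
  unfold pullFun
  rw [← resM_appM]
  exact appTop_appTop l.left ((EtOver.bc hf).map g).hom.left.left _

theorem pullFun_comp (φ : P ⟶ (pushModEt hf).obj (unitModEt X)) (E : EtOver Y) {W W' : Over S} (c : W' ⟶ W)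
    (l : W ⟶ ((EtOver.bc hf).obj E).obj.left) (m : sectModEt P E) :
    c.left.appTop.hom (pullFun hf φ E l m) = pullFun hf φ E (c ≫ l) m :=
  appTop_appTop c.left l.left _

theorem lift_nat {E E' : EtOver Y} (g : E' ⟶ E) {T W W' : Over S} (x : (yon S).obj T ⟶ X) (c : W' ⟶ W)
    (a : W ⟶ T) (b : W ⟶ E.obj.left) (b' : W' ⟶ E'.obj.left) (e : c ≫ b = b' ≫ g.hom.left)
    (h₁ : ((yon S).map (c ≫ a) ≫ x) ≫ f = (yon S).map b' ≫ E'.obj.hom)
    (h₂ : ((yon S).map a ≫ x) ≫ f = (yon S).map b ≫ E.obj.hom) :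
    hf.lift ((yon S).map (c ≫ a) ≫ x) b' h₁ ≫ ((EtOver.bc hf).map g).hom.left =
      c ≫ hf.lift ((yon S).map a ≫ x) b h₂ := by
  refine hf.hom_ext ?_ ?_
  · rw [EtOver.bc_map, Functor.map_comp, Category.assoc, EtOver.map_bcMap_fst]
    refine (hf.lift_fst _ _ _).trans ?_
    rw [Functor.map_comp, Functor.map_comp, Category.assoc, Category.assoc, hf.lift_fst]
  · rw [EtOver.bc_map, Category.assoc, EtOver.bcMap_snd, ← Category.assoc, hf.lift_snd, ← e,
      Category.assoc, hf.lift_snd]

/-- the tautological point over a point of the source -/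
def tautPt (φ : P ⟶ (pushModEt hf).obj (unitModEt X)) {T : Over S} (x : (yon S).obj T ⟶ X) : Pt P T := by
  classical
  exact
  { h := x ≫ f
    ψ := fun E _ W a b m => if w : (yon S).map a ≫ x ≫ f = (yon S).map b ≫ E.obj.hom then
      pullFun hf φ E (hf.lift ((yon S).map a ≫ x) b (by rw [Category.assoc]; exact w)) m else 0
    junk := fun E _ W a b w m => dif_neg w
    add := fun E _ W a b w m m' => by
      simp only [dif_pos w, pullFun]
      rw [map_add, map_add]
      exact map_add _ _ _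
    smul := fun E _ W a b w r m => by
      simp only [dif_pos w]
      exact pullFun_smul hf φ E _ b (hf.lift_snd _ _ _) r m
    nat := fun {E E'} _ _ g {W W'} c a b b' e w m => by
      have w' : (yon S).map (c ≫ a) ≫ x ≫ f = (yon S).map b' ≫ E'.obj.hom := by
        rw [Functor.map_comp, Category.assoc, w, ← Functor.map_comp_assoc, e, Functor.map_comp, Category.assoc, EtOver.w g]
      simp only [dif_pos w, dif_pos w']
      exact (pullFun_res hf φ g _ m).trans ((congrArg (fun l => pullFun hf φ E l m)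
        (lift_nat hf g x c a b b' e _ _)).trans (pullFun_comp hf φ E c _ m).symm) }

theorem tautPt_ψ (φ : P ⟶ (pushModEt hf).obj (unitModEt X)) {T : Over S} (x : (yon S).obj T ⟶ X)
    (E : EtOver Y) (hE : IsAffine E.obj.left.left) {W : Over S} (a : W ⟶ T) (b : W ⟶ E.obj.left)
    (w : (yon S).map a ≫ x ≫ f = (yon S).map b ≫ E.obj.hom) (m : sectModEt P E) :
    (tautPt hf φ x).ψ E hE W a b m =
      pullFun hf φ E (hf.lift ((yon S).map a ≫ x) b (by rw [Category.assoc]; exact w)) m :=
  dif_pos w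

theorem tautPt_pull (φ : P ⟶ (pushModEt hf).obj (unitModEt X)) {T T' : Over S} (g : T' ⟶ T)
    (x : (yon S).obj T ⟶ X) : tautPt hf φ ((yon S).map g ≫ x) = (tautPt hf φ x).pull g :=
  Pt.ext' (Category.assoc _ _ _) fun E hE W a b w m => by
    have w1 : (yon S).map a ≫ ((yon S).map g ≫ x) ≫ f = (yon S).map b ≫ E.obj.hom := w
    clear w
    have w2 : (yon S).map (a ≫ g) ≫ x ≫ f = (yon S).map b ≫ E.obj.hom := by
      rw [Functor.map_comp, Category.assoc]; simpa only [Category.assoc] using w1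
    refine (tautPt_ψ hf φ _ E hE a b w1 m).trans (Eq.trans ?_ (tautPt_ψ hf φ x E hE (a ≫ g) b w2 m).symm)
    refine congrArg (fun l => pullFun hf φ E l m) (hf.hom_ext ?_ ?_)
    · rw [hf.lift_fst, hf.lift_fst, Functor.map_comp, Category.assoc]
    · rw [hf.lift_snd, hf.lift_snd]

/-- the tautological map -/
def taut (φ : P ⟶ (pushModEt hf).obj (unitModEt X)) : X ⟶ vSp P where
  hom :=
    { app := fun T => TypeCat.ofHom fun σ => tautPt hf φ ((AlgSp.J S).uliftYonedaEquiv.symm σ)
      naturality := fun T T' g => by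
        ext σ
        show tautPt hf φ ((AlgSp.J S).uliftYonedaEquiv.symm (X.obj.map g σ)) = (tautPt hf φ _).pull g.unop
        rw [← tautPt_pull]
        exact congrArg (tautPt hf φ) ((AlgSp.J S).uliftYonedaEquiv_symm_naturality_left g.unop X σ).symm }

theorem vEquiv_taut (φ : P ⟶ (pushModEt hf).obj (unitModEt X)) {T : Over S} (x : (yon S).obj T ⟶ X) :
    vEquiv (x ≫ taut hf φ) = tautPt hf φ x := by
  refine (Groth.Agent.AlgSpLib.uliftYonedaEquiv_comp' x (taut hf φ)).trans ?_
  show tautPt hf φ ((AlgSp.J S).uliftYonedaEquiv.symm ((AlgSp.J S).uliftYonedaEquiv x)) = _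
  rw [Equiv.symm_apply_apply]

theorem taut_π (φ : P ⟶ (pushModEt hf).obj (unitModEt X)) : taut hf φ ≫ vπ P = f :=
  (AlgSp.J S).hom_ext_uliftYoneda.{u + 1} fun T x => by
    rw [← Category.assoc, comp_vπ, vEquiv_taut]
    rfl

theorem taut_vMap (i : P ⟶ P') (φ : P' ⟶ (pushModEt hf).obj (unitModEt X)) :
    taut hf φ ≫ vMap i = taut hf (i ≫ φ) :=
  (AlgSp.J S).hom_ext_uliftYoneda.{u + 1} fun T x => vEquiv.injective (by
    rw [← Category.assoc, vEquiv_vMap, vEquiv_taut, vEquiv_taut]
    refine Pt.ext' rfl fun E hE W a b w m => ?_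
    show (tautPt hf φ x).ψ E hE W a b (appM i E m) = (tautPt hf (i ≫ φ) x).ψ E hE W a b m
    exact (tautPt_ψ hf φ x E hE a b w _).trans (tautPt_ψ hf (i ≫ φ) x E hE a b w m).symm)

end Groth.Agent.SpApprox
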